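import Mathlib

/-!
A finite group of order `2 ^ p * (2 ^ p - 1) * p` (`p ≥ 5` prime) with one class of involutions,
all of whose centralisers have order `2 ^ p`, has a normal Sylow 2-subgroup.
-/

set_option autoImplicit false
set_option linter.style.haveILetI false
set_option linter.unusedSectionVars false

namespace CfsgLib.JankoThompson.NoAffine

open Subgroup

variable {G : Type*} [Group G]

/-- The elements of order at most two in the centre of `Q`. -/
def omegaCenter (Q : Subgroup G) : Subgroup G where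
  carrier := {v | v ∈ Q ∧ (∀ w ∈ Q, w * v = v * w) ∧ v * v = 1}
  one_mem' := ⟨Q.one_mem, by simp, by simp⟩
  mul_mem' := by
    rintro a b ⟨ha, hac, ha2⟩ ⟨hb, hbc, hb2⟩
    refine ⟨Q.mul_mem ha hb, fun w hw => ?_, ?_⟩
    · rw [← mul_assoc, hac w hw, mul_assoc, hbc w hw, ← mul_assoc]
    · have h := hac b hb
      calc a * b * (a * b) = a * (b * a) * b := by simp only [mul_assoc]
        _ = a * (a * b) * b := by rw [h]
        _ = (a * a) * (b * b) := by simp only [mul_assoc]
        _ = 1 := by rw [ha2, hb2, one_mul]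
  inv_mem' := by
    rintro a ⟨ha, hac, ha2⟩
    rw [inv_eq_of_mul_eq_one_right ha2]
    exact ⟨ha, hac, ha2⟩

theorem mem_omegaCenter {Q : Subgroup G} {v : G} :
    v ∈ omegaCenter Q ↔ v ∈ Q ∧ (∀ w ∈ Q, w * v = v * w) ∧ v * v = 1 := Iff.rfl

theorem omegaCenter_le (Q : Subgroup G) : omegaCenter Q ≤ Q := fun _ h => h.1

theorem conj_mem_omegaCenter {Q : Subgroup G} {g v : G} (hg : g ∈ normalizer (Q : Set G))
    (hv : v ∈ omegaCenter Q) : g * v * g⁻¹ ∈ omegaCenter Q := by
  obtain ⟨hv, hvc, hv2⟩ := hv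
  refine ⟨(mem_normalizer_iff.mp hg v).mp hv, fun w hw => ?_, ?_⟩
  · have h := hvc (g⁻¹ * w * g) ((mem_normalizer_iff''.mp hg w).mp hw)
    calc w * (g * v * g⁻¹) = g * ((g⁻¹ * w * g) * v) * g⁻¹ := by group
      _ = g * (v * (g⁻¹ * w * g)) * g⁻¹ := by rw [h]
      _ = g * v * g⁻¹ * w := by group
  · calc g * v * g⁻¹ * (g * v * g⁻¹) = g * (v * v) * g⁻¹ := by group
      _ = 1 := by rw [hv2, mul_one, mul_inv_cancel]

theorem mem_normalizer_omegaCenter {Q : Subgroup G} {g : G} (hg : g ∈ normalizer (Q : Set G)) :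
    g ∈ normalizer (omegaCenter Q : Set G) := by
  refine mem_normalizer_iff.mpr fun v => ⟨conj_mem_omegaCenter hg, fun h => ?_⟩
  have := conj_mem_omegaCenter (inv_mem hg) h
  simpa [mul_assoc] using this

theorem ne_one_of_orderOf_two {j : G} (hj : orderOf j = 2) : j ≠ 1 := by
  rintro rfl
  rw [orderOf_one] at hj
  omega

theorem mul_self_of_orderOf_two {j : G} (hj : orderOf j = 2) : j * j = 1 := by
  rw [← pow_two, ← hj, pow_orderOf_eq_one]

theorem orderOf_two {j : G} (h1 : j ≠ 1) (h2 : j * j = 1) : orderOf j = 2 :=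
  orderOf_eq_prime (by rw [pow_two, h2]) h1

variable [Finite G]

/-- An element of prime order acting without fixed points on a normalised subgroup. -/
theorem dvd_card_sub_one {u : G} {r : ℕ} (hr : r.Prime) (hu : orderOf u = r) (M : Subgroup G)
    (hM : u ∈ normalizer (M : Set G)) (hfix : ∀ v ∈ M, u * v * u⁻¹ = v → v = 1) :
    r ∣ Nat.card ↥M - 1 := by
  classical
  haveI := Fact.mk hr
  haveI : Fintype ↥M := Fintype.ofFinite _
  let f : Function.End ↥M := fun v => ⟨u * v.1 * u⁻¹, (mem_normalizer_iff.mp hM v.1).mp v.2⟩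
  have hk : ∀ (k : ℕ) (v : ↥M), (((f ^ k) v : ↥M) : G) = u ^ k * v.1 * (u ^ k)⁻¹ := by
    intro k
    induction k with
    | zero =>
      intro v
      have e : (f ^ 0) v = v := by rw [pow_zero]; rfl
      rw [e, pow_zero]
      group
    | succ k ih =>
      intro v
      have e : (f ^ (k + 1)) v = f ((f ^ k) v) := by rw [pow_succ']; rfl
      rw [e]
      show u * (((f ^ k) v : ↥M) : G) * u⁻¹ = _
      rw [ih, pow_succ']
      group
  have hf : f ^ r ^ 1 = 1 := by
    funext v
    apply Subtype.ext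
    rw [hk, pow_one, ← hu, pow_orderOf_eq_one, one_mul, inv_one, mul_one]
    rfl
  have h := Equiv.Perm.card_fixedPoints_modEq hf
  have h1 : Fintype.card (Function.fixedPoints f) = 1 := by
    refine Fintype.card_eq_one_iff.mpr
      ⟨⟨1, Subtype.ext (by show u * (1 : ↥M).1 * u⁻¹ = (1 : ↥M).1; simp)⟩, fun v => ?_⟩
    have e : u * v.1.1 * u⁻¹ = v.1.1 := congrArg Subtype.val v.2
    exact Subtype.ext (Subtype.ext (hfix _ v.1.2 e))
  rw [h1, ← Nat.card_eq_fintype_card] at h
  exact (Nat.modEq_iff_dvd' Nat.card_pos).mp h.symm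

theorem exists_odd_prime_order (H : Subgroup G) (h : ¬ IsPGroup 2 ↥H) :
    ∃ u ∈ H, ∃ r : ℕ, r.Prime ∧ r ≠ 2 ∧ orderOf u = r := by
  by_contra hne
  refine h (IsPGroup.of_card (n := (Nat.card ↥H).primeFactorsList.length)
    (Nat.eq_prime_pow_of_unique_prime_dvd Nat.card_pos.ne' fun {d} hd hdvd => ?_))
  by_contra hd2
  haveI := Fact.mk hd
  obtain ⟨u, hu⟩ := exists_prime_orderOf_dvd_card' (G := ↥H) d hdvd
  exact hne ⟨u.1, u.2, d, hd, hd2, by rw [Subgroup.orderOf_coe, hu]⟩

theorem exists_involution {P : Subgroup G} (hP : IsPGroup 2 ↥P) (h : P ≠ ⊥) :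
    ∃ a ∈ P, orderOf a = 2 := by
  haveI := Fact.mk Nat.prime_two
  haveI : Nontrivial ↥P := (Subgroup.nontrivial_iff_ne_bot P).mpr h
  obtain ⟨k, hk, hcard⟩ := hP.nontrivial_iff_card.mp inferInstance
  obtain ⟨a, ha⟩ := exists_prime_orderOf_dvd_card' (G := ↥P) 2 (hcard ▸ dvd_pow_self 2 hk.ne')
  exact ⟨a.1, a.2, by rw [Subgroup.orderOf_coe, ha]⟩

theorem exists_sq_mem {Q : Subgroup G} {K : Subgroup G} {P : Subgroup G} (hP : IsPGroup 2 ↥P)
    {g : G} (hgP : g ∈ P) (hgK : g ∈ K) (hgQ : g ∉ Q) :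
    ∃ x ∈ P, x ∈ K ∧ x ∉ Q ∧ x * x ∈ Q := by
  classical
  have hex : ∃ i : ℕ, g ^ 2 ^ i ∈ Q := by
    obtain ⟨k, hk⟩ := hP ⟨g, hgP⟩
    have : g ^ 2 ^ k = 1 := congrArg Subtype.val hk
    exact ⟨k, this ▸ Q.one_mem⟩
  have hspec := Nat.find_spec hex
  rcases Nat.eq_zero_or_pos (Nat.find hex) with h0 | hpos
  · rw [h0, pow_zero, pow_one] at hspec
    exact absurd hspec hgQ
  · refine ⟨g ^ 2 ^ (Nat.find hex - 1), P.pow_mem hgP _, K.pow_mem hgK _,
      Nat.find_min hex (by omega), ?_⟩
    rw [← pow_add, ← two_mul, ← pow_succ', Nat.sub_add_cancel hpos]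
    exact hspec

theorem exists_normal_sylow {p : ℕ} (hp : p.Prime) (h5 : 5 ≤ p)
    (hG : Nat.card G = 2 ^ p * ((2 ^ p - 1) * p))
    (hcent : ∀ j : G, orderOf j = 2 → Nat.card ↥(centralizer ({j} : Set G)) = 2 ^ p)
    (hconj : ∀ a b : G, orderOf a = 2 → orderOf b = 2 → IsConj a b) :
    ∃ P : Sylow 2 G, (P : Subgroup G).Normal := by
  classical
  haveI := Fact.mk Nat.prime_two
  have hq1 : 1 ≤ 2 ^ p := Nat.one_le_two_pow
  have hmodd : ¬ 2 ∣ (2 ^ p - 1) * p := by
    rw [Nat.Prime.dvd_mul Nat.prime_two, not_or]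
    constructor
    · have : 2 ∣ 2 ^ p := dvd_pow_self 2 hp.ne_zero
      omega
    · intro h
      have := (Nat.prime_dvd_prime_iff_eq Nat.prime_two hp).mp h
      omega
  have hm0 : (2 ^ p - 1) * p ≠ 0 := fun h => hmodd (h ▸ dvd_zero 2)
  have hfac : (Nat.card G).factorization 2 = p := by
    rw [hG, Nat.factorization_mul (by positivity) hm0, Finsupp.add_apply,
      Nat.Prime.factorization_pow Nat.prime_two, Finsupp.single_eq_same,
      Nat.factorization_eq_zero_of_not_dvd hmodd, add_zero]
  have hP : ∀ P : Sylow 2 G, Nat.card ↥(P : Subgroup G) = 2 ^ p := fun P => by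
    have := P.card_eq_multiplicity
    rw [hfac] at this
    exact this
  -- the centraliser of an involution central in a Sylow subgroup is that subgroup
  have hCP : ∀ (P : Sylow 2 G) (a : G), orderOf a = 2 →
      (∀ w ∈ (P : Subgroup G), w * a = a * w) → centralizer ({a} : Set G) = P := by
    intro P a ha hw
    refine (Subgroup.eq_of_le_of_card_ge (fun w hwP => mem_centralizer_singleton_iff.mpr (hw w hwP))
      ?_).symm
    rw [hcent a ha, hP P]
  have hPne : ∀ P : Sylow 2 G, (P : Subgroup G) ≠ ⊥ := fun P h => by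
    have := hP P
    rw [h, Subgroup.card_bot] at this
    have : 2 ∣ 2 ^ p := dvd_pow_self 2 hp.ne_zero
    omega
  by_cases hTI : ∀ P P' : Sylow 2 G, P ≠ P' → (P : Subgroup G) ⊓ P' = ⊥
  · -- trivial intersections: the number of Sylow subgroups is 1 mod 2^p
    obtain ⟨P⟩ : Nonempty (Sylow 2 G) := inferInstance
    refine ⟨P, ?_⟩
    have hfix : ∀ R : Sylow 2 G, (∀ g : ↥(P : Subgroup G), g • R = R) → R = P := by
      intro R hR
      have hle : (P : Subgroup G) ≤ normalizer (R : Set G) := fun g hg =>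
        Sylow.smul_eq_iff_mem_normalizer.mp (hR ⟨g, hg⟩)
      have h1 := IsPGroup.inf_normalizer_sylow P.isPGroup' R
      rw [inf_eq_left.mpr hle] at h1
      exact Sylow.ext (P.is_maximal' R.isPGroup' (inf_eq_left.mp h1.symm))
    let S : SubMulAction ↥(P : Subgroup G) (Sylow 2 G) :=
      { carrier := {R | R ≠ P}
        smul_mem' := fun g R hR h => hR (by
          have e : g • R = g • P := by
            rw [h]
            exact (Sylow.smul_eq_iff_mem_normalizer.mpr (le_normalizer g.2)).symm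
          exact smul_left_cancel g e) }
    have hfree : ∀ b : ↥S, MulAction.stabilizer ↥(P : Subgroup G) b = ⊥ := by
      intro b
      rw [eq_bot_iff]
      intro g hg
      have hgb : g • (b.1 : Sylow 2 G) = b.1 := congrArg Subtype.val hg
      have hmem : g.1 ∈ (P : Subgroup G) ⊓ normalizer ((b.1 : Sylow 2 G) : Set G) :=
        ⟨g.2, Sylow.smul_eq_iff_mem_normalizer.mp hgb⟩
      rw [IsPGroup.inf_normalizer_sylow P.isPGroup', hTI P b.1 (Ne.symm b.2)] at hmem
      exact Subtype.ext (Subgroup.mem_bot.mp hmem)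
    have hdvd : 2 ^ p ∣ Nat.card ↥S := by
      rw [Nat.card_congr (MulAction.selfEquivOrbitsQuotientProd hfree), Nat.card_prod, hP P]
      exact dvd_mul_left _ _
    have hcard : Nat.card (Sylow 2 G) = Nat.card ↥S + 1 := by
      rw [← Nat.card_congr (Equiv.sumCompl (fun R : Sylow 2 G => R ≠ P)), Nat.card_sum]
      refine congrArg₂ (· + ·) rfl ?_
      rw [Nat.card_eq_one_iff_unique]
      exact ⟨⟨fun a b => Subtype.ext ((not_not.mp a.2).trans (not_not.mp b.2).symm)⟩,
        ⟨⟨P, not_not.mpr rfl⟩⟩⟩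
    obtain ⟨a, ha⟩ := hdvd
    have hidx : (P : Subgroup G).index = (2 ^ p - 1) * p := by
      have := (P : Subgroup G).card_mul_index
      rw [hP P, hG] at this
      exact Nat.eq_of_mul_eq_mul_left (by positivity) this
    obtain ⟨t, ht⟩ := P.card_dvd_index
    rw [hidx, hcard, ha] at ht
    have ha0 : a = 0 := by
      by_contra hane
      have h1 : 1 ≤ a := Nat.one_le_iff_ne_zero.mpr hane
      have h8 : 4 * p ≤ 2 ^ p := by
        have h : ∀ k : ℕ, 4 * (k + 4) ≤ 2 ^ (k + 4) := by
          intro k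
          induction k with
          | zero => norm_num
          | succ k ih => rw [show k + 1 + 4 = (k + 4) + 1 by omega, pow_succ]; omega
        obtain ⟨k, hk⟩ := Nat.exists_eq_add_of_le' (show 4 ≤ p by omega)
        exact hk ▸ h k
      generalize hq : 2 ^ p = q at *
      obtain ⟨q', rfl⟩ : ∃ q', q = q' + 1 := ⟨q - 1, by omega⟩
      rw [Nat.add_sub_cancel] at ht
      have ht0 : 1 ≤ t := by
        rcases Nat.eq_zero_or_pos t with h | h
        · subst h
          simp at ht
          omega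
        · exact h
      -- q' * p + p = q * p, so t + p is a positive multiple of q
      rcases le_or_gt p (t * a) with hle | hlt
      · have : (q' + 1) * p ≤ (q' + 1) * (t * a) := Nat.mul_le_mul_left _ hle
        nlinarith
      · have hta : t ≤ t * a := Nat.le_mul_of_pos_right t h1
        have : (q' + 1) * (t * a) + (q' + 1) ≤ (q' + 1) * p := by
          rw [← Nat.mul_succ]; exact Nat.mul_le_mul_left _ hlt
        nlinarith
    have hone : Nat.card (Sylow 2 G) = 1 := by rw [hcard, ha, ha0, mul_zero]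
    haveI : Subsingleton (Sylow 2 G) := (Nat.card_eq_one_iff_unique.mp hone).1
    exact Sylow.normal_of_subsingleton P
  · exfalso
    simp only [not_forall] at hTI
    obtain ⟨R₀, R₁, hne₀, hint₀⟩ := hTI
    -- no Sylow subgroup is abelian
    have hnab : ∀ P : Sylow 2 G,
        ¬ ∀ x ∈ (P : Subgroup G), ∀ y ∈ (P : Subgroup G), x * y = y * x := by
      intro P hcomm
      obtain ⟨a, haI, ha⟩ := exists_involution (P := (R₀ : Subgroup G) ⊓ R₁)
        (R₀.isPGroup'.to_le inf_le_left) hint₀
      have hall : ∀ R : Sylow 2 G, a ∈ (R : Subgroup G) → centralizer ({a} : Set G) = R := by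
        intro R haR
        refine hCP R a ha fun w hw => ?_
        let e := Sylow.equiv R P
        have h := congrArg e.symm (Subtype.ext (hcomm _ (e ⟨w, hw⟩).2 _ (e ⟨a, haR⟩).2) :
          e ⟨w, hw⟩ * e ⟨a, haR⟩ = e ⟨a, haR⟩ * e ⟨w, hw⟩)
        rw [map_mul, map_mul, MulEquiv.symm_apply_apply, MulEquiv.symm_apply_apply] at h
        exact congrArg Subtype.val h
      exact hne₀ (Sylow.ext ((hall R₀ haI.1).symm.trans (hall R₁ haI.2)))
    -- at most one central involution in each Sylow subgroup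
    have huniq : ∀ (P : Sylow 2 G) (a b : G), a ∈ (P : Subgroup G) → b ∈ (P : Subgroup G) →
        orderOf a = 2 → orderOf b = 2 → (∀ w ∈ (P : Subgroup G), w * a = a * w) →
        (∀ w ∈ (P : Subgroup G), w * b = b * w) → a = b := by
      intro P a b haP hbP ha hb hac hbc
      by_contra hab
      obtain ⟨g, hg⟩ := isConj_iff.mp (hconj a b ha hb)
      have hgN : g ∈ normalizer ((P : Subgroup G) : Set G) := by
        refine mem_normalizer_iff.mpr fun x => ?_
        have e1 := hCP P a ha hac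
        have e2 := hCP P b hb hbc
        conv_lhs => rw [← e1]
        conv_rhs => rw [← e2]
        rw [mem_centralizer_singleton_iff, mem_centralizer_singleton_iff, ← hg]
        constructor
        · intro h
          calc g * x * g⁻¹ * (g * a * g⁻¹) = g * (x * a) * g⁻¹ := by group
            _ = g * (a * x) * g⁻¹ := by rw [h]
            _ = g * a * g⁻¹ * (g * x * g⁻¹) := by group
        · intro h
          calc x * a = g⁻¹ * (g * x * g⁻¹ * (g * a * g⁻¹)) * g := by group
            _ = g⁻¹ * (g * a * g⁻¹ * (g * x * g⁻¹)) * g := by rw [h]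
            _ = a * x := by group
      have hnot : ¬ IsPGroup 2 ↥(normalizer ((P : Subgroup G) : Set G)) := by
        intro h2
        have e := P.is_maximal' h2 le_normalizer
        rw [e] at hgN
        exact hab (by rw [← hg, hac g hgN, mul_inv_cancel_right])
      obtain ⟨u, huN, r, hr, hr2, hur⟩ := exists_odd_prime_order _ hnot
      haveI := Fact.mk hr
      have hfix : ∀ v ∈ (P : Subgroup G), u * v * u⁻¹ = v → v = 1 := by
        intro v hv huv
        by_contra hv1
        obtain ⟨w, hwv, hw⟩ := exists_involution (P := zpowers v)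
          (P.isPGroup'.to_le (zpowers_le.mpr hv)) (by simpa [zpowers_eq_bot] using hv1)
        obtain ⟨k, rfl⟩ := mem_zpowers_iff.mp hwv
        have hc : Commute u v := (mul_inv_eq_iff_eq_mul.mp huv)
        have humem : u ∈ centralizer ({v ^ k} : Set G) :=
          mem_centralizer_singleton_iff.mpr (hc.zpow_right k)
        have hd : orderOf u ∣ 2 ^ p := by
          rw [← hcent _ hw, ← Subgroup.orderOf_mk u humem]
          exact orderOf_dvd_natCard _
        rw [hur] at hd
        exact hr2 ((Nat.prime_dvd_prime_iff_eq hr Nat.prime_two).mp (hr.dvd_of_dvd_pow hd))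
      have hd1 : r ∣ 2 ^ p - 1 := by
        have := dvd_card_sub_one hr hur _ huN hfix
        rwa [hP P] at this
      have hd2 := dvd_card_sub_one hr hur _ (mem_normalizer_omegaCenter huN)
        fun v hv => hfix v (omegaCenter_le _ hv)
      obtain ⟨c, hc⟩ := IsPGroup.iff_card.mp
        (P.isPGroup'.to_le (omegaCenter_le (P : Subgroup G)))
      rw [hc] at hd2
      have hcp : c ≤ p := by
        have h := Subgroup.card_le_of_le (omegaCenter_le (P : Subgroup G))
        rw [hc, hP P] at h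
        exact (Nat.pow_le_pow_iff_right (by norm_num)).mp h
      have hc0 : c ≠ 0 := by
        rintro rfl
        have h := Subgroup.card_eq_one.mp (hc.trans (pow_zero 2))
        have : a ∈ omegaCenter (P : Subgroup G) := ⟨haP, hac, mul_self_of_orderOf_two ha⟩
        rw [h, Subgroup.mem_bot] at this
        exact ne_one_of_orderOf_two ha this
      have hgcd : r ∣ 2 ^ Nat.gcd c p - 1 := by
        rw [← Nat.pow_sub_one_gcd_pow_sub_one]
        exact Nat.dvd_gcd hd2 hd1
      rcases (Nat.dvd_prime hp).mp (Nat.gcd_dvd_right c p) with h | h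
      · rw [h] at hgcd
        norm_num at hgcd
        exact hr.ne_one hgcd
      · have hpc : p ∣ c := h ▸ Nat.gcd_dvd_left c p
        have hcp' : c = p := le_antisymm hcp (Nat.le_of_dvd (Nat.pos_of_ne_zero hc0) hpc)
        have heq : omegaCenter (P : Subgroup G) = P :=
          Subgroup.eq_of_le_of_card_ge (omegaCenter_le _) (by rw [hc, hP P, hcp'])
        refine hnab P fun x hx y hy => ?_
        rw [← heq] at hy
        exact hy.2.1 x hx
    -- a maximal intersection
    haveI : Fintype (Sylow 2 G) := Fintype.ofFinite _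
    obtain ⟨⟨P, P'⟩, hmem, hmax⟩ := Finset.exists_max_image
      (Finset.univ.filter fun x : Sylow 2 G × Sylow 2 G => x.1 ≠ x.2)
      (fun x => Nat.card ↥((x.1 : Subgroup G) ⊓ (x.2 : Subgroup G))) ⟨(R₀, R₁), by simpa using hne₀⟩
    simp only [Finset.mem_filter, Finset.mem_univ, true_and] at hmem
    set Q : Subgroup G := (P : Subgroup G) ⊓ (P' : Subgroup G) with hQ
    have hQne : Q ≠ ⊥ := by
      intro h
      have h1 := hmax (R₀, R₁) (by simpa using hne₀)
      have h2 : 1 < Nat.card ↥((R₀ : Subgroup G) ⊓ (R₁ : Subgroup G)) :=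
        Subgroup.one_lt_card_iff_ne_bot _ |>.mpr hint₀
      have h3 : Nat.card ↥Q = 1 := Subgroup.card_eq_one.mpr h
      change Nat.card ↥((R₀ : Subgroup G) ⊓ (R₁ : Subgroup G)) ≤ Nat.card ↥Q at h1
      omega
    -- a Sylow subgroup containing `Q` and an element of `R \ Q`
    have hforce : ∀ (R T : Sylow 2 G) (g : G), Q ≤ R → Q ≤ T → g ∈ (R : Subgroup G) →
        g ∈ (T : Subgroup G) → g ∉ Q → R = T := by
      intro R T g hR hT hgR hgT hgQ
      by_contra hne
      have h1 := hmax (R, T) (by simpa using hne)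
      have heq : Q = (R : Subgroup G) ⊓ T := Subgroup.eq_of_le_of_card_ge (le_inf hR hT) h1
      exact hgQ (heq ▸ ⟨hgR, hgT⟩)
    -- normalisers grow
    have hgrow : ∀ T : Sylow 2 G, Q ≤ T → Q ≠ T →
        ∃ g ∈ (T : Subgroup G), g ∈ normalizer (Q : Set G) ∧ g ∉ Q ∧ g * g ∈ Q := by
      intro T hT hTne
      haveI : Group.IsNilpotent ↥(T : Subgroup G) := T.isPGroup'.isNilpotent
      have hlt : Q.subgroupOf T < ⊤ := lt_top_iff_ne_top.mpr fun h =>
        hTne (le_antisymm hT (subgroupOf_eq_top.mp h))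
      obtain ⟨x, hx, hxQ⟩ := SetLike.exists_of_lt
        (Group.normalizerCondition_of_isNilpotent _ hlt)
      refine exists_sq_mem T.isPGroup' x.2 ?_ hxQ
      refine mem_normalizer_iff.mpr fun v => ⟨fun hv => ?_, fun hv => ?_⟩
      · exact ((mem_normalizer_iff.mp hx ⟨v, hT hv⟩).mp hv)
      · have hvT : v ∈ (T : Subgroup G) := by
          have := (T : Subgroup G).mul_mem ((T : Subgroup G).mul_mem
            ((T : Subgroup G).inv_mem x.2) (hT hv)) x.2
          simpa [mul_assoc] using this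
        exact ((mem_normalizer_iff.mp hx ⟨v, hvT⟩).mpr hv)
    have hne' : ∀ T : Sylow 2 G, T = P ∨ T = P' → Q ≠ T := by
      rintro T (rfl | rfl) h
      · exact hmem (Sylow.ext ((T.is_maximal' P'.isPGroup' (h ▸ inf_le_right)))).symm
      · exact hmem (Sylow.ext ((T.is_maximal' P.isPGroup' (h ▸ inf_le_left))))
    obtain ⟨g, hgP, hgN, hgQ, hg2⟩ := hgrow P inf_le_left (hne' P (Or.inl rfl))
    obtain ⟨g', hgP', hgN', hgQ', -⟩ := hgrow P' inf_le_right (hne' P' (Or.inr rfl))
    have hnot : ¬ IsPGroup 2 ↥(normalizer (Q : Set G)) := by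
      intro h2
      obtain ⟨R, hR⟩ := h2.exists_le_sylow
      have hQR : Q ≤ R := le_normalizer.trans hR
      exact hmem ((hforce R P g hQR inf_le_left (hR hgN) hgP hgQ).symm.trans
        (hforce R P' g' hQR inf_le_right (hR hgN') hgP' hgQ'))
    obtain ⟨u, huN, r, hr, hr2, hur⟩ := exists_odd_prime_order _ hnot
    have hQ2 : IsPGroup 2 ↥Q := P.isPGroup'.to_le inf_le_left
    set Z := omegaCenter Q with hZ
    have hZne : 1 < Nat.card ↥Z := by
      haveI : Nontrivial ↥Q := (Subgroup.nontrivial_iff_ne_bot Q).mpr hQne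
      haveI := hQ2.center_nontrivial
      obtain ⟨z, hz, hzo⟩ := exists_involution (P := (center ↥Q).map Q.subtype)
        (hQ2.to_le (map_subtype_le _)) (by
          rw [Ne, Subgroup.map_eq_bot_iff_of_injective _ Q.subtype_injective]
          exact (Subgroup.nontrivial_iff_ne_bot _).mp inferInstance)
      obtain ⟨z', hz', rfl⟩ := Subgroup.mem_map.mp hz
      refine Subgroup.one_lt_card_iff_ne_bot _ |>.mpr fun h => ne_one_of_orderOf_two hzo ?_
      have : (z' : G) ∈ Z := ⟨z'.2, fun w hw =>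
        congrArg Subtype.val (Subgroup.mem_center_iff.mp hz' ⟨w, hw⟩),
        mul_self_of_orderOf_two hzo⟩
      rw [h, Subgroup.mem_bot] at this
      exact this
    -- two nontrivial fixed points of `g` in `Z` are equal
    have hfixg : ∀ h : G, h ∈ Z → g * h = h * g → orderOf h = 2 →
        h ∈ (P : Subgroup G) ∧ ∀ w ∈ (P : Subgroup G), w * h = h * w := by
      intro h hh hgh ho
      let R : Sylow 2 G := Sylow.ofCard (centralizer ({h} : Set G)) (by rw [hcent h ho, hfac])
      have hR : (R : Subgroup G) = centralizer ({h} : Set G) := Sylow.coe_ofCard _ _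
      have hQR : Q ≤ R := fun w hw => hR ▸ mem_centralizer_singleton_iff.mpr (hh.2.1 w hw)
      have hgR : g ∈ (R : Subgroup G) := hR ▸ mem_centralizer_singleton_iff.mpr hgh
      have e := hforce R P g hQR inf_le_left hgR hgP hgQ
      refine ⟨(hh.1 : h ∈ Q).1, fun w hw => ?_⟩
      rw [← e, hR] at hw
      exact mem_centralizer_singleton_iff.mp hw
    have hZ4 : Nat.card ↥Z ≤ 4 := by
      haveI : Fintype ↥Z := Fintype.ofFinite _
      let F : ↥Z → G := fun v => v.1 * (g * v.1 * g⁻¹)
      let S : Finset ↥Z := Finset.univ.filter fun v => g * v.1 = v.1 * g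
      have hS : S.card ≤ 2 := by
        have : ∀ a ∈ S, ∀ b ∈ S, a ≠ 1 → b ≠ 1 → a = b := by
          intro a ha b hb ha1 hb1
          simp only [S, Finset.mem_filter, Finset.mem_univ, true_and] at ha hb
          have oa : orderOf a.1 = 2 :=
            orderOf_two (fun h => ha1 (Subtype.ext h)) a.2.2.2
          have ob : orderOf b.1 = 2 :=
            orderOf_two (fun h => hb1 (Subtype.ext h)) b.2.2.2
          obtain ⟨haP, hac⟩ := hfixg _ a.2 ha oa
          obtain ⟨hbP, hbc⟩ := hfixg _ b.2 hb ob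
          exact Subtype.ext (huniq P _ _ haP hbP oa ob hac hbc)
        have h1 : (S.erase 1).card ≤ 1 := Finset.card_le_one.mpr fun a ha b hb => by
          simp only [Finset.mem_erase] at ha hb
          exact this a ha.2 b hb.2 ha.1 hb.1
        have := Finset.pred_card_le_card_erase (s := S) (a := (1 : ↥Z))
        omega
      let T : ↥Z → ↥Z := fun v => ⟨v.1 * (g * v.1 * g⁻¹), Z.mul_mem v.2 (conj_mem_omegaCenter hgN v.2)⟩
      have hT : ∀ v, T v ∈ S := by
        intro v
        simp only [S, T, Finset.mem_filter, Finset.mem_univ, true_and]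
        have hgv := conj_mem_omegaCenter hgN v.2
        have h1 : g * g * v.1 = v.1 * (g * g) := v.2.2.1 _ hg2
        have h2 : g * v.1 * g⁻¹ * v.1 = v.1 * (g * v.1 * g⁻¹) := v.2.2.1 _ hgv.1
        calc g * (v.1 * (g * v.1 * g⁻¹)) = (g * v.1 * g⁻¹) * (g * g * v.1) * g⁻¹ := by group
          _ = (g * v.1 * g⁻¹) * (v.1 * (g * g)) * g⁻¹ := by rw [h1]
          _ = (g * v.1 * g⁻¹ * v.1) * g := by group
          _ = v.1 * (g * v.1 * g⁻¹) * g := by rw [h2]
      have hfib : ∀ y ∈ (Finset.univ : Finset ↥Z).image T,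
          ((Finset.univ : Finset ↥Z).filter fun v => T v = y).card ≤ 2 := by
        intro y hy
        obtain ⟨v₀, -, rfl⟩ := Finset.mem_image.mp hy
        refine le_trans (Finset.card_le_card_of_injOn (fun v => v * v₀) (fun v hv => ?_)
          (fun a _ b _ h => mul_right_cancel h)) hS
        simp only [Finset.mem_filter, Finset.mem_univ, true_and, Finset.mem_coe] at hv
        simp only [S, Finset.mem_coe, Finset.mem_filter, Finset.mem_univ, true_and]
        have e : v.1 * (g * v.1 * g⁻¹) = v₀.1 * (g * v₀.1 * g⁻¹) := congrArg Subtype.val hv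
        have c1 : v.1 * v.1 = 1 := v.2.2.2
        have c2 : v₀.1 * v₀.1 = 1 := v₀.2.2.2
        have c3 : (g * v.1 * g⁻¹) * (g * v.1 * g⁻¹) = 1 := (conj_mem_omegaCenter hgN v.2).2.2
        have c4 : v.1 * v₀.1 = v₀.1 * v.1 := v₀.2.2.1 _ v.2.1
        have e' : g * v₀.1 * g⁻¹ = v₀.1 * v.1 * (g * v.1 * g⁻¹) := by
          rw [mul_assoc v₀.1 v.1, e, ← mul_assoc v₀.1 v₀.1, c2, one_mul]
        show g * (v.1 * v₀.1) = v.1 * v₀.1 * g
        have hmid : (g * v.1 * g⁻¹) * (g * v₀.1 * g⁻¹) = v.1 * v₀.1 := by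
          have hcomm : (g * v.1 * g⁻¹) * (v₀.1 * v.1) = v₀.1 * v.1 * (g * v.1 * g⁻¹) := by
            have a1 := v₀.2.2.1 _ (conj_mem_omegaCenter hgN v.2).1
            have a2 := v.2.2.1 _ (conj_mem_omegaCenter hgN v.2).1
            rw [← mul_assoc, a1, mul_assoc, a2, ← mul_assoc]
          calc (g * v.1 * g⁻¹) * (g * v₀.1 * g⁻¹)
              = (g * v.1 * g⁻¹) * (v₀.1 * v.1) * (g * v.1 * g⁻¹) := by rw [e']; simp only [mul_assoc]
            _ = v₀.1 * v.1 * ((g * v.1 * g⁻¹) * (g * v.1 * g⁻¹)) := by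
              rw [hcomm]; simp only [mul_assoc]
            _ = v.1 * v₀.1 := by rw [c3, mul_one, c4]
        calc g * (v.1 * v₀.1) = (g * v.1 * g⁻¹) * (g * v₀.1 * g⁻¹) * g := by group
          _ = v.1 * v₀.1 * g := by rw [hmid]
      have himg : ((Finset.univ : Finset ↥Z).image T).card ≤ 2 :=
        le_trans (Finset.card_le_card fun y hy => by
          obtain ⟨v, -, rfl⟩ := Finset.mem_image.mp hy
          exact hT v) hS
      have := Finset.card_le_mul_card_image (Finset.univ : Finset ↥Z) 2 hfib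
      rw [Nat.card_eq_fintype_card, ← Finset.card_univ]
      omega
    have hfix : ∀ v ∈ Z, u * v * u⁻¹ = v → v = 1 := by
      intro v hv huv
      by_contra hv1
      have hd : orderOf u ∣ 2 ^ p := by
        rw [← hcent v (orderOf_two hv1 hv.2.2), ← Subgroup.orderOf_mk u
          (mem_centralizer_singleton_iff.mpr (mul_inv_eq_iff_eq_mul.mp huv))]
        exact orderOf_dvd_natCard _
      rw [hur] at hd
      exact hr2 ((Nat.prime_dvd_prime_iff_eq hr Nat.prime_two).mp (hr.dvd_of_dvd_pow hd))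
    have hd := dvd_card_sub_one hr hur Z (mem_normalizer_omegaCenter huN) hfix
    have hle : r ≤ 3 := (Nat.le_of_dvd (by omega) hd).trans (by omega)
    have hr3 : r = 3 := by have := hr.two_le; omega
    have h3 : 3 ∣ 2 ^ p * ((2 ^ p - 1) * p) := hG ▸ hr3 ▸ hur ▸ orderOf_dvd_natCard u
    rcases (Nat.Prime.dvd_mul Nat.prime_three).mp h3 with h | h
    · have := (Nat.prime_dvd_prime_iff_eq Nat.prime_three Nat.prime_two).mp
        (Nat.prime_three.dvd_of_dvd_pow h)
      omega
    · rcases (Nat.Prime.dvd_mul Nat.prime_three).mp h with h | h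
      · have h2 : (3 : ℕ) ∣ 2 ^ 2 - 1 := by norm_num
        have := Nat.dvd_gcd h2 h
        rw [Nat.pow_sub_one_gcd_pow_sub_one] at this
        have hg1 : Nat.gcd 2 p = 1 := (Nat.coprime_primes Nat.prime_two hp).mpr (by omega)
        rw [hg1] at this
        norm_num at this
      · have := (Nat.prime_dvd_prime_iff_eq Nat.prime_three hp).mp h
        omega

end CfsgLib.JankoThompson.NoAffine
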