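import Mathlib

/-!
A parity criterion: an involution of a simple group as a permutation of the cosets of a subgroup.
-/

set_option autoImplicit false

namespace CfsgLib.JankoThompson

open Subgroup MulAction

variable {G : Type*} [Group G]

theorem card_conj_fiber {t u : G} (h : ∃ g : G, g⁻¹ * t * g = u) :
    Nat.card {g : G // g⁻¹ * t * g = u} = Nat.card ↥(centralizer ({t} : Set G)) := by
  obtain ⟨g₀, hg₀⟩ := h
  refine Nat.card_congr
    { toFun := fun g => ⟨g.1 * g₀⁻¹, mem_centralizer_singleton_iff.mpr ?_⟩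
      invFun := fun c => ⟨c.1 * g₀, ?_⟩
      left_inv := fun g => Subtype.ext (by simp)
      right_inv := fun c => Subtype.ext (by simp) }
  · have h : g.1⁻¹ * t * g.1 = g₀⁻¹ * t * g₀ := g.2.trans hg₀.symm
    calc g.1 * g₀⁻¹ * t = g.1 * (g₀⁻¹ * t * g₀) * g₀⁻¹ := by group
      _ = g.1 * (g.1⁻¹ * t * g.1) * g₀⁻¹ := by rw [h]
      _ = t * (g.1 * g₀⁻¹) := by group
  · have hc := mem_centralizer_singleton_iff.mp c.2
    refine Eq.trans ?_ hg₀
    calc (c.1 * g₀)⁻¹ * t * (c.1 * g₀) = g₀⁻¹ * c.1⁻¹ * (t * c.1) * g₀ := by group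
      _ = g₀⁻¹ * c.1⁻¹ * (c.1 * t) * g₀ := by rw [hc]
      _ = g₀⁻¹ * t * g₀ := by group

variable [Finite G]

theorem card_preimage_conj (t : G) (S : Set G) :
    Nat.card {g : G // g⁻¹ * t * g ∈ S} =
      Nat.card ↥(centralizer ({t} : Set G)) * Nat.card {u : G // u ∈ S ∧ IsConj t u} := by
  classical
  let f : {g : G // g⁻¹ * t * g ∈ S} → {u : G // u ∈ S ∧ IsConj t u} :=
    fun g => ⟨g.1⁻¹ * t * g.1, g.2, isConj_iff.mpr ⟨g.1⁻¹, by group⟩⟩
  haveI : Fintype {u : G // u ∈ S ∧ IsConj t u} := Fintype.ofFinite _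
  rw [← Nat.card_congr (Equiv.sigmaFiberEquiv f), Nat.card_sigma,
    Finset.sum_congr rfl (g := fun _ => Nat.card ↥(centralizer ({t} : Set G))), Finset.sum_const,
    smul_eq_mul, Finset.card_univ, ← Nat.card_eq_fintype_card, mul_comm]
  intro u _
  obtain ⟨c, hc⟩ := isConj_iff.mp u.2.2
  rw [← card_conj_fiber (t := t) (u := u.1) ⟨c⁻¹, by rw [inv_inv]; exact hc⟩]
  refine Nat.card_congr
    { toFun := fun g => ⟨g.1.1, congrArg Subtype.val g.2⟩
      invFun := fun g => ⟨⟨g.1, by rw [g.2]; exact u.2.1⟩, Subtype.ext g.2⟩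
      left_inv := fun g => rfl
      right_inv := fun g => rfl }

omit [Finite G] in
theorem fixed_iff {H : Subgroup G} (t : G) (g : G) :
    t • (g : G ⧸ H) = (g : G ⧸ H) ↔ g⁻¹ * t * g ∈ H := by
  show ((t * g : G) : G ⧸ H) = (g : G ⧸ H) ↔ _
  rw [eq_comm, QuotientGroup.eq, mul_assoc]

theorem card_fixed_mul (H : Subgroup G) (t : G) :
    Nat.card {x : G ⧸ H // t • x = x} * Nat.card H = Nat.card {g : G // g⁻¹ * t * g ∈ H} := by
  rw [mul_comm, ← Nat.card_prod]
  refine (Nat.card_congr (QuotientGroup.preimageMkEquivSubgroupProdSet H {x : G ⧸ H | t • x = x})).symm.trans ?_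
  refine Nat.card_congr (Equiv.subtypeEquivRight fun g => ?_)
  exact fixed_iff t g

theorem fixed_even (H : Subgroup G) {t : G} (ht : t * t = 1) :
    (Nat.card (G ⧸ H) - Nat.card {x : G ⧸ H // t • x = x}) % 2 = 0 := by
  classical
  haveI : Fintype (G ⧸ H) := Fintype.ofFinite _
  haveI : Fact (Nat.Prime 2) := ⟨Nat.prime_two⟩
  have h := Equiv.Perm.card_fixedPoints_modEq (p := 2) (n := 1)
    (f := fun x : G ⧸ H => t • x) (by
      show (fun x : G ⧸ H => t • x)^[2 ^ 1] = id
      funext x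
      show t • t • x = x
      rw [← mul_smul, ht, one_smul])
  have hle : Nat.card {x : G ⧸ H // t • x = x} ≤ Nat.card (G ⧸ H) :=
    Nat.card_le_card_of_injective _ Subtype.val_injective
  rw [← Nat.card_eq_fintype_card, ← Nat.card_eq_fintype_card] at h
  unfold Nat.ModEq at h
  change Nat.card (G ⧸ H) % 2 = Nat.card {x : G ⧸ H // t • x = x} % 2 at h
  omega

theorem sign_smul_eq_one [IsSimpleGroup G] (hG : ¬ IsMulCommutative G) (K : Subgroup G)
    [Fintype (G ⧸ K)] [DecidableEq (G ⧸ K)] (t : G) :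
    Equiv.Perm.sign (MulAction.toPerm t : Equiv.Perm (G ⧸ K)) = 1 := by
  let χ : G →* ℤˣ := (Equiv.Perm.sign : Equiv.Perm (G ⧸ K) →* ℤˣ).comp (MulAction.toPermHom G (G ⧸ K))
  have hker : χ.ker = ⊤ := by
    rcases IsSimpleGroup.eq_bot_or_eq_top_of_normal χ.ker inferInstance with h | h
    · exfalso
      refine hG ⟨⟨fun a b => (MonoidHom.ker_eq_bot_iff _).mp h ?_⟩⟩
      rw [map_mul, map_mul, mul_comm]
    · exact h
  exact MonoidHom.mem_ker.mp (hker.symm ▸ mem_top t : t ∈ χ.ker)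

/-- The parity criterion. -/
theorem transfer_odd [IsSimpleGroup G] (hG : ¬ IsMulCommutative G) {H K : Subgroup G} (hKH : K ≤ H)
    (hK : K.relIndex H = 2) {t : G} (ht : t * t = 1) {d : ℕ} (hd : Odd d)
    (hcount : Nat.card ↥(centralizer ({t} : Set G)) *
      Nat.card {u : G // u ∈ H ∧ u ∉ K ∧ IsConj t u} = Nat.card H * d) : False := by
  classical
  haveI : Fintype (G ⧸ K) := Fintype.ofFinite _
  set fK := Nat.card {x : G ⧸ K // t • x = x} with hfK
  set fH := Nat.card {x : G ⧸ H // t • x = x} with hfH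
  have hsign := sign_smul_eq_one hG K t
  rw [Equiv.Perm.sign_of_pow_two_eq_one (Equiv.ext fun x => by
    show (MulAction.toPerm t ^ 2 : Equiv.Perm (G ⧸ K)) x = x
    rw [pow_two, Equiv.Perm.mul_apply, MulAction.toPerm_apply, MulAction.toPerm_apply, ← mul_smul, ht,
      one_smul]), ← Nat.card_eq_fintype_card, ← Nat.card_eq_fintype_card,
    neg_one_pow_eq_one_iff_even (by decide)] at hsign
  change Even ((Nat.card (G ⧸ K) - fK) / 2) at hsign
  have hHK : Nat.card H = 2 * Nat.card K := by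
    have h := relIndex_mul_relIndex ⊥ K H bot_le hKH
    rw [relIndex_bot_left, relIndex_bot_left, hK] at h
    rw [← h, mul_comm]
  have hnK : Nat.card (G ⧸ K) = 2 * Nat.card (G ⧸ H) := by
    have h1 := card_mul_index K
    have h2 := card_mul_index H
    rw [hHK] at h2
    rw [← index_eq_card, ← index_eq_card]
    refine Nat.eq_of_mul_eq_mul_left (Nat.card_pos (α := K)) ?_
    rw [h1, ← h2]
    ring
  have hA : Nat.card {g : G // g⁻¹ * t * g ∈ H} =
      Nat.card {g : G // g⁻¹ * t * g ∈ K} + Nat.card {g : G // g⁻¹ * t * g ∈ (H : Set G) \ K} := by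
    rw [← Nat.card_sum]
    refine Nat.card_congr
      { toFun := fun g => if h : g.1⁻¹ * t * g.1 ∈ K then Sum.inl ⟨g.1, h⟩ else Sum.inr ⟨g.1, g.2, h⟩
        invFun := Sum.elim (fun g => ⟨g.1, hKH g.2⟩) (fun g => ⟨g.1, g.2.1⟩)
        left_inv := fun g => by by_cases h : g.1⁻¹ * t * g.1 ∈ K <;> simp [h]
        right_inv := fun g => by
          rcases g with g | g
          · simp [g.2]
          · have : g.1⁻¹ * t * g.1 ∉ K := g.2.2
            simp [this] }
  have hM : Nat.card {u : G // u ∈ (H : Set G) \ K ∧ IsConj t u} =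
      Nat.card {u : G // u ∈ H ∧ u ∉ K ∧ IsConj t u} :=
    Nat.card_congr (Equiv.subtypeEquivRight fun u => and_assoc)
  rw [← card_fixed_mul, ← card_fixed_mul, card_preimage_conj, ← hfK, ← hfH, hM, hcount, hHK] at hA
  have hf : fK + 2 * d = 2 * fH := by
    refine Nat.eq_of_mul_eq_mul_right (Nat.card_pos (α := K)) ?_
    rw [add_mul]
    linarith
  have hev := fixed_even H ht
  rw [← hfH] at hev
  have hle : fH ≤ Nat.card (G ⧸ H) := Nat.card_le_card_of_injective _ Subtype.val_injective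
  rw [hnK, show (2 * Nat.card (G ⧸ H) - fK) / 2 = (Nat.card (G ⧸ H) - fH) + d by omega] at hsign
  rcases hd with ⟨j, hj⟩
  rw [Nat.even_iff] at hsign
  omega

/-- A finite set on which a group acts with all orbits of size divisible by `m`. -/
theorem dvd_card_of_orbits {H X : Type*} [Group H] [MulAction H X] [Finite X] (m : ℕ)
    (h : ∀ x : X, m ∣ Nat.card (orbit H x)) : m ∣ Nat.card X := by
  classical
  haveI : Fintype (Quotient (orbitRel H X)) := Fintype.ofFinite _
  rw [Nat.card_congr (selfEquivSigmaOrbits H X), Nat.card_sigma]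
  exact Finset.dvd_sum fun q _ => h _

end CfsgLib.JankoThompson
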