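import Mathlib
import Cfsg.Agent.Lib.JankoThompson.Transfer
import Cfsg.Agent.Lib.JankoThompson.SylowTwoTI

/-!
There is no doubly transitive group of affine permutations of a field with `2 ^ n` elements,
`n ≥ 4`, without translations, whose point stabiliser is semilinear of odd order and contains
all scalars.
-/

set_option autoImplicit false
set_option linter.style.haveILetI false
set_option linter.unusedSectionVars false

namespace CfsgLib.JankoThompson

namespace NoAffine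

open Subgroup Equiv

variable {F : Type*} [Field F] [Fintype F]

/-- `φ` generates the field automorphisms, as permutations. -/
structure Frob (n : ℕ) (φ : Perm F) : Prop where
  order : orderOf φ = n
  sq : ∀ x : F, φ x = x ^ 2
  mem : ∀ σ : F ≃+* F, σ.toEquiv ∈ zpowers φ
  mul : ∀ g ∈ zpowers φ, ∀ x y : F, g (x * y) = g x * g y

/-- The hypotheses on `I`. -/
structure Hyp (n : ℕ) (φ : Perm F) (I : Subgroup (Perm F)) : Prop where
  card : Fintype.card F = 2 ^ n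
  four : 4 ≤ n
  frob : Frob n φ
  aff : ∀ g ∈ I, ∀ x y : F, g (x + y) + g 0 = g x + g y
  lin : ∀ g ∈ I, (∀ x : F, g x = x + g 0) → g = 1
  trans : ∀ x : F, ∃ g ∈ I, g 0 = x
  scal : ∀ a : F, a ≠ 0 → ∃ g ∈ I, ∀ x : F, g x = a * x
  stab : ∀ g ∈ I, g 0 = 0 → ∃ (a : F) (σ : F ≃+* F), ∀ x : F, g x = a * σ x
  odd : ∀ g ∈ I, g 0 = 0 → g * g = 1 → g = 1

theorem exists_frob {n : ℕ} (hF : Fintype.card F = 2 ^ n) : ∃ φ : Perm F, Frob n φ := by
  haveI : CharP F 2 := by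
    obtain ⟨p, m, hp, hc⟩ : ∃ p : ℕ, ∃ _ : CharP F p, p.Prime ∧ ∃ m : ℕ+, Fintype.card F = p ^ (m : ℕ) := by
      obtain ⟨p, hp, m, hpp, hc⟩ := FiniteField.card' F
      exact ⟨p, hp, hpp, m, hc⟩
    obtain ⟨k, hk⟩ := hc
    rw [hF] at hk
    have h2 : p ∣ 2 ^ n := hk ▸ dvd_pow_self p k.pos.ne'
    have : p = 2 := (Nat.prime_dvd_prime_iff_eq hp Nat.prime_two).mp (hp.dvd_of_dvd_pow h2)
    subst this
    exact m
  haveI : Fact (Nat.Prime 2) := ⟨Nat.prime_two⟩
  letI : Algebra (ZMod 2) F := ZMod.algebra F 2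
  haveI : Module.Finite (ZMod 2) F := Module.Finite.of_finite
  let e : Gal(F/ZMod 2) →* Perm F :=
    { toFun := fun σ => σ.toEquiv, map_one' := rfl, map_mul' := fun _ _ => rfl }
  have he : Function.Injective e := fun a b h => AlgEquiv.ext fun x =>
    (DFunLike.congr_fun (h : a.toEquiv = b.toEquiv) x : _)
  let f := FiniteField.frobeniusAlgEquivOfAlgebraic (ZMod 2) F
  have hrank : Module.finrank (ZMod 2) F = n := by
    have h := Module.card_eq_pow_finrank (K := ZMod 2) (V := F)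
    rw [ZMod.card, hF] at h
    exact (Nat.pow_right_injective le_rfl h).symm
  refine ⟨e f, ⟨?_, fun x => ?_, fun σ => ?_, ?_⟩⟩
  · rw [orderOf_injective e he, FiniteField.orderOf_frobeniusAlgEquivOfAlgebraic, hrank]
  · show f x = x ^ 2
    rw [FiniteField.coe_frobeniusAlgEquivOfAlgebraic, ZMod.card]
  · have hσ : ∀ r : ZMod 2, σ (algebraMap (ZMod 2) F r) = algebraMap (ZMod 2) F r := fun r =>
      RingHom.congr_fun (Subsingleton.elim
        ((σ : F →+* F).comp (algebraMap (ZMod 2) F)) (algebraMap (ZMod 2) F)) r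
    obtain ⟨k, hk⟩ := (FiniteField.bijective_frobeniusAlgEquivOfAlgebraic_pow (ZMod 2) F).2
      (AlgEquiv.ofRingEquiv (f := σ) hσ)
    refine ⟨((k : ℕ) : ℤ), ?_⟩
    simp only [zpow_natCast, ← map_pow]
    exact congrArg e hk
  · rintro g ⟨k, rfl⟩ x y
    simp only [← map_zpow]
    exact map_mul (f ^ k) x y

namespace Frob

variable {n : ℕ} {φ : Perm F} (hφ : Frob n φ)
include hφ

theorem map_zero {g : Perm F} (hg : g ∈ zpowers φ) : g 0 = 0 := by
  have h := hφ.mul g hg 0 (g.symm 0)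
  rwa [zero_mul, Equiv.apply_symm_apply, mul_zero] at h

theorem map_one {g : Perm F} (hg : g ∈ zpowers φ) : g 1 = 1 := by
  have h := hφ.mul g hg 1 (g.symm 1)
  rwa [one_mul, Equiv.apply_symm_apply, mul_one, eq_comm] at h

theorem map_inv {g : Perm F} (hg : g ∈ zpowers φ) (x : F) : g x⁻¹ = (g x)⁻¹ := by
  rcases eq_or_ne x 0 with rfl | hx
  · rw [inv_zero, hφ.map_zero hg, inv_zero]
  · refine eq_inv_of_mul_eq_one_left ?_
    rw [← hφ.mul g hg, inv_mul_cancel₀ hx, hφ.map_one hg]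

theorem comm {g h : Perm F} (hg : g ∈ zpowers φ) (hh : h ∈ zpowers φ) : Commute g h := by
  obtain ⟨a, rfl⟩ := hg
  obtain ⟨b, rfl⟩ := hh
  exact (Commute.refl φ).zpow_zpow a b

theorem exists_nat {g : Perm F} (hg : g ∈ zpowers φ) : ∃ k : ℕ, g = φ ^ k := by
  obtain ⟨k, hk⟩ := (isOfFinOrder_of_finite φ).mem_powers_iff_mem_zpowers.mpr hg
  exact ⟨k, hk.symm⟩

theorem pow_apply (k : ℕ) (x : F) : (φ ^ k) x = x ^ 2 ^ k := by
  induction k with
  | zero => simp
  | succ k ih => rw [pow_succ', Perm.mul_apply, ih, hφ.sq, ← pow_mul, ← pow_succ]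

theorem exists_fixed (hF : Fintype.card F = 2 ^ n) (hn : n ≠ 0) {d : ℕ} (hd : d ∣ n) (h2 : 2 ≤ d) :
    ∃ a : F, a ≠ 0 ∧ a ≠ 1 ∧ (φ ^ d) a = a := by
  obtain ⟨g, hg⟩ := IsCyclic.exists_generator (α := Fˣ)
  have ho : orderOf g = 2 ^ n - 1 := by
    rw [orderOf_eq_card_of_forall_mem_zpowers hg, Nat.card_units, Nat.card_eq_fintype_card, hF]
  obtain ⟨c, hc⟩ : 2 ^ d - 1 ∣ 2 ^ n - 1 :=
    (pow_one (2 : ℕ)) ▸ Nat.pow_sub_one_dvd_pow_sub_one 2 hd
  have hd4 : 4 ≤ 2 ^ d := le_trans (by norm_num) (Nat.pow_le_pow_right two_pos h2)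
  have hn2 : 2 ≤ 2 ^ n := le_trans (by norm_num) (Nat.pow_le_pow_right two_pos (Nat.one_le_iff_ne_zero.mpr hn))
  refine ⟨((g ^ c : Fˣ) : F), Units.ne_zero _, ?_, ?_⟩
  · intro h
    have h1 : g ^ c = 1 := Units.ext h
    have h3 := orderOf_dvd_of_pow_eq_one h1
    rw [ho, hc] at h3
    have hc0 : 0 < c := by
      rcases Nat.eq_zero_or_pos c with hc' | hc'
      · rw [hc', mul_zero] at hc; omega
      · exact hc'
    have h5 := Nat.le_of_dvd hc0 h3
    have : 3 * c ≤ (2 ^ d - 1) * c := Nat.mul_le_mul_right c (by omega)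
    omega
  · rw [hφ.pow_apply, ← Units.val_pow_eq_pow_val, ← pow_mul]
    refine congrArg Units.val (pow_eq_pow_iff_modEq.mpr ?_)
    rw [ho, hc]
    refine (Nat.modEq_iff_dvd' (Nat.le_mul_of_pos_right c (by omega))).mpr ⟨1, ?_⟩ |>.symm
    rw [mul_one, Nat.mul_comm (2 ^ d - 1) c, Nat.mul_sub, mul_one]

end Frob

namespace Hyp

variable {n : ℕ} {φ : Perm F} {I : Subgroup (Perm F)} (hI : Hyp n φ I)
include hI

theorem add_self (x : F) : x + x = 0 := by
  have h : ((Fintype.card F : ℕ) : F) = 0 := Nat.cast_card_eq_zero F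
  rw [hI.card, Nat.cast_pow] at h
  have h2 : (2 : F) = 0 := by exact_mod_cast eq_zero_of_pow_eq_zero h
  rw [← two_mul, h2, zero_mul]

theorem one_ne (g : Perm F) : g 1 ≠ g 0 := fun h => one_ne_zero (g.injective h)

theorem apply_one_ne_zero {g : Perm F} (h0 : g 0 = 0) : g 1 ≠ 0 :=
  fun h => hI.one_ne g (h.trans h0.symm)

theorem decomp {g : Perm F} (hg : g ∈ I) (h0 : g 0 = 0) :
    ∃ τ ∈ zpowers φ, ∀ x, g x = g 1 * τ x := by
  obtain ⟨a, σ, h⟩ := hI.stab g hg h0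
  refine ⟨σ.toEquiv, hI.frob.mem σ, fun x => ?_⟩
  rw [h x, h 1, _root_.map_one, mul_one]
  rfl

theorem fix01 {g : Perm F} (hg : g ∈ I) (h0 : g 0 = 0) (h1 : g 1 = 1) : g ∈ zpowers φ := by
  obtain ⟨τ, hτ, h⟩ := hI.decomp hg h0
  convert hτ using 1
  exact Equiv.ext fun x => by rw [h x, h1, one_mul]

theorem no_inv_fix {g : Perm F} (hg : g ∈ I) (h2 : g * g = 1) {x : F} (hx : g x = x) : g = 1 := by
  obtain ⟨t, ht, htx⟩ := hI.trans x
  have h := hI.odd (t⁻¹ * g * t) (I.mul_mem (I.mul_mem (I.inv_mem ht) hg) ht)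
    (by rw [Perm.mul_apply, Perm.mul_apply, htx, hx]; exact Perm.inv_eq_iff_eq.mpr htx.symm)
    (by rw [show t⁻¹ * g * t * (t⁻¹ * g * t) = t⁻¹ * (g * g) * t by group, h2, mul_one,
      inv_mul_cancel])
  calc g = t * (t⁻¹ * g * t) * t⁻¹ := by group
    _ = 1 := by rw [h, mul_one, mul_inv_cancel]

theorem odd_order {g : Perm F} (hg : g ∈ I) (h0 : g 0 = 0) : Odd (orderOf g) := by
  by_contra hev
  obtain ⟨k, hk⟩ := Nat.not_odd_iff_even.mp hev
  have hpos := orderOf_pos g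
  have h1 := hI.odd (g ^ k) (I.pow_mem hg k) (Perm.pow_apply_eq_self_of_apply_eq_self h0 k)
    (by rw [← pow_add, ← hk, pow_orderOf_eq_one])
  have := Nat.le_of_dvd (by omega) (orderOf_dvd_of_pow_eq_one h1)
  omega

theorem pair {a b : F} (h : a ≠ b) : ∃ t ∈ I, t 0 = a ∧ t 1 = b := by
  obtain ⟨t, ht, hta⟩ := hI.trans a
  have hc : t.symm b ≠ 0 := fun hc => h (by rw [← hta, ← hc, Equiv.apply_symm_apply])
  obtain ⟨m, hm, hmx⟩ := hI.scal _ hc
  refine ⟨t * m, I.mul_mem ht hm, ?_, ?_⟩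
  · rw [Perm.mul_apply, hmx, mul_zero, hta]
  · rw [Perm.mul_apply, hmx, mul_one, Equiv.apply_symm_apply]

theorem swap01 : ∃ i ∈ I, i * i = 1 ∧ i 0 = 1 ∧ i 1 = 0 := by
  obtain ⟨t, ht, h0, h1⟩ := hI.pair (one_ne_zero : (1 : F) ≠ 0)
  have hfix : (t * t) 0 = 0 := by rw [Perm.mul_apply, h0, h1]
  have hfix1 : (t * t) 1 = 1 := by rw [Perm.mul_apply, h1, h0]
  obtain ⟨k, hk⟩ := hI.odd_order (I.mul_mem ht ht) hfix
  have hev : t ^ orderOf (t * t) = t * (t * t) ^ k := by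
    rw [hk, pow_succ', pow_mul, pow_two]
  refine ⟨t ^ orderOf (t * t), I.pow_mem ht _, ?_, ?_, ?_⟩
  · have : (t * t) ^ orderOf (t * t) = 1 := pow_orderOf_eq_one _
    rwa [(Commute.refl t).mul_pow] at this
  · rw [hev, Perm.mul_apply, Perm.pow_apply_eq_self_of_apply_eq_self hfix, h0]
  · rw [hev, Perm.mul_apply, Perm.pow_apply_eq_self_of_apply_eq_self hfix1, h1]

theorem swap {y : F} (hy : y ≠ 0) : ∃ j ∈ I, j * j = 1 ∧ j 0 = y ∧ j y = 0 := by
  obtain ⟨i, hi, h2, h0, h1⟩ := hI.swap01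
  obtain ⟨m, hm, hmx⟩ := hI.scal y hy
  have e0 : m⁻¹ 0 = 0 := Perm.inv_eq_iff_eq.mpr (by rw [hmx, mul_zero])
  have ey : m⁻¹ y = 1 := Perm.inv_eq_iff_eq.mpr (by rw [hmx, mul_one])
  refine ⟨m * i * m⁻¹, I.mul_mem (I.mul_mem hm hi) (I.inv_mem hm), ?_, ?_, ?_⟩
  · rw [show m * i * m⁻¹ * (m * i * m⁻¹) = m * (i * i) * m⁻¹ by group, h2, mul_one, mul_inv_cancel]
  · rw [Perm.mul_apply, Perm.mul_apply, e0, h0, hmx, mul_one]
  · rw [Perm.mul_apply, Perm.mul_apply, ey, h1, hmx, mul_zero]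

/-- An involution swapping `0` and `1` induces a power map on the stabiliser of both. -/
theorem exists_zpow {i : Perm F} (hi : i ∈ I) (h2 : i * i = 1) (h0 : i 0 = 1) :
    ∃ m : ℤ, ∀ τ ∈ I ⊓ zpowers φ, i * τ = τ ^ m * i := by
  have h1 : i 1 = 0 := by rw [← h0, ← Perm.mul_apply, h2, Perm.one_apply]
  haveI : IsCyclic ↥(I ⊓ zpowers φ) := Subgroup.isCyclic_of_le (inf_le_right)
  obtain ⟨η, hη⟩ := IsCyclic.exists_generator (α := ↥(I ⊓ zpowers φ))
  have hinv : i⁻¹ = i := inv_eq_of_mul_eq_one_right h2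
  have hmem : i * η.1 * i⁻¹ ∈ I ⊓ zpowers φ := by
    have hIm : i * η.1 * i⁻¹ ∈ I := I.mul_mem (I.mul_mem hi η.2.1) (I.inv_mem hi)
    refine ⟨hIm, hI.fix01 hIm ?_ ?_⟩
    · rw [hinv, Perm.mul_apply, Perm.mul_apply, h0, hI.frob.map_one η.2.2, h1]
    · rw [hinv, Perm.mul_apply, Perm.mul_apply, h1, hI.frob.map_zero η.2.2, h0]
  obtain ⟨m, hm⟩ := mem_zpowers_iff.mp (hη ⟨_, hmem⟩)
  have hm' : η.1 ^ m = i * η.1 * i⁻¹ := by simpa using congrArg Subtype.val hm
  refine ⟨m, fun τ hτ => ?_⟩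
  obtain ⟨a, ha⟩ := mem_zpowers_iff.mp (hη ⟨τ, hτ⟩)
  have ha' : η.1 ^ a = τ := by simpa using congrArg Subtype.val ha
  rw [← ha', ← zpow_mul, mul_comm a m, zpow_mul, hm', conj_zpow]
  group

theorem commute_scal {τ m : Perm F} (hτ : τ ∈ zpowers φ) {a : F} (hm : ∀ x, m x = a * x)
    (ha : τ a = a) : Commute m τ :=
  Equiv.ext fun x => by rw [Perm.mul_apply, Perm.mul_apply, hm, hm, hI.frob.mul τ hτ, ha]

/-- An automorphism with a fixed point outside `{0, 1}` has a centraliser moving `0` to `1`. -/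
theorem commute_of_fixed {τ : Perm F} (hτ : τ ∈ I ⊓ zpowers φ) {a : F} (h0 : a ≠ 0) (h1 : a ≠ 1)
    (ha : τ a = a) : ∃ c ∈ I, Commute c τ ∧ c 0 = 1 := by
  by_contra hne
  have hall : ∀ c ∈ I, Commute c τ → c 0 = 0 := by
    intro c hc hcτ
    by_contra hy
    obtain ⟨m, hm, hmx⟩ := hI.scal (c 0)⁻¹ (inv_ne_zero hy)
    have hfix : τ (c 0) = c 0 := by
      have := DFunLike.congr_fun hcτ.eq 0
      rw [Perm.mul_apply, Perm.mul_apply, hI.frob.map_zero hτ.2] at this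
      exact this.symm
    refine hne ⟨m * c, I.mul_mem hm hc,
      (hI.commute_scal hτ.2 hmx (by rw [hI.frob.map_inv hτ.2, hfix])).mul_left hcτ, ?_⟩
    rw [Perm.mul_apply, hmx, inv_mul_cancel₀ hy]
  obtain ⟨i, hi, h2, hi0, hi1⟩ := hI.swap01
  obtain ⟨k, hk⟩ := hI.exists_zpow hi h2 hi0
  obtain ⟨m, hm, hmx⟩ := hI.scal a h0
  have hcomm : Commute m τ := hI.commute_scal hτ.2 hmx ha
  have hinv : i⁻¹ = i := inv_eq_of_mul_eq_one_right h2
  have hk' : i * τ ^ k = τ * i := by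
    calc i * τ ^ k = i * (τ ^ k * i) * i⁻¹ := by group
      _ = i * i * τ * i⁻¹ := by rw [← hk τ hτ]; group
      _ = τ * i := by rw [h2, one_mul, hinv]
  have hc : Commute (i * m * i) τ := by
    calc i * m * i * τ = i * m * (i * τ) := by group
      _ = i * (m * τ ^ k) * i := by rw [hk τ hτ]; group
      _ = i * (τ ^ k * m) * i := by rw [(hcomm.zpow_right k).eq]
      _ = (i * τ ^ k) * m * i := by group
      _ = τ * (i * m * i) := by rw [hk']; group
  have h := hall _ (I.mul_mem (I.mul_mem hi hm) hi) hc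
  rw [Perm.mul_apply, Perm.mul_apply, hi0, hmx, mul_one] at h
  exact h1 (i.injective (h.trans hi1.symm))

theorem eq_of_conj {h τ τ' : Perm F} (hh : h ∈ I) (h0 : h 0 = 0) (hτ : τ ∈ zpowers φ)
    (hτ' : τ' ∈ zpowers φ) (e : h * τ = τ' * h) : τ = τ' := by
  obtain ⟨σ, hσ, hx⟩ := hI.decomp hh h0
  have e1 : τ' (h 1) = h 1 := by
    have := DFunLike.congr_fun e 1
    rwa [Perm.mul_apply, Perm.mul_apply, hI.frob.map_one hτ, eq_comm] at this
  have hst : σ * τ = σ * τ' := by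
    rw [(hI.frob.comm hσ hτ').eq]
    refine Equiv.ext fun x => ?_
    have := DFunLike.congr_fun e x
    rw [Perm.mul_apply, Perm.mul_apply, hx (τ x), hx x, hI.frob.mul τ' hτ', e1] at this
    exact mul_left_cancel₀ (hI.apply_one_ne_zero h0) this
  exact mul_left_cancel hst

/-- A nontrivial normal 2-subgroup would consist of translations. -/
theorem no_normal_two (N : Subgroup (Perm F)) (hle : N ≤ I) (hN : IsPGroup 2 ↥N) (hne : N ≠ ⊥)
    (hnorm : ∀ g ∈ I, ∀ x ∈ N, g⁻¹ * x * g ∈ N) : False := by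
  haveI := Fact.mk Nat.prime_two
  let L : ↥N →* Perm F :=
    { toFun := fun g => Equiv.addRight ((g : Perm F) 0) * (g : Perm F)
      map_one' := Equiv.ext fun x => by simp
      map_mul' := fun g h => Equiv.ext fun x => by
        simp only [Subgroup.coe_mul, Perm.mul_apply, Equiv.coe_addRight]
        exact (hI.aff _ (hle g.2) _ _).symm }
  have hL : IsPGroup 2 ↥L.range := hN.of_surjective L.rangeRestrict L.rangeRestrict_surjective
  have hmod := hL.card_modEq_card_fixedPoints F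
  have h0 : (0 : F) ∈ MulAction.fixedPoints ↥L.range F := by
    rintro ⟨_, g, rfl⟩
    show (g : Perm F) 0 + (g : Perm F) 0 = 0
    exact hI.add_self _
  haveI : Nonempty ↥(MulAction.fixedPoints ↥L.range F) := ⟨⟨0, h0⟩⟩
  have hgt : 1 < Nat.card ↥(MulAction.fixedPoints ↥L.range F) := by
    by_contra h
    have h1 : Nat.card ↥(MulAction.fixedPoints ↥L.range F) = 1 := by
      have := Nat.card_pos (α := ↥(MulAction.fixedPoints ↥L.range F))
      omega
    rw [h1, Nat.card_eq_fintype_card, hI.card] at hmod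
    have := hI.four
    have h2 : 2 ^ n % 2 = 1 % 2 := hmod
    rw [Nat.mod_eq_zero_of_dvd (dvd_pow_self 2 (by omega))] at h2
    omega
  · haveI : Nontrivial ↥(MulAction.fixedPoints ↥L.range F) := Finite.one_lt_card_iff_nontrivial.mp hgt
    obtain ⟨⟨v, hv⟩, hne0⟩ := exists_ne (⟨0, h0⟩ : ↥(MulAction.fixedPoints ↥L.range F))
    have hv0 : v ≠ 0 := fun h => hne0 (Subtype.ext h)
    refine hne ((Subgroup.eq_bot_iff_forall N).mpr fun g hg => hI.lin g (hle hg) fun x => ?_)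
    rcases eq_or_ne x 0 with rfl | hx
    · rw [zero_add]
    obtain ⟨m, hm, hmx⟩ := hI.scal (x / v) (div_ne_zero hx hv0)
    have h := hv ⟨L ⟨_, hnorm m hm g hg⟩, _, rfl⟩
    change (m⁻¹ * g * m) v + (m⁻¹ * g * m) 0 = v at h
    have e : ∀ z, m⁻¹ z = (x / v)⁻¹ * z := fun z => Perm.inv_eq_iff_eq.mpr (by
      rw [hmx, ← mul_assoc, mul_inv_cancel₀ (div_ne_zero hx hv0), one_mul])
    simp only [Perm.mul_apply, e, hmx, mul_zero, div_mul_cancel₀ x hv0, ← mul_add] at h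
    rw [inv_mul_eq_iff_eq_mul₀ (div_ne_zero hx hv0), div_mul_cancel₀ x hv0] at h
    calc g x = g x + (g 0 + g 0) := by rw [hI.add_self, add_zero]
      _ = x + g 0 := by rw [← add_assoc, h]

theorem card_eq : Nat.card ↥I = Nat.card F * (Nat.card F - 1) * Nat.card ↥(I ⊓ zpowers φ) := by
  have hne : ∀ p : F × Fˣ, p.1 ≠ p.1 + (p.2 : F) := fun p h => p.2.ne_zero (left_eq_add.mp h)
  choose t ht ht0 ht1 using fun p : F × Fˣ => hI.pair (hne p)
  have hsub : ∀ g : ↥I, (g : Perm F) 1 + (g : Perm F) 0 ≠ 0 := fun g h => hI.one_ne g.1 (by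
    calc g.1 1 = g.1 1 + (g.1 0 + g.1 0) := by rw [hI.add_self, add_zero]
      _ = g.1 0 := by rw [← add_assoc, h, zero_add])
  let P : ↥I → F × Fˣ := fun g => ((g : Perm F) 0, Units.mk0 _ (hsub g))
  have hP : ∀ g : ↥I, (t (P g)) 0 = (g : Perm F) 0 ∧ (t (P g)) 1 = (g : Perm F) 1 := fun g => by
    refine ⟨ht0 _, (ht1 _).trans ?_⟩
    show g.1 0 + (g.1 1 + g.1 0) = g.1 1
    rw [add_left_comm, hI.add_self, add_zero]
  have hmem : ∀ g : ↥I, (t (P g))⁻¹ * (g : Perm F) ∈ I ⊓ zpowers φ := fun g => by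
    have h := I.mul_mem (I.inv_mem (ht (P g))) g.2
    exact ⟨h, hI.fix01 h (Perm.inv_eq_iff_eq.mpr (hP g).1.symm)
      (Perm.inv_eq_iff_eq.mpr (hP g).2.symm)⟩
  let f : ↥I → (F × Fˣ) × ↥(I ⊓ zpowers φ) := fun g => (P g, ⟨_, hmem g⟩)
  have hf : Function.Bijective f := by
    constructor
    · intro g h e
      have e1 : P g = P h := congrArg Prod.fst e
      have e2 : (t (P g))⁻¹ * g.1 = (t (P h))⁻¹ * h.1 :=
        congrArg (fun z : (F × Fˣ) × ↥(I ⊓ zpowers φ) => (z.2 : Perm F)) e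
      rw [e1] at e2
      exact Subtype.ext (mul_left_cancel e2)
    · rintro ⟨p, y⟩
      let g : ↥I := ⟨t p * y.1, I.mul_mem (ht p) y.2.1⟩
      have g0 : g.1 0 = p.1 := by
        rw [Perm.mul_apply, hI.frob.map_zero y.2.2, ht0]
      have g1 : g.1 1 = p.1 + (p.2 : F) := by
        rw [Perm.mul_apply, hI.frob.map_one y.2.2, ht1]
      have hPg : P g = p := Prod.ext g0 (Units.ext (by
        show g.1 1 + g.1 0 = (p.2 : F)
        rw [g0, g1, add_right_comm, hI.add_self, zero_add]))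
      refine ⟨g, Prod.ext hPg (Subtype.ext ?_)⟩
      show (t (P g))⁻¹ * (t p * y.1) = y.1
      rw [hPg, inv_mul_cancel_left]
  rw [Nat.card_eq_of_bijective f hf, Nat.card_prod, Nat.card_prod, Nat.card_units]

/-- No sharply doubly transitive configuration. -/
theorem no_sharp (hY : I ⊓ zpowers φ = ⊥) : False := by
  classical
  haveI := Fact.mk Nat.prime_two
  have hfix2 : ∀ g ∈ I, ∀ a b : F, a ≠ b → g a = a → g b = b → g = 1 := by
    intro g hg a b hab ha hb
    obtain ⟨t, ht, h0, h1⟩ := hI.pair hab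
    have hm := I.mul_mem (I.mul_mem (I.inv_mem ht) hg) ht
    have h : t⁻¹ * g * t ∈ I ⊓ zpowers φ := ⟨hm, hI.fix01 hm
      (by rw [Perm.mul_apply, Perm.mul_apply, h0, ha]; exact Perm.inv_eq_iff_eq.mpr h0.symm)
      (by rw [Perm.mul_apply, Perm.mul_apply, h1, hb]; exact Perm.inv_eq_iff_eq.mpr h1.symm)⟩
    rw [hY, Subgroup.mem_bot] at h
    calc g = t * (t⁻¹ * g * t) * t⁻¹ := by group
      _ = 1 := by rw [h, mul_one, mul_inv_cancel]
  choose j hj hj2 hj0 _hjy using fun u : Fˣ => hI.swap u.ne_zero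
  choose m hm hmx using fun u : Fˣ => hI.scal (u : F) u.ne_zero
  choose t ht htx using hI.trans
  have hjne : ∀ u, j u ≠ 1 := fun u h => u.ne_zero (by rw [← hj0 u, h, Perm.one_apply])
  have hjfree : ∀ u x, j u x ≠ x := fun u x h => hjne u (hI.no_inv_fix (hj u) (hj2 u) h)
  have hkx : ∀ (x : F) (u : Fˣ), (t x * m u * (t x)⁻¹) x = x := by
    intro x u
    rw [Perm.mul_apply, Perm.mul_apply, Perm.inv_eq_iff_eq.mpr (htx x).symm, hmx, mul_zero, htx]
  let Ψ : Option (Fˣ ⊕ F × {u : Fˣ // u ≠ 1}) → ↥I := fun o => match o with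
    | none => 1
    | some (.inl u) => ⟨j u, hj u⟩
    | some (.inr p) => ⟨t p.1 * m p.2.1 * (t p.1)⁻¹,
        I.mul_mem (I.mul_mem (ht _) (hm _)) (I.inv_mem (ht _))⟩
  have hne1 : ∀ p : F × {u : Fˣ // u ≠ 1}, t p.1 * m p.2.1 * (t p.1)⁻¹ ≠ 1 := by
    intro p h
    have h1 : m p.2.1 = 1 := conj_eq_one_iff.mp h
    refine p.2.2 (Units.ext ?_)
    rw [Units.val_one, ← mul_one (p.2.1 : F), ← hmx, h1, Perm.one_apply]
  have hΨ : Function.Injective Ψ := by
    rintro (_ | u | p) (_ | v | q) h <;> have h' := congrArg Subtype.val h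
    · rfl
    · exact absurd h'.symm (hjne v)
    · exact absurd h'.symm (hne1 q)
    · exact absurd h' (hjne u)
    · rw [Units.ext (show (u : F) = v by rw [← hj0 u, ← hj0 v]; exact DFunLike.congr_fun h' 0)]
    · exact absurd ((DFunLike.congr_fun h' q.1).trans (hkx q.1 q.2.1)) (hjfree u q.1)
    · exact absurd h' (hne1 p)
    · exact absurd ((DFunLike.congr_fun h'.symm p.1).trans (hkx p.1 p.2.1)) (hjfree v p.1)
    · obtain ⟨x, u⟩ := p
      obtain ⟨y, v⟩ := q
      change t x * m u.1 * (t x)⁻¹ = t y * m v.1 * (t y)⁻¹ at h'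
      rcases eq_or_ne x y with rfl | hxy
      · have e := mul_left_cancel (mul_right_cancel h')
        have : u.1 = v.1 := Units.ext (by
          rw [← mul_one (u.1 : F), ← hmx, e, hmx, mul_one])
        rw [Subtype.ext this]
      · exact absurd (hfix2 _ (I.mul_mem (I.mul_mem (ht x) (hm _)) (I.inv_mem (ht x))) x y hxy
          (hkx x u.1) (by rw [h']; exact hkx y v.1)) (hne1 (x, u))
  have hcard : Nat.card ↥I ≤ Nat.card (Option (Fˣ ⊕ F × {u : Fˣ // u ≠ 1})) := by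
    rw [hI.card_eq, hY, Subgroup.card_bot, mul_one]
    simp only [Nat.card_eq_fintype_card, Fintype.card_option, Fintype.card_sum, Fintype.card_prod,
      Fintype.card_subtype_compl, Fintype.card_subtype_eq, Fintype.card_units, hI.card]
    obtain ⟨q, hq⟩ : ∃ q, 2 ^ n = q + 2 := ⟨2 ^ n - 2, by
      have := Nat.pow_le_pow_right (n := 2) two_pos (show 1 ≤ n by have := hI.four; omega)
      omega⟩
    rw [hq]
    simp only [show q + 2 - 1 = q + 1 by omega, Nat.add_sub_cancel]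
    nlinarith
  obtain ⟨-, hsurj⟩ := hΨ.bijective_of_nat_card_le hcard
  have hfpf : ∀ g ∈ I, (∀ x, g x ≠ x) → g * g = 1 := by
    intro g hg hx
    obtain ⟨o, ho⟩ := hsurj ⟨g, hg⟩
    have ho' := congrArg Subtype.val ho
    rcases o with _ | u | p
    · exact absurd (DFunLike.congr_fun ho'.symm 0) (hx 0)
    · have e : j u = g := ho'
      rw [← e]; exact hj2 u
    · exact absurd ((DFunLike.congr_fun ho'.symm p.1).trans (hkx _ _)) (hx p.1)
  let N : Subgroup (Perm F) :=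
    { carrier := {g | g ∈ I ∧ g * g = 1}
      one_mem' := ⟨I.one_mem, mul_one 1⟩
      inv_mem' := fun {g} h => ⟨I.inv_mem h.1, by rw [← mul_inv_rev, h.2, inv_one]⟩
      mul_mem' := fun {a b} ha hb => by
        refine ⟨I.mul_mem ha.1 hb.1, ?_⟩
        by_cases hx : ∃ x, (a * b) x = x
        · obtain ⟨x, hx⟩ := hx
          have hab : a * b = 1 := by
            have ea : ∀ z, a (a z) = z := fun z => by rw [← Perm.mul_apply, ha.2, Perm.one_apply]
            have eb : ∀ z, b (b z) = z := fun z => by rw [← Perm.mul_apply, hb.2, Perm.one_apply]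
            have hbx : b x = a x := by rw [← ea (b x)]; exact congrArg a hx
            by_cases hax : a x = x
            · rw [hI.no_inv_fix ha.1 ha.2 hax, hI.no_inv_fix hb.1 hb.2 (hbx.trans hax), mul_one]
            · refine hfix2 _ (I.mul_mem ha.1 hb.1) x (a x) (Ne.symm hax) hx ?_
              rw [Perm.mul_apply, ← hbx, eb, hbx]
          rw [hab, mul_one]
        · exact hfpf _ (I.mul_mem ha.1 hb.1) (not_exists.mp hx) }
  refine hI.no_normal_two N (fun g h => h.1) (fun g => ⟨1, Subtype.ext (by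
    simpa [pow_two] using g.2.2)⟩) ?_ fun g hg x hx => ⟨I.mul_mem (I.mul_mem (I.inv_mem hg) hx.1) hg,
      by rw [show g⁻¹ * x * g * (g⁻¹ * x * g) = g⁻¹ * (x * x) * g by group, hx.2, mul_one,
        inv_mul_cancel]⟩
  intro h
  have : j 1 ∈ N := ⟨hj 1, hj2 1⟩
  rw [h, Subgroup.mem_bot] at this
  exact hjne 1 this

theorem mono {K : Subgroup (Perm F)} (hK : K ≤ I) (htrans : ∀ x : F, ∃ g ∈ K, g 0 = x)
    (hscal : ∀ a : F, a ≠ 0 → ∃ g ∈ K, ∀ x : F, g x = a * x) : Hyp n φ K where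
  card := hI.card
  four := hI.four
  frob := hI.frob
  aff := fun g h => hI.aff g (hK h)
  lin := fun g h => hI.lin g (hK h)
  trans := htrans
  scal := hscal
  stab := fun g h => hI.stab g (hK h)
  odd := fun g h => hI.odd g (hK h)

open scoped IsMulCommutative in
/-- The transfer case. -/
theorem no_transfer
    (H : ∀ τ ∈ I ⊓ zpowers φ, τ ≠ 1 → ∀ x : F, τ x = x → ∃ c ∈ I, Commute c τ ∧ c 0 = x) :
    False := by
  classical
  set X : Subgroup ↥I := MulAction.stabilizer ↥I (0 : F) with hX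
  have hmemX : ∀ g : ↥I, g ∈ X ↔ (g : Perm F) 0 = 0 := fun g => MulAction.mem_stabilizer_iff
  have hne : ∀ g : ↥X, ((g : ↥I) : Perm F) 1 ≠ 0 := fun g =>
    hI.apply_one_ne_zero ((hmemX _).mp g.2)
  let th : ↥X → Perm F := fun g => Equiv.mulLeft₀ _ (inv_ne_zero (hne g)) * ((g : ↥I) : Perm F)
  have hth : ∀ (g : ↥X) (x : F),
      th g x = (((g : ↥I) : Perm F) 1)⁻¹ * ((g : ↥I) : Perm F) x := fun g x => rfl
  have hthdec : ∀ g : ↥X, th g ∈ zpowers φ ∧
      ∀ x, ((g : ↥I) : Perm F) x = ((g : ↥I) : Perm F) 1 * th g x := by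
    intro g
    obtain ⟨τ, hτ, hx⟩ := hI.decomp g.1.2 ((hmemX _).mp g.2)
    have e : th g = τ := Equiv.ext fun x => by
      rw [hth, hx x, inv_mul_cancel_left₀ (hne g)]
    exact ⟨e ▸ hτ, fun x => e ▸ hx x⟩
  let θ : ↥X →* ↥(zpowers φ) := MonoidHom.mk' (fun g => ⟨th g, (hthdec g).1⟩) fun a b => by
    refine Subtype.ext (Equiv.ext fun x => ?_)
    show th (a * b) x = th a (th b x)
    rw [hth (a * b)]
    show ((((a : ↥I) : Perm F) (((b : ↥I) : Perm F) 1)))⁻¹ *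
      ((a : ↥I) : Perm F) (((b : ↥I) : Perm F) x) = _
    rw [(hthdec a).2 (((b : ↥I) : Perm F) 1), (hthdec a).2 (((b : ↥I) : Perm F) x),
      (hthdec b).2 x, hI.frob.mul _ (hthdec a).1, ← mul_assoc (((a : ↥I) : Perm F) 1),
      inv_mul_cancel_left₀ (mul_ne_zero (hne a) ?_)]
    exact fun h => hne b ((th a).injective (h.trans (hI.frob.map_zero (hthdec a).1).symm))
  haveI : MulAction.IsPretransitive ↥I F := ⟨fun x y => by
    obtain ⟨a, ha, hax⟩ := hI.trans x
    obtain ⟨b, hb, hby⟩ := hI.trans y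
    refine ⟨⟨b * a⁻¹, I.mul_mem hb (I.inv_mem ha)⟩, ?_⟩
    show b (a⁻¹ x) = y
    rw [Perm.inv_eq_iff_eq.mpr hax.symm, hby]⟩
  have hidx : X.index = 2 ^ n := by
    rw [hX, MulAction.index_stabilizer_of_transitive, Nat.card_eq_fintype_card, hI.card]
  let V : ↥I →* ↥(zpowers φ) := MonoidHom.transfer θ
  haveI : ∀ g : ↥I, Fintype (Quotient (MulAction.orbitRel (zpowers g) (↥I ⧸ X))) :=
    fun g => Fintype.ofFinite _
  have hV : ∀ (g : ↥I) (y : ↥(zpowers φ)),
      (∀ (k : ℕ) (c : ↥I) (h : c⁻¹ * g ^ k * c ∈ X), θ ⟨_, h⟩ = y ^ k) → V g = y ^ 2 ^ n := by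
    intro g y h
    show MonoidHom.transfer θ g = _
    rw [MonoidHom.transfer_eq_prod_quotient_orbitRel_zpowers_quot, ← hidx,
      Subgroup.index_eq_sum_minimalPeriod X g, ← Finset.prod_pow_eq_pow_sum]
    exact Finset.prod_congr rfl fun q _ => h _ _ _
  -- conjugation does not change the image
  have hconj : ∀ (a b : ↥X), θ (b⁻¹ * a * b) = θ a := fun a b => by
    rw [map_mul, map_mul, _root_.map_inv, mul_comm (θ b)⁻¹, inv_mul_cancel_right]
  -- involutions are in the kernel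
  have hVinv : ∀ g : ↥I, g * g = 1 → V g = 1 := by
    intro g hg
    rw [hV g 1 ?_, one_pow]
    intro k c h
    have : c⁻¹ * g ^ k * c = 1 := by
      by_contra hne1
      have hsq : c⁻¹ * g ^ k * c * (c⁻¹ * g ^ k * c) = 1 := by
        rw [show c⁻¹ * g ^ k * c * (c⁻¹ * g ^ k * c) = c⁻¹ * (g ^ k * g ^ k) * c by group,
          ← (Commute.refl g).mul_pow, hg, one_pow, mul_one, inv_mul_cancel]
      exact hne1 (Subtype.ext (hI.odd _ (c⁻¹ * g ^ k * c).2 ((hmemX _).mp h)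
        (congrArg Subtype.val hsq)))
    rw [one_pow]
    simp only [this]
    exact _root_.map_one θ
  -- scalars are in the kernel
  have hVscal : ∀ g : ↥I, ∀ a : F, (∀ x, (g : Perm F) x = a * x) → V g = 1 := by
    intro g a ha
    rw [hV g 1 ?_, one_pow]
    intro k c h
    rw [one_pow]
    have hk : ∀ (k : ℕ) (x : F), ((g ^ k : ↥I) : Perm F) x = a ^ k * x := by
      intro k
      induction k with
      | zero => intro x; simp
      | succ k ih =>
        intro x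
        rw [pow_succ', Subgroup.coe_mul, Perm.mul_apply, ih, ha, pow_succ', mul_assoc]
    rcases eq_or_ne (g ^ k) 1 with h1 | h1
    · have : c⁻¹ * g ^ k * c = 1 := by rw [h1, mul_one, inv_mul_cancel]
      simp only [this]
      exact _root_.map_one θ
    · have hc0 : (c : Perm F) 0 = 0 := by
        have e := (hmemX _).mp h
        change (c : Perm F)⁻¹ (((g ^ k : ↥I) : Perm F) ((c : Perm F) 0)) = 0 at e
        rw [Perm.inv_eq_iff_eq, hk] at e
        by_contra hne0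
        have hak : a ^ k = 1 := (mul_eq_right₀ hne0).mp e
        exact h1 (Subtype.ext (Equiv.ext fun x => by rw [hk, hak, one_mul]; rfl))
      have hgX : g ^ k ∈ X := (hmemX _).mpr (by rw [hk, mul_zero])
      have e := hconj ⟨g ^ k, hgX⟩ ⟨c, (hmemX _).mpr hc0⟩
      refine e.trans (Subtype.ext (Equiv.ext fun x => ?_))
      show th ⟨g ^ k, hgX⟩ x = x
      rw [hth]
      show (((g ^ k : ↥I) : Perm F) 1)⁻¹ * ((g ^ k : ↥I) : Perm F) x = x
      rw [hk, hk, mul_one, inv_mul_cancel_left₀]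
      have := hne ⟨g ^ k, hgX⟩
      change ((g ^ k : ↥I) : Perm F) 1 ≠ 0 at this
      rwa [hk, mul_one] at this
  -- the transfer is injective on the stabiliser of two points
  have hVY : ∀ g : ↥I, (g : Perm F) ∈ zpowers φ → V g = 1 → g = 1 := by
    intro g hg hVg
    have hgX : g ∈ X := (hmemX _).mpr (hI.frob.map_zero hg)
    have hθg : (θ ⟨g, hgX⟩ : Perm F) = g := Equiv.ext fun x => by
      show th ⟨g, hgX⟩ x = _
      rw [hth]
      show ((g : Perm F) 1)⁻¹ * _ = _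
      rw [hI.frob.map_one hg, inv_one, one_mul]
    rw [hV g (θ ⟨g, hgX⟩) ?_] at hVg
    · have h2 : (g : Perm F) ^ 2 ^ n = 1 := by
        rw [← hθg]; simpa using congrArg Subtype.val hVg
      obtain ⟨i, -, hi⟩ := (Nat.dvd_prime_pow Nat.prime_two).mp (orderOf_dvd_of_pow_eq_one h2)
      have hodd := hI.odd_order g.2 (hI.frob.map_zero hg)
      rw [hi] at hodd
      rcases Nat.eq_zero_or_pos i with h0 | h0
      · rw [h0, pow_zero, orderOf_eq_one_iff] at hi
        exact Subtype.ext hi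
      · exact absurd hodd (Nat.not_odd_iff_even.mpr (Nat.even_pow.mpr ⟨even_two, h0.ne'⟩))
    · intro k c h
      rw [← map_pow]
      rcases eq_or_ne (g ^ k) 1 with h1 | h1
      · have : c⁻¹ * g ^ k * c = 1 := by rw [h1, mul_one, inv_mul_cancel]
        exact congrArg θ (Subtype.ext (by rw [SubgroupClass.coe_pow]; exact this.trans h1.symm))
      · have hgk : ((g ^ k : ↥I) : Perm F) ∈ I ⊓ zpowers φ :=
          ⟨(g ^ k).2, by rw [Subgroup.coe_pow]; exact (zpowers φ).pow_mem hg k⟩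
        have e := (hmemX _).mp h
        change (c : Perm F)⁻¹ (((g ^ k : ↥I) : Perm F) ((c : Perm F) 0)) = 0 at e
        rw [Perm.inv_eq_iff_eq] at e
        obtain ⟨d, hd, hdc, hd0⟩ := H _ hgk (fun h' => h1 (Subtype.ext h')) _ e
        have hh : (⟨d, hd⟩ : ↥I)⁻¹ * c ∈ X := (hmemX _).mpr (by
          show d⁻¹ ((c : Perm F) 0) = 0
          exact Perm.inv_eq_iff_eq.mpr hd0.symm)
        have hcomm : (⟨d, hd⟩ : ↥I)⁻¹ * g ^ k * ⟨d, hd⟩ = g ^ k := by
          apply Subtype.ext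
          show d⁻¹ * ((g ^ k : ↥I) : Perm F) * d = _
          rw [mul_assoc, ← hdc.eq, inv_mul_cancel_left]
        have heq : (⟨c⁻¹ * g ^ k * c, h⟩ : ↥X) =
            (⟨_, hh⟩ : ↥X)⁻¹ * (⟨g, hgX⟩ : ↥X) ^ k * ⟨_, hh⟩ := by
          apply Subtype.ext
          show c⁻¹ * g ^ k * c = ((⟨d, hd⟩ : ↥I)⁻¹ * c)⁻¹ * g ^ k * ((⟨d, hd⟩ : ↥I)⁻¹ * c)
          have e2 : (⟨d, hd⟩ : ↥I) * g ^ k * (⟨d, hd⟩ : ↥I)⁻¹ = g ^ k := by
            conv_lhs => rw [← hcomm]
            group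
          calc c⁻¹ * g ^ k * c = c⁻¹ * ((⟨d, hd⟩ : ↥I) * g ^ k * (⟨d, hd⟩ : ↥I)⁻¹) * c := by
                rw [e2]
            _ = _ := by group
        rw [heq, hconj]
  let K : Subgroup (Perm F) := V.ker.map I.subtype
  have hKmem : ∀ g : ↥I, V g = 1 → (g : Perm F) ∈ K := fun g hg =>
    Subgroup.mem_map.mpr ⟨g, hg, rfl⟩
  have hK : Hyp n φ K := hI.mono (Subgroup.map_subtype_le _)
    (fun x => by
      rcases eq_or_ne x 0 with rfl | hx
      · exact ⟨1, K.one_mem, rfl⟩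
      · obtain ⟨j, hj, hj2, hj0, -⟩ := hI.swap hx
        exact ⟨j, hKmem ⟨j, hj⟩ (hVinv _ (Subtype.ext hj2)), hj0⟩)
    (fun a ha => by
      obtain ⟨m, hm, hmx⟩ := hI.scal a ha
      exact ⟨m, hKmem ⟨m, hm⟩ (hVscal _ a hmx), hmx⟩)
  refine hK.no_sharp ((Subgroup.eq_bot_iff_forall _).mpr fun g hg => ?_)
  obtain ⟨g', hg', rfl⟩ := Subgroup.mem_map.mp hg.1
  exact congrArg Subtype.val (hVY g' hg.2 hg')

/-- The exceptional case: the whole Galois group, inverted by all swaps of `0` and `1`. -/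
theorem no_exceptional (hφ : φ ∈ I)
    (hA : ∀ i ∈ I, i * i = 1 → i 0 = 1 → ¬ Commute i φ) : False := by
  classical
  haveI := Fact.mk Nat.prime_two
  have h4 := hI.four
  have hφY : φ ∈ I ⊓ zpowers φ := ⟨hφ, mem_zpowers φ⟩
  have hnodd : Odd n := hI.frob.order ▸ hI.odd_order hφ (hI.frob.map_zero (mem_zpowers φ))
  obtain ⟨i, hi, hi2, hi0, hi1⟩ := hI.swap01
  have hinv : i⁻¹ = i := inv_eq_of_mul_eq_one_right hi2
  obtain ⟨m, hm⟩ := hI.exists_zpow hi hi2 hi0
  have hp : n.Prime := by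
    by_contra hnp
    have hd : ∀ d, d ∣ n → 2 ≤ d → d < n → Commute i (φ ^ d) := by
      intro d hd h2 hlt
      obtain ⟨a, ha0, ha1, ha⟩ := hI.frob.exists_fixed hI.card (by omega) hd h2
      have hτ : φ ^ d ∈ I ⊓ zpowers φ := (I ⊓ zpowers φ).pow_mem hφY d
      obtain ⟨c, hc, hcc, hc0⟩ := hI.commute_of_fixed hτ ha0 ha1 ha
      have e : c⁻¹ * i * φ ^ d = (φ ^ d) ^ m * (c⁻¹ * i) := by
        rw [mul_assoc, hm _ hτ, ← mul_assoc, ((hcc.inv_left).zpow_right m).eq, mul_assoc]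
      have h := hI.eq_of_conj (I.mul_mem (I.inv_mem hc) hi)
        (by rw [Perm.mul_apply, hi0]; exact Perm.inv_eq_iff_eq.mpr hc0.symm) hτ.2
        ((zpowers φ).zpow_mem hτ.2 m) e
      have := hm _ hτ
      rw [← h] at this
      exact this
    obtain ⟨r, s, hr, hs, hr2, hs2⟩ : ∃ r s, r * s = n ∧ r < n ∧ 2 ≤ r ∧ 2 ≤ s := by
      obtain ⟨r, hrd, hr2, hrn⟩ := Nat.exists_dvd_of_not_prime2 (by omega) hnp
      obtain ⟨s, hs⟩ := hrd
      refine ⟨r, s, hs.symm, hrn, hr2, ?_⟩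
      rcases s with _ | _ | s
      · omega
      · omega
      · omega
    have hsn : s < n := by rw [← hr]; exact lt_mul_of_one_lt_left (by omega) (by omega)
    have hψ : i * φ * i⁻¹ = φ ^ m := by rw [hm φ hφY, mul_inv_cancel_right]
    set u := φ ^ m * φ⁻¹ with hu
    have huY : u ∈ I ⊓ zpowers φ :=
      (I ⊓ zpowers φ).mul_mem ((I ⊓ zpowers φ).zpow_mem hφY m) ((I ⊓ zpowers φ).inv_mem hφY)
    have hur : u ^ r = 1 := by
      rw [hu, (((Commute.refl φ).zpow_left m).inv_right).mul_pow, inv_pow, ← hψ, conj_pow,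
        (hd r ⟨s, hr.symm⟩ hr2 hs).eq, mul_inv_cancel_right, mul_inv_cancel]
    obtain ⟨j, hj⟩ := hI.frob.exists_nat huY.2
    have hsj : s ∣ j := by
      have h := orderOf_dvd_of_pow_eq_one (show φ ^ (j * r) = 1 by rw [pow_mul, ← hj, hur])
      rw [hI.frob.order, ← hr, mul_comm j r] at h
      exact Nat.dvd_of_mul_dvd_mul_left (by omega) h
    have hcu : Commute i u := by
      obtain ⟨l, rfl⟩ := hsj
      rw [hj, pow_mul]
      exact (hd s ⟨r, by rw [← hr, mul_comm]⟩ hs2 hsn).pow_right l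
    have hu1 : u = 1 := by
      refine hI.odd u huY.1 (hI.frob.map_zero huY.2) ?_
      have e1 : i * u * i⁻¹ = φ * (φ ^ m)⁻¹ := by
        rw [hu, ← hψ]
        simp only [mul_inv_rev, hinv]
        calc i * (i * φ * i * φ⁻¹) * i = (i * i) * φ * i * φ⁻¹ * i := by group
          _ = φ * (i * (φ⁻¹ * i)) := by rw [hi2]; group
      rw [hcu.eq, mul_inv_cancel_right] at e1
      calc u * u = φ * (φ ^ m)⁻¹ * (φ ^ m * φ⁻¹) := by nth_rewrite 1 [e1]; rfl
        _ = 1 := by group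
    refine hA i hi hi2 hi0 ?_
    have : φ ^ m = φ := mul_inv_eq_one.mp hu1
    have e := hm φ hφY
    rw [this] at e
    exact e
  have h5 : 5 ≤ n := by
    obtain ⟨k, hk⟩ := hnodd
    omega
  have hY : Nat.card ↥(I ⊓ zpowers φ) = n := by
    rw [inf_eq_right.mpr (zpowers_le.mpr hφ), Nat.card_zpowers, hI.frob.order]
  have hG : Nat.card ↥I = 2 ^ n * ((2 ^ n - 1) * n) := by
    rw [hI.card_eq, hY, Nat.card_eq_fintype_card, hI.card, mul_assoc]
  -- centralisers of involutions are 2-groups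
  have hC2 : ∀ j : ↥I, orderOf j = 2 → IsPGroup 2 ↥(centralizer ({j} : Set ↥I)) := by
    intro j hj
    by_contra hnot
    obtain ⟨g, hg, r, hr, hr2, hgr⟩ := exists_odd_prime_order _ hnot
    haveI := Fact.mk hr
    have hgr' : (g : Perm F) ^ r ^ 1 = 1 := by
      rw [pow_one, ← hgr, ← Subgroup.coe_pow, pow_orderOf_eq_one]; rfl
    obtain ⟨a, ha⟩ := Equiv.Perm.exists_fixed_point_of_prime (α := F) (p := r) (n := 1)
      (fun h => hr2 ((Nat.prime_dvd_prime_iff_eq hr Nat.prime_two).mp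
        (hr.dvd_of_dvd_pow (hI.card ▸ h)))) hgr'
    have hj1 : (j : Perm F) ≠ 1 := fun h => ne_one_of_orderOf_two hj (Subtype.ext h)
    have hjj : (j : Perm F) * j = 1 := congrArg Subtype.val (mul_self_of_orderOf_two hj)
    have hab : a ≠ (j : Perm F) a := fun h => hj1 (hI.no_inv_fix j.2 hjj h.symm)
    have hgj : (g : Perm F) * j = j * g := congrArg Subtype.val (mem_centralizer_singleton_iff.mp hg)
    have hb : (g : Perm F) ((j : Perm F) a) = (j : Perm F) a := by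
      rw [← Perm.mul_apply, hgj, Perm.mul_apply, ha]
    obtain ⟨t, ht, ht0, ht1⟩ := hI.pair hab
    set g' := t⁻¹ * (g : Perm F) * t with hg'
    have hg'm : g' ∈ I := I.mul_mem (I.mul_mem (I.inv_mem ht) g.2) ht
    have hg'z : g' ∈ zpowers φ := hI.fix01 hg'm
      (by rw [hg', Perm.mul_apply, Perm.mul_apply, ht0, ha]; exact Perm.inv_eq_iff_eq.mpr ht0.symm)
      (by rw [hg', Perm.mul_apply, Perm.mul_apply, ht1, hb]; exact Perm.inv_eq_iff_eq.mpr ht1.symm)
    have hg'1 : g' ≠ 1 := fun h => by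
      have : (g : Perm F) = 1 := by
        calc (g : Perm F) = t * g' * t⁻¹ := by rw [hg']; group
          _ = 1 := by rw [h, mul_one, mul_inv_cancel]
      have hg1 : g = 1 := Subtype.ext this
      rw [hg1, orderOf_one] at hgr
      exact hr.ne_one hgr.symm
    have hzp : zpowers g' = zpowers φ := by
      refine Subgroup.eq_of_le_of_card_ge (zpowers_le.mpr hg'z) ?_
      rw [Nat.card_zpowers, Nat.card_zpowers, hI.frob.order]
      have hd : orderOf g' ∣ n := by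
        have := orderOf_dvd_natCard (⟨g', hg'z⟩ : ↥(zpowers φ))
        rwa [Nat.card_zpowers, hI.frob.order, Subgroup.orderOf_mk] at this
      rcases (Nat.dvd_prime hp).mp hd with h | h
      · exact absurd (orderOf_eq_one_iff.mp h) hg'1
      · exact h.ge
    obtain ⟨k, hk⟩ := mem_zpowers_iff.mp (hzp ▸ mem_zpowers φ : φ ∈ zpowers g')
    refine hA (t⁻¹ * (j : Perm F) * t) (I.mul_mem (I.mul_mem (I.inv_mem ht) j.2) ht) ?_ ?_ ?_
    · rw [show t⁻¹ * (j : Perm F) * t * (t⁻¹ * j * t) = t⁻¹ * ((j : Perm F) * j) * t by group, hjj,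
        mul_one, inv_mul_cancel]
    · rw [Perm.mul_apply, Perm.mul_apply, ht0]; exact Perm.inv_eq_iff_eq.mpr ht1.symm
    · rw [← hk]
      refine Commute.zpow_right ?_ k
      show t⁻¹ * (j : Perm F) * t * g' = g' * (t⁻¹ * j * t)
      rw [hg']
      calc t⁻¹ * (j : Perm F) * t * (t⁻¹ * g * t) = t⁻¹ * ((j : Perm F) * g) * t := by group
        _ = t⁻¹ * ((g : Perm F) * j) * t := by rw [hgj]
        _ = _ := by group
  -- at most `n * (2 ^ n - 1)` involutions
  have hJ : Nat.card {j : ↥I // orderOf j = 2} ≤ (2 ^ n - 1) * n := by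
    choose s hs hsx using fun u : Fˣ => hI.scal (u : F) u.ne_zero
    have hy : ∀ j : {j : ↥I // orderOf j = 2}, (j.1 : Perm F) 0 ≠ 0 := fun j h =>
      ne_one_of_orderOf_two j.2 (Subtype.ext (hI.no_inv_fix j.1.2
        (congrArg Subtype.val (mul_self_of_orderOf_two j.2)) h))
    let U : {j : ↥I // orderOf j = 2} → Fˣ := fun j => Units.mk0 _ (hy j)
    have hmem : ∀ j, (s (U j))⁻¹ * (j.1 : Perm F) * s (U j) * i ∈ I ⊓ zpowers φ := by
      intro j
      have h := I.mul_mem (I.mul_mem (I.mul_mem (I.inv_mem (hs (U j))) j.1.2) (hs (U j))) hi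
      have e0 : (s (U j)) 0 = 0 := by rw [hsx, mul_zero]
      have e1 : (s (U j)) 1 = (j.1 : Perm F) 0 := by rw [hsx, mul_one]; rfl
      refine ⟨h, hI.fix01 h ?_ ?_⟩
      · simp only [Perm.mul_apply, hi0, e1]
        refine Perm.inv_eq_iff_eq.mpr ?_
        rw [e0, ← Perm.mul_apply,
          show (j.1 : Perm F) * j.1 = 1 from congrArg Subtype.val (mul_self_of_orderOf_two j.2),
          Perm.one_apply]
      · simp only [Perm.mul_apply, hi1, e0]
        exact Perm.inv_eq_iff_eq.mpr e1.symm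
    have hinj : Function.Injective
        (fun j => (U j, (⟨_, hmem j⟩ : ↥(I ⊓ zpowers φ)))) := by
      intro a b h
      have e1 : U a = U b := congrArg Prod.fst h
      have e2 : (s (U a))⁻¹ * (a.1 : Perm F) * s (U a) * i =
          (s (U b))⁻¹ * (b.1 : Perm F) * s (U b) * i :=
        congrArg (fun z : Fˣ × ↥(I ⊓ zpowers φ) => (z.2 : Perm F)) h
      rw [e1] at e2
      exact Subtype.ext (Subtype.ext (mul_left_cancel (mul_right_cancel (mul_right_cancel e2))))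
    refine (Nat.card_le_card_of_injective _ hinj).trans (le_of_eq ?_)
    rw [Nat.card_prod, hY, Nat.card_units, Nat.card_eq_fintype_card, hI.card]
  have hmodd : ¬ 2 ∣ (2 ^ n - 1) * n := by
    rw [Nat.Prime.dvd_mul Nat.prime_two, not_or]
    obtain ⟨k, hk⟩ := hnodd
    refine ⟨?_, by omega⟩
    have : 2 ∣ 2 ^ n := dvd_pow_self 2 hp.ne_zero
    have := Nat.one_le_two_pow (n := n)
    omega
  have hcls : ∀ j : ↥I, orderOf j = 2 →
      Nat.card ↥(centralizer ({j} : Set ↥I)) = 2 ^ n ∧ ∀ b : ↥I, orderOf b = 2 → IsConj j b := by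
    intro j hj
    have hclass : Nat.card ↥I = Nat.card ↥(centralizer ({j} : Set ↥I)) *
        Nat.card {u : ↥I // u ∈ (Set.univ : Set ↥I) ∧ IsConj j u} := by
      rw [← card_preimage_conj j Set.univ]
      exact (Nat.card_congr (Equiv.subtypeUnivEquiv fun g => Set.mem_univ _)).symm
    have hord : ∀ u : ↥I, IsConj j u → orderOf u = 2 := fun u hu => by
      obtain ⟨c, hc⟩ := isConj_iff.mp hu
      rw [← hc, ← MulAut.conj_apply, MulEquiv.orderOf_eq, hj]
    let ι : {u : ↥I // u ∈ (Set.univ : Set ↥I) ∧ IsConj j u} → {j : ↥I // orderOf j = 2} :=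
      fun u => ⟨u.1, hord u.1 u.2.2⟩
    have hι : Function.Injective ι := fun a b h => Subtype.ext (congrArg (fun z => z.1) h)
    obtain ⟨k, hk⟩ := IsPGroup.iff_card.mp (hC2 j hj)
    have hdvd : 2 ^ k ∣ 2 ^ n * ((2 ^ n - 1) * n) := hk ▸ hG ▸ Subgroup.card_subgroup_dvd_card _
    have hdvd' : 2 ^ k ∣ 2 ^ n := (Nat.Coprime.pow_left k
      ((Nat.prime_two.coprime_iff_not_dvd).mpr hmodd)).dvd_of_dvd_mul_right hdvd
    have hle : 2 ^ k ≤ 2 ^ n := Nat.le_of_dvd (by positivity) hdvd'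
    have hc1 := Nat.card_le_card_of_injective ι hι
    rw [hk, hG] at hclass
    have hpos : 0 < (2 ^ n - 1) * n := Nat.pos_of_ne_zero fun h => hmodd (h ▸ dvd_zero 2)
    generalize hq : 2 ^ n = q at hclass hle hJ hpos
    generalize hM : (q - 1) * n = M at hclass hJ hpos
    have hkq : q ≤ 2 ^ k := by
      by_contra hlt
      have h1 : 2 ^ k * Nat.card {u : ↥I // u ∈ (Set.univ : Set ↥I) ∧ IsConj j u} ≤ 2 ^ k * M :=
        Nat.mul_le_mul_left _ (hc1.trans hJ)
      have h2 : 2 ^ k * M < q * M := Nat.mul_lt_mul_of_pos_right (by omega) hpos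
      omega
    have hkeq : 2 ^ k = q := le_antisymm hle hkq
    refine ⟨hk.trans hkeq, fun b hb => ?_⟩
    rw [hkeq] at hclass
    have hceq : M = Nat.card {u : ↥I // u ∈ (Set.univ : Set ↥I) ∧ IsConj j u} :=
      Nat.eq_of_mul_eq_mul_left (by omega) hclass
    obtain ⟨u, hu⟩ := (hι.bijective_of_nat_card_le (hJ.trans hceq.le)).2 ⟨b, hb⟩
    have : u.1 = b := congrArg (fun z => z.1) hu
    exact this ▸ u.2.2
  obtain ⟨P, hP⟩ := exists_normal_sylow hp h5 hG (fun j hj => (hcls j hj).1)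
    (fun a b ha hb => (hcls a ha).2 b hb)
  refine hI.no_normal_two ((P : Subgroup ↥I).map I.subtype) (Subgroup.map_subtype_le _)
    (P.isPGroup'.map _) ?_ ?_
  · rw [Ne, Subgroup.map_eq_bot_iff_of_injective _ I.subtype_injective]
    intro h
    have hcard := P.card_eq_multiplicity
    rw [h, Subgroup.card_bot] at hcard
    have hf : (Nat.card ↥I).factorization 2 ≠ 0 := by
      intro h0
      have h2 : 2 ∣ Nat.card ↥I := hG ▸ (dvd_pow_self 2 hp.ne_zero).mul_right _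
      have := (Nat.prime_two.dvd_iff_one_le_factorization Nat.card_pos.ne').mp h2
      omega
    have h2 : 2 ∣ 2 ^ (Nat.card ↥I).factorization 2 := dvd_pow_self 2 hf
    omega
  · rintro g hg x hx
    obtain ⟨x', hx', rfl⟩ := Subgroup.mem_map.mp hx
    refine Subgroup.mem_map.mpr ⟨(⟨g, hg⟩ : ↥I)⁻¹ * x' * ⟨g, hg⟩, ?_, rfl⟩
    have := hP.conj_mem x' hx' (⟨g, hg⟩ : ↥I)⁻¹
    rwa [inv_inv] at this

end Hyp

end NoAffine

open NoAffine in
/-- There is no such group. -/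
theorem no_affine {F : Type*} [Field F] [Fintype F] (n : ℕ) (hF : Fintype.card F = 2 ^ n)
    (hn : 4 ≤ n) (I : Subgroup (Equiv.Perm F))
    (haff : ∀ g ∈ I, ∀ x y : F, g (x + y) + g 0 = g x + g y)
    (hlin : ∀ g ∈ I, (∀ x : F, g x = x + g 0) → g = 1)
    (htrans : ∀ x : F, ∃ g ∈ I, g 0 = x)
    (hmul : ∀ a : F, a ≠ 0 → ∃ g ∈ I, ∀ x : F, g x = a * x)
    (hstab : ∀ g ∈ I, g 0 = 0 → ∃ (a : F) (σ : F ≃+* F), ∀ x : F, g x = a * σ x)
    (hodd : ∀ g ∈ I, g 0 = 0 → g * g = 1 → g = 1) : False := by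
  obtain ⟨φ, hφ⟩ := exists_frob hF
  have hI : Hyp n φ I := ⟨hF, hn, hφ, haff, hlin, htrans, hmul, hstab, hodd⟩
  by_cases hA : φ ∈ I ∧ ∀ i ∈ I, i * i = 1 → i 0 = 1 → ¬ Commute i φ
  · exact hI.no_exceptional hA.1 hA.2
  refine hI.no_transfer fun τ hτ hτ1 x hx => ?_
  rcases eq_or_ne x 0 with rfl | hx0
  · exact ⟨1, I.one_mem, Commute.one_left _, rfl⟩
  suffices h : ∃ c ∈ I, Commute c τ ∧ c 0 = 1 by
    obtain ⟨c, hc, hcτ, hc0⟩ := h
    obtain ⟨m, hm, hmx⟩ := hmul x hx0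
    refine ⟨m * c, I.mul_mem hm hc, (hI.commute_scal hτ.2 hmx hx).mul_left hcτ, ?_⟩
    rw [Equiv.Perm.mul_apply, hc0, hmx, mul_one]
  obtain ⟨k, hk⟩ := hφ.exists_nat hτ.2
  have hd : Nat.gcd k n ∣ n := Nat.gcd_dvd_right k n
  rcases Nat.lt_or_ge (Nat.gcd k n) 2 with hlt | hge
  · have hg1 : Nat.gcd k n = 1 := by
      have := Nat.pos_of_ne_zero (fun h => by
        rw [Nat.gcd_eq_zero_iff] at h; omega : Nat.gcd k n ≠ 0)
      omega
    have hord : orderOf τ = n := by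
      rw [hk, orderOf_pow, hφ.order, Nat.gcd_comm, hg1, Nat.div_one]
    have hz : Subgroup.zpowers τ = Subgroup.zpowers φ :=
      Subgroup.eq_of_le_of_card_ge (Subgroup.zpowers_le.mpr hτ.2)
        (by rw [Nat.card_zpowers, Nat.card_zpowers, hord, hφ.order])
    have hφI : φ ∈ I := Subgroup.zpowers_le.mpr hτ.1 (hz ▸ Subgroup.mem_zpowers φ)
    simp only [not_and, not_forall, not_not] at hA
    obtain ⟨i, hi, _, hi0, hiφ⟩ := hA hφI
    exact ⟨i, hi, hk ▸ hiφ.pow_right k, hi0⟩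
  · obtain ⟨a, ha0, ha1, ha⟩ := hφ.exists_fixed hF (by omega) hd hge
    refine hI.commute_of_fixed hτ ha0 ha1 ?_
    obtain ⟨l, hl⟩ := Nat.gcd_dvd_left k n
    rw [hk, hl, pow_mul]
    exact Equiv.Perm.pow_apply_eq_self_of_apply_eq_self ha l

end CfsgLib.JankoThompson
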