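import Mathlib
import Cfsg.Agent.S0205
import Cfsg.Agent.Lib.JankoThompson.NoAffine

/-!
A group of automorphisms of odd order of an elementary abelian group of order `2 ^ (n + 1)`,
transitive on the nonidentity elements, has no element fixing `t ≠ 1` and cycling all nonidentity
elements of a hyperplane avoiding `t`.
-/

set_option autoImplicit false
set_option linter.style.haveILetI false
set_option linter.unusedVariables false

namespace CfsgLib.JankoThompson

open Subgroup

namespace AbelianSylow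

variable {V : Type*} [CommGroup V]

/-- An automorphism as an endomorphism of the additive group. -/
def toEnd (g : MulAut V) : AddMonoid.End (Additive V) :=
  { toFun := fun x => Additive.ofMul (g x.toMul)
    map_zero' := map_one g
    map_add' := fun x y => map_mul g x.toMul y.toMul }

theorem toEnd_apply (g : MulAut V) (x : Additive V) :
    toEnd g x = Additive.ofMul (g x.toMul) := rfl

theorem toEnd_mul (g h : MulAut V) : toEnd (g * h) = toEnd g * toEnd h :=
  AddMonoidHom.ext fun _ => rfl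

theorem toEnd_one : toEnd (1 : MulAut V) = 1 :=
  AddMonoidHom.ext fun _ => rfl

theorem toEnd_inv_mul (g : MulAut V) : toEnd g⁻¹ * toEnd g = 1 := by
  rw [← toEnd_mul, inv_mul_cancel, toEnd_one]

theorem toEnd_mul_inv (g : MulAut V) : toEnd g * toEnd g⁻¹ = 1 := by
  rw [← toEnd_mul, mul_inv_cancel, toEnd_one]

/-- Conjugation by an automorphism normalising `M` on the commutant of `M`. -/
theorem conj_mem {M : Subgroup (MulAut V)} {g : MulAut V}
    (hg : ∀ m ∈ M, g⁻¹ * m * g ∈ M) {a : AddMonoid.End (Additive V)}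
    (ha : a ∈ Subring.centralizer (toEnd '' (M : Set (MulAut V)))) :
    toEnd g * a * toEnd g⁻¹ ∈ Subring.centralizer (toEnd '' (M : Set (MulAut V))) := by
  rw [Subring.mem_centralizer_iff] at ha ⊢
  rintro _ ⟨m, hm, rfl⟩
  have h := ha _ ⟨_, hg m hm, rfl⟩
  have e1 : toEnd m * toEnd g = toEnd g * toEnd (g⁻¹ * m * g) := by
    rw [← toEnd_mul, ← toEnd_mul]; congr 1; group
  have e2 : toEnd (g⁻¹ * m * g) * toEnd g⁻¹ = toEnd g⁻¹ * toEnd m := by
    rw [← toEnd_mul, ← toEnd_mul]; congr 1; group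
  calc toEnd m * (toEnd g * a * toEnd g⁻¹) = toEnd m * toEnd g * a * toEnd g⁻¹ := by
        simp only [mul_assoc]
    _ = toEnd g * (toEnd (g⁻¹ * m * g) * a) * toEnd g⁻¹ := by
        rw [e1]; simp only [mul_assoc]
    _ = toEnd g * a * (toEnd (g⁻¹ * m * g) * toEnd g⁻¹) := by
        rw [h]; simp only [mul_assoc]
    _ = toEnd g * a * toEnd g⁻¹ * toEnd m := by
        rw [e2]; simp only [mul_assoc]

variable [Finite V]

/-- The automorphisms normalising a regular abelian group act like field automorphisms. -/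
theorem pow_fixes (n : ℕ) (hcard : Nat.card V = 2 ^ n) (hn : n ≠ 0) (M : Subgroup (MulAut V))
    (hab : ∀ a ∈ M, ∀ b ∈ M, a * b = b * a) (t : V)
    (htrans : ∀ v : V, v ≠ 1 → ∃ m ∈ M, m t = v) (l : MulAut V) (hlt : l t = t)
    (hl : ∀ m ∈ M, l⁻¹ * m * l ∈ M) (hl' : ∀ m ∈ M, l * m * l⁻¹ ∈ M) (v : V) :
    (l ^ n) v = v := by
  classical
  have ht : t ≠ 1 := by
    rintro rfl
    haveI : Nontrivial V := Finite.one_lt_card_iff_nontrivial.mp (hcard ▸ Nat.one_lt_two_pow hn)
    obtain ⟨v, hv⟩ := exists_ne (1 : V)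
    obtain ⟨m, -, hm⟩ := htrans v hv
    exact hv (hm ▸ map_one m)
  let K := Subring.centralizer (toEnd '' (M : Set (MulAut V)))
  let ev : ↥K → V := fun a => Additive.toMul ((a : AddMonoid.End (Additive V)) (Additive.ofMul t))
  have hmM : ∀ m ∈ M, toEnd m ∈ K := fun m hm => Subring.mem_centralizer_iff.mpr (by
    rintro _ ⟨b, hb, rfl⟩
    rw [← toEnd_mul, ← toEnd_mul, hab b hb m hm])
  have hinj : Function.Injective ev := by
    intro a b h
    refine Subtype.ext (AddMonoidHom.ext fun x => ?_)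
    by_cases hx : x.toMul = 1
    · have : x = 0 := hx
      rw [this]
      exact (map_zero a.1).trans (map_zero b.1).symm
    · obtain ⟨m, hm, hmx⟩ := htrans _ hx
      have hxe : x = toEnd m (Additive.ofMul t) := by
        rw [toEnd_apply, toMul_ofMul, hmx, ofMul_toMul]
      have hcomm : ∀ c : ↥K, (c : AddMonoid.End (Additive V)) (toEnd m (Additive.ofMul t)) =
          toEnd m ((c : AddMonoid.End (Additive V)) (Additive.ofMul t)) := fun c =>
        (DFunLike.congr_fun (Subring.mem_centralizer_iff.mp c.2 _ ⟨m, hm, rfl⟩)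
          (Additive.ofMul t)).symm
      rw [hxe]
      exact (hcomm a).trans ((congrArg (toEnd m) h).trans (hcomm b).symm)
  have hsurj : Function.Surjective ev := by
    intro v
    by_cases hv : v = 1
    · exact ⟨0, hv ▸ rfl⟩
    · obtain ⟨m, hm, hmv⟩ := htrans v hv
      exact ⟨⟨toEnd m, hmM m hm⟩, hmv⟩
  have hshape : ∀ a : ↥K, a ≠ 0 → ∃ m ∈ M, (a : AddMonoid.End (Additive V)) = toEnd m := by
    intro a ha
    have hv : ev a ≠ 1 := fun h => ha (hinj (h.trans rfl))
    obtain ⟨m, hm, hmv⟩ := htrans _ hv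
    exact ⟨m, hm, congrArg Subtype.val (hinj (a₁ := a) (a₂ := ⟨toEnd m, hmM m hm⟩) hmv.symm)⟩
  have hfield : IsField ↥K :=
    { exists_pair_ne := ⟨0, 1, fun h => ht (congrArg ev h).symm⟩
      mul_comm := fun a b => by
        by_cases ha : a = 0
        · rw [ha, zero_mul, mul_zero]
        · obtain ⟨m, hm, e⟩ := hshape a ha
          refine Subtype.ext ?_
          show (a : AddMonoid.End (Additive V)) * b = b * a
          rw [e]
          exact Subring.mem_centralizer_iff.mp b.2 _ ⟨m, hm, rfl⟩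
      mul_inv_cancel := fun {a} ha => by
        obtain ⟨m, hm, e⟩ := hshape a ha
        refine ⟨⟨toEnd m⁻¹, hmM _ (M.inv_mem hm)⟩, Subtype.ext ?_⟩
        show (a : AddMonoid.End (Additive V)) * toEnd m⁻¹ = 1
        rw [e, toEnd_mul_inv] }
  letI : Field ↥K := hfield.toField
  haveI : Finite ↥K := Finite.of_injective ev hinj
  letI : Fintype ↥K := Fintype.ofFinite _
  have hK : Fintype.card ↥K = 2 ^ n := by
    rw [← Nat.card_eq_fintype_card, Nat.card_eq_of_bijective ev ⟨hinj, hsurj⟩, hcard]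
  obtain ⟨φ, hφ⟩ := NoAffine.exists_frob hK
  let σ : ↥K ≃+* ↥K :=
    { toFun := fun a => ⟨toEnd l * a.1 * toEnd l⁻¹, conj_mem hl a.2⟩
      invFun := fun a => ⟨toEnd l⁻¹ * a.1 * toEnd l, by
        have := conj_mem (g := l⁻¹) (fun m hm => by rw [inv_inv]; exact hl' m hm) a.2
        rwa [inv_inv] at this⟩
      left_inv := fun a => Subtype.ext (by
        show toEnd l⁻¹ * (toEnd l * a.1 * toEnd l⁻¹) * toEnd l = a.1
        rw [← mul_assoc, ← mul_assoc, toEnd_inv_mul, one_mul, mul_assoc, toEnd_inv_mul, mul_one])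
      right_inv := fun a => Subtype.ext (by
        show toEnd l * (toEnd l⁻¹ * a.1 * toEnd l) * toEnd l⁻¹ = a.1
        rw [← mul_assoc, ← mul_assoc, toEnd_mul_inv, one_mul, mul_assoc, toEnd_mul_inv, mul_one])
      map_mul' := fun a b => Subtype.ext (by
        show toEnd l * (a.1 * b.1) * toEnd l⁻¹ =
          toEnd l * a.1 * toEnd l⁻¹ * (toEnd l * b.1 * toEnd l⁻¹)
        calc toEnd l * (a.1 * b.1) * toEnd l⁻¹
            = toEnd l * a.1 * (toEnd l⁻¹ * toEnd l) * b.1 * toEnd l⁻¹ := by
              rw [toEnd_inv_mul, mul_one]; simp only [mul_assoc]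
          _ = _ := by simp only [mul_assoc])
      map_add' := fun a b => Subtype.ext (by
        show toEnd l * (a.1 + b.1) * toEnd l⁻¹ =
          toEnd l * a.1 * toEnd l⁻¹ + toEnd l * b.1 * toEnd l⁻¹
        rw [mul_add, add_mul]) }
  have hev : ∀ a, ev (σ a) = l (ev a) := fun a => by
    show l (Additive.toMul (a.1 (Additive.ofMul (l⁻¹ t)))) = _
    rw [show l⁻¹ t = t from (MulEquiv.symm_apply_eq l).mpr hlt.symm]
  have hpow : ∀ (k : ℕ) (a : ↥K), ev ((σ.toEquiv ^ k) a) = (l ^ k) (ev a) := by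
    intro k
    induction k with
    | zero => intro a; rfl
    | succ k ih =>
      intro a
      rw [pow_succ', pow_succ']
      show ev (σ ((σ.toEquiv ^ k) a)) = l ((l ^ k) (ev a))
      rw [hev, ih]
  obtain ⟨j, hj⟩ := mem_zpowers_iff.mp (hφ.mem σ)
  have hσn : σ.toEquiv ^ n = 1 := by
    rw [← hj, ← zpow_natCast, ← zpow_mul, mul_comm, zpow_mul, zpow_natCast, ← hφ.order,
      pow_orderOf_eq_one, one_zpow]
  obtain ⟨a, rfl⟩ := hsurj v
  rw [← hpow, hσn]
  rfl

end AbelianSylow

open AbelianSylow in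
/-- There is no transitive group of odd order with such a stabiliser. -/
theorem no_transitive {V : Type*} [CommGroup V] [Finite V] (n : ℕ) (hn : 3 ≤ n)
    (hV : ∀ v : V, v * v = 1) (hcard : Nat.card V = 2 ^ (n + 1))
    (X : Subgroup (MulAut V)) (hodd : Odd (Nat.card X)) (t : V) (ht : t ≠ 1) (W : Subgroup V)
    (htW : t ∉ W) (hW : Nat.card W = 2 ^ n)
    (l : MulAut V) (hl : l ∈ X) (hlt : l t = t) (hlW : ∀ w ∈ W, l w ∈ W)
    (hreg : ∀ w ∈ W, w ≠ 1 → ∀ w' ∈ W, w' ≠ 1 → ∃ j : ℕ, (l ^ j) w = w')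
    (htrans : ∀ v : V, v ≠ 1 → ∃ x ∈ X, x t = v) : False := by
  classical
  -- a nontrivial abelian normal subgroup
  haveI : Finite ↥X := Finite.of_injective (fun x : ↥X => (x : MulAut V).toEquiv) fun a b h =>
    Subtype.ext (MulEquiv.ext fun v => DFunLike.congr_fun h v)
  haveI : Group.IsSolvable ↥X := Cfsg.Agent.S0205.result hodd
  haveI : Nontrivial ↥X := by
    obtain ⟨w, hw, hw1⟩ : ∃ w ∈ W, w ≠ 1 := by
      refine (Subgroup.ne_bot_iff_exists_ne_one.mp fun h => ?_).elim fun a ha =>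
        ⟨a.1, a.2, fun h => ha (Subtype.ext h)⟩
      rw [h, Subgroup.card_bot] at hW
      exact absurd hW (Nat.ne_of_lt (Nat.one_lt_two_pow (by omega)))
    obtain ⟨x, hx, hxt⟩ := htrans w hw1
    exact ⟨⟨x, hx⟩, 1, fun h => htW (by
      have : x = 1 := congrArg Subtype.val h
      rw [this] at hxt
      exact (show t = w from hxt) ▸ hw)⟩
  obtain ⟨k, hk, hk1⟩ : ∃ k, derivedSeries ↥X k ≠ ⊥ ∧ derivedSeries ↥X (k + 1) = ⊥ := by
    have hs : ∃ m, derivedSeries ↥X m = ⊥ := (Group.isSolvable_def ↥X).mp inferInstance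
    have h0 : Nat.find hs ≠ 0 := fun h => by
      have := Nat.find_spec hs
      rw [h, derivedSeries_zero] at this
      exact top_ne_bot this
    exact ⟨Nat.find hs - 1, Nat.find_min hs (by omega),
      by rw [Nat.sub_add_cancel (Nat.one_le_iff_ne_zero.mpr h0)]; exact Nat.find_spec hs⟩
  have hDn : (derivedSeries ↥X k).Normal := derivedSeries_normal _ _
  set M : Subgroup (MulAut V) := (derivedSeries ↥X k).map X.subtype with hM
  have hMmem : ∀ x : ↥X, x ∈ derivedSeries ↥X k → (x : MulAut V) ∈ M := fun x hx =>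
    mem_map.mpr ⟨x, hx, rfl⟩
  have hMX : M ≤ X := map_subtype_le _
  have hconj : ∀ g ∈ X, ∀ m ∈ M, g * m * g⁻¹ ∈ M := by
    intro g hg m hm
    obtain ⟨m', hm', rfl⟩ := mem_map.mp hm
    exact hMmem _ (hDn.conj_mem m' hm' ⟨g, hg⟩)
  have hab : ∀ a ∈ M, ∀ b ∈ M, a * b = b * a := by
    intro a ha b hb
    obtain ⟨a', ha', rfl⟩ := mem_map.mp ha
    obtain ⟨b', hb', rfl⟩ := mem_map.mp hb
    rw [derivedSeries_succ, Subgroup.commutator_eq_bot_iff_le_centralizer] at hk1
    exact congrArg Subtype.val ((mem_centralizer_iff.mp (hk1 ha') b' hb').symm)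
  have hMne : M ≠ ⊥ := by
    rw [hM, Ne, Subgroup.map_eq_bot_iff_of_injective _ X.subtype_injective]
    exact hk
  -- the orbit of `t`
  set O : Set V := {v | ∃ m ∈ M, m t = v} with hO
  have hOt : t ∈ O := ⟨1, M.one_mem, rfl⟩
  have hlO : ∀ v ∈ O, l v ∈ O := by
    rintro _ ⟨m, hm, rfl⟩
    refine ⟨l * m * l⁻¹, hconj l hl m hm, ?_⟩
    show l (m (l⁻¹ t)) = _
    rw [show l⁻¹ t = t from (MulEquiv.symm_apply_eq l).mpr hlt.symm]
  have hlO' : ∀ (j : ℕ) (v : V), v ∈ O → (l ^ j) v ∈ O := by
    intro j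
    induction j with
    | zero => exact fun v h => h
    | succ j ih => exact fun v h => by rw [pow_succ']; exact hlO _ (ih v h)
  have hlpow : ∀ j : ℕ, (l ^ j) t = t := by
    intro j
    induction j with
    | zero => rfl
    | succ j ih =>
      rw [pow_succ']
      show l ((l ^ j) t) = t
      rw [ih, hlt]
  have hOodd : Odd (Nat.card ↥O) := by
    have e : O = MulAction.orbit ↥M t := Set.ext fun v =>
      ⟨fun ⟨m, hm, h⟩ => ⟨⟨m, hm⟩, h⟩, fun ⟨m, h⟩ => ⟨m.1, m.2, h⟩⟩
    rw [e, Nat.card_coe_set_eq, ← MulAction.index_stabilizer]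
    exact hodd.of_dvd_nat ((Subgroup.index_dvd_card _).trans (Subgroup.card_dvd_of_le hMX))
  have hidx : W.index = 2 := by
    have h := W.card_mul_index
    rw [hW, hcard, pow_succ] at h
    exact Nat.eq_of_mul_eq_mul_left (by positivity) h
  have hcos : ∀ v, v ∉ W → t * v ∈ W := fun v hv => by
    rw [Subgroup.mul_mem_iff_of_index_two hidx]
    exact iff_of_false htW hv
  have htt : ∀ v, t * (t * v) = v := fun v => by rw [← mul_assoc, hV, one_mul]
  have hWin : (∀ w ∈ W, w ≠ 1 → w ∈ O) ∧ (∀ w ∈ W, w ≠ 1 → t * w ∈ O) := by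
    by_cases hA : ∃ w ∈ W, w ≠ 1 ∧ w ∈ O <;> by_cases hB : ∃ w ∈ W, w ≠ 1 ∧ t * w ∈ O
    all_goals
      have allA : (∃ w ∈ W, w ≠ 1 ∧ w ∈ O) → ∀ w ∈ W, w ≠ 1 → w ∈ O := by
        rintro ⟨w₀, h0, h1, h2⟩ w hw hw1
        obtain ⟨j, rfl⟩ := hreg w₀ h0 h1 w hw hw1
        exact hlO' j _ h2
      have allB : (∃ w ∈ W, w ≠ 1 ∧ t * w ∈ O) → ∀ w ∈ W, w ≠ 1 → t * w ∈ O := by
        rintro ⟨w₀, h0, h1, h2⟩ w hw hw1
        obtain ⟨j, rfl⟩ := hreg w₀ h0 h1 w hw hw1
        have := hlO' j _ h2
        rwa [map_mul, hlpow] at this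
    · exact ⟨allA hA, allB hB⟩
    · -- the orbit would be `{t} ∪ W#`
      exfalso
      have hmap : ∀ w : ↥W, (if (w : V) = 1 then t else (w : V)) ∈ O := fun w => by
        split_ifs with h
        · exact hOt
        · exact allA hA _ w.2 h
      have hb : Function.Bijective (fun w : ↥W => (⟨_, hmap w⟩ : ↥O)) := by
        constructor
        · intro a b h
          have h' : (if (a : V) = 1 then t else (a : V)) = if (b : V) = 1 then t else (b : V) :=
            congrArg Subtype.val h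
          split_ifs at h' with ha hb' hb'
          · exact Subtype.ext (ha.trans hb'.symm)
          · exact absurd (h' ▸ b.2) htW
          · exact absurd (h'.symm ▸ a.2) htW
          · exact Subtype.ext h'
        · rintro ⟨v, hv⟩
          by_cases hvW : v ∈ W
          · have hv1 : v ≠ 1 := by
              rintro rfl
              obtain ⟨m, -, hm⟩ := hv
              exact ht (m.injective (hm.trans (map_one m).symm))
            exact ⟨⟨v, hvW⟩, Subtype.ext (if_neg hv1)⟩
          · by_cases hvt : v = t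
            · exact ⟨1, Subtype.ext ((if_pos rfl).trans hvt.symm)⟩
            · refine absurd ⟨t * v, hcos v hvW, fun h => hvt ?_, by rw [htt]; exact hv⟩ hB
              rw [← htt v, h, mul_one]
      rw [← Nat.card_eq_of_bijective _ hb, hW, Nat.odd_pow_iff (by omega)] at hOodd
      exact absurd hOodd (by decide)
    · exfalso
      have hmap : ∀ w : ↥W, t * (w : V) ∈ O := fun w => by
        by_cases h : (w : V) = 1
        · rw [h, mul_one]; exact hOt
        · exact allB hB _ w.2 h
      have hb : Function.Bijective (fun w : ↥W => (⟨_, hmap w⟩ : ↥O)) := by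
        constructor
        · intro a b h
          exact Subtype.ext (mul_left_cancel (congrArg Subtype.val h))
        · rintro ⟨v, hv⟩
          by_cases hvW : v ∈ W
          · have hv1 : v ≠ 1 := by
              rintro rfl
              obtain ⟨m, -, hm⟩ := hv
              exact ht (m.injective (hm.trans (map_one m).symm))
            exact absurd ⟨v, hvW, hv1, hv⟩ hA
          · exact ⟨⟨t * v, hcos v hvW⟩, Subtype.ext (htt v)⟩
      rw [← Nat.card_eq_of_bijective _ hb, hW, Nat.odd_pow_iff (by omega)] at hOodd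
      exact absurd hOodd (by decide)
    · exfalso
      have hfix : ∀ m ∈ M, m t = t := by
        intro m hm
        by_contra h
        have hmem : m t ∈ O := ⟨m, hm, rfl⟩
        by_cases hW' : m t ∈ W
        · exact hA ⟨_, hW', fun e => ht (m.injective (e.trans (map_one m).symm)), hmem⟩
        · refine hB ⟨_, hcos _ hW', fun e => h ?_, by rw [htt]; exact hmem⟩
          rw [← htt (m t), e, mul_one]
      refine hMne ((Subgroup.eq_bot_iff_forall M).mpr fun m hm => MulEquiv.ext fun v => ?_)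
      by_cases hv : v = 1
      · rw [hv, map_one]; rfl
      · obtain ⟨x, hx, rfl⟩ := htrans v hv
        have := hfix _ (by simpa using hconj x⁻¹ (X.inv_mem hx) m hm)
        change x.symm (m (x t)) = t at this
        exact (MulEquiv.symm_apply_eq x).mp this
  have hMtrans : ∀ v : V, v ≠ 1 → ∃ m ∈ M, m t = v := by
    intro v hv
    by_cases hvW : v ∈ W
    · exact hWin.1 v hvW hv
    · by_cases hvt : v = t
      · rw [hvt]; exact hOt
      · have := hWin.2 _ (hcos v hvW) (fun h => hvt (by rw [← htt v, h, mul_one]))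
        rwa [htt] at this
  have hfix := pow_fixes (n + 1) hcard (by omega) M hab t hMtrans l hlt
    (fun m hm => by simpa using hconj l⁻¹ (X.inv_mem hl) m hm) (fun m hm => hconj l hl m hm)
  -- the orbit of an element of `W`
  obtain ⟨w, hw, hw1⟩ : ∃ w ∈ W, w ≠ 1 := by
    refine (Subgroup.ne_bot_iff_exists_ne_one.mp fun h => ?_).elim fun a ha =>
      ⟨a.1, a.2, fun h => ha (Subtype.ext h)⟩
    rw [h, Subgroup.card_bot] at hW
    exact absurd hW (Nat.ne_of_lt (Nat.one_lt_two_pow (by omega)))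
  have hsub : (W : Set V) ⊆ insert 1 ((fun j : Fin (n + 1) => (l ^ (j : ℕ)) w) '' Set.univ) := by
    intro v hv
    by_cases hv1 : v = 1
    · exact Or.inl hv1
    · obtain ⟨j, rfl⟩ := hreg w hw hw1 v hv hv1
      refine Or.inr ⟨⟨j % (n + 1), Nat.mod_lt _ (by omega)⟩, trivial, ?_⟩
      show (l ^ (j % (n + 1))) w = (l ^ j) w
      conv_rhs => rw [← Nat.mod_add_div j (n + 1), pow_add]
      show _ = (l ^ (j % (n + 1))) ((l ^ ((n + 1) * (j / (n + 1)))) w)
      congr 1
      induction j / (n + 1) with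
      | zero => simp
      | succ i ih =>
        rw [Nat.mul_succ, pow_add]
        show _ = (l ^ ((n + 1) * i)) ((l ^ (n + 1)) w)
        rw [hfix w]
        exact ih
  have h1 := Set.ncard_le_ncard hsub (Set.toFinite _)
  have h2 := Set.ncard_insert_le (1 : V) ((fun j : Fin (n + 1) => (l ^ (j : ℕ)) w) '' Set.univ)
  have h3 := Set.ncard_image_le (f := fun j : Fin (n + 1) => (l ^ (j : ℕ)) w) (s := Set.univ)
  rw [Set.ncard_univ, Nat.card_fin] at h3
  rw [← Nat.card_coe_set_eq] at h1
  change Nat.card ↥W ≤ _ at h1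
  rw [hW] at h1
  have h4 : n + 2 < 2 ^ n := by
    have h : ∀ k : ℕ, k + 3 + 2 < 2 ^ (k + 3) := by
      intro k
      induction k with
      | zero => norm_num
      | succ k ih => rw [show k + 1 + 3 = (k + 3) + 1 by omega, pow_succ]; omega
    obtain ⟨k, rfl⟩ := Nat.exists_eq_add_of_le' hn
    exact h k
  omega

end CfsgLib.JankoThompson
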