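import Cfsg.Agent.Lib.JankoThompson.Main
import Cfsg.Agent.Lib.JankoThompson.AbelianSylow

/-!
The Sylow 2-subgroups have order eight.
-/

set_option autoImplicit false

namespace CfsgLib.JankoThompson

open Subgroup
open scoped Pointwise

variable {G : Type*} [Group G] [Finite G] {t : G} {E W : Subgroup G} {n : ℕ} {l : G}
  {F : Type*} [Field F] [Fintype F]

theorem Elem.sylow_eight (h : Elem t E W n) (a : Act t W l) (hM : 4 ≤ n → Model t W l F)
    (S : Sylow 2 G) : Nat.card ↥(S : Subgroup G) = 8 ∧ ∀ x ∈ (S : Subgroup G), x ^ 2 = 1 := by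
  classical
  haveI : Fact (Nat.Prime 2) := ⟨Nat.prime_two⟩
  haveI := h.simple
  obtain ⟨S₀, hS₀⟩ := h.E_two.exists_le_sylow
  have hS₀E : (S₀ : Subgroup G) = E := h.eq_E_of_le a hM S₀.2 hS₀
  obtain ⟨g, hg⟩ := MulAction.exists_smul_eq G S₀ S
  have hSE : (S : Subgroup G) = MulAut.conj g • E := by
    rw [← hg, Sylow.coe_subgroup_smul, hS₀E]
  have hn : n = 2 := by
    by_contra hne
    have hn3 : 3 ≤ n := by have := h.two_le; omega
    -- some other element of `tW` is conjugate to `t`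
    obtain ⟨d, hd, hC⟩ := h.cardC
    have hex : ∃ w ∈ W, w ≠ 1 ∧ IsConj t (t * w) := by
      by_contra hno
      push Not at hno
      have hrel : W.relIndex E = 2 := by
        have h1 := card_mul_index (W.subgroupOf E)
        rw [Nat.card_congr (subgroupOfEquivOfLe h.WE).toEquiv, h.cardW, h.cardE, pow_succ] at h1
        exact Nat.eq_of_mul_eq_mul_left (pow_pos two_pos n) h1
      refine transfer_odd h.noncomm h.WE hrel h.tt hd ?_
      have hM1 : Nat.card {u : G // u ∈ E ∧ u ∉ W ∧ IsConj t u} = 1 := by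
        rw [Nat.card_eq_one_iff_exists]
        refine ⟨⟨t, h.tE, h.tW, IsConj.refl t⟩, fun u => Subtype.ext ?_⟩
        by_contra hne'
        refine hno _ ((h.split u.1 u.2.1).resolve_left u.2.2.1) (fun e => hne' ?_)
          (by rw [← mul_assoc, h.tt, one_mul]; exact u.2.2.2)
        rw [eq_inv_of_mul_eq_one_right e, inv_eq_of_mul_eq_one_right h.tt]
      rw [hM1, mul_one, hC, h.cardE]
    obtain ⟨w₀, hw₀, hw₀1, hc₀⟩ := hex
    have hlE := a.normalizes_E h
    have hlN : l ∈ normalizer (E : Set G) := mem_normalizer_fintype hlE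
    have hall : ∀ w ∈ W, IsConj t (t * w) := by
      intro w hw
      rcases eq_or_ne w 1 with rfl | hw1
      · rw [mul_one]
      refine a.all_of_one (S := fun x => IsConj t (t * x)) (fun x _ hx => hx.trans
        (isConj_iff.mpr ⟨l, ?_⟩)) hw₀ hw₀1 hc₀ w hw hw1
      rw [← mul_assoc, a.lC]; group
    -- fusion in `N(E)`
    let N : Subgroup G := normalizer (E : Set G)
    have hcent : ∀ e ∈ E, e ∈ centralizer ((S₀ : Subgroup G) : Set G) := fun e he =>
      mem_centralizer_iff.mpr fun y hy => h.E_comm (hS₀E ▸ hy : y ∈ E) he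
    have hO : ∀ w ∈ W, ∃ x ∈ N, x * t * x⁻¹ = t * w := by
      intro w hw
      obtain ⟨c, hc⟩ := isConj_iff.mp (hall w hw)
      obtain ⟨x, hx, hxt⟩ := Sylow.conj_eq_normalizer_conj_of_mem_centralizer S₀ t c⁻¹ (hcent t h.tE)
        (by rw [inv_inv, hc]; exact hcent _ (mul_mem h.tE (h.WE hw)))
      rw [inv_inv, hc] at hxt
      refine ⟨x⁻¹, inv_mem ?_, by rw [inv_inv, ← hxt]⟩
      show x ∈ normalizer (E : Set G)
      rw [← hS₀E]; exact hx
    letI : CommGroup E :=
      { (inferInstance : Group E) with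
        mul_comm := fun x y => Subtype.ext (h.E_comm x.2 y.2) }
    set φ : N →* MulAut E := E.normalizerMonoidHom with hφ
    have hφa : ∀ (x : N) (e : E), ((φ x e : E) : G) = x.1 * e.1 * x.1⁻¹ := fun _ _ => rfl
    have hEN : E ≤ N := le_normalizer
    have hodd : Odd (Nat.card φ.range) := by
      have h1 : (E.subgroupOf N) ≤ φ.ker := fun x hx => by
        refine MonoidHom.mem_ker.mpr (MulEquiv.ext fun e => Subtype.ext ?_)
        rw [hφa]
        show x.1 * e.1 * x.1⁻¹ = e.1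
        rw [h.E_comm (show x.1 ∈ E from hx) e.2, mul_inv_cancel_right]
      have h2 : φ.ker.index ∣ (E.subgroupOf N).index := index_dvd_of_le h1
      rw [index_ker] at h2
      refine Odd.of_dvd_nat ?_ h2
      rw [← Nat.not_even_iff_odd, even_iff_two_dvd]
      intro hdvd
      refine S₀.not_dvd_index ?_
      rw [hS₀E, ← relIndex_mul_index hEN]
      exact Dvd.dvd.mul_right hdvd _
    have hlρ : ∀ (j : ℕ) (e : E), ((((φ ⟨l, hlN⟩) ^ j) e : E) : G) = l ^ j * e.1 * (l ^ j)⁻¹ := by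
      intro j e
      rw [← map_pow, hφa]
      simp
    let O : Set E := {e | ∃ x : φ.range, x.1 ⟨t, h.tE⟩ = e}
    have hOodd : Odd (Nat.card O) := by
      have h1 := Nat.card_congr (MulAction.orbitProdStabilizerEquivGroup φ.range (⟨t, h.tE⟩ : E))
      rw [Nat.card_prod] at h1
      exact Odd.of_dvd_nat hodd (Dvd.intro _ (show Nat.card O * _ = _ from h1))
    have hWO : ∃ w ∈ W, w ≠ 1 ∧ ∃ x : φ.range, ((x.1 ⟨t, h.tE⟩ : E) : G) = w := by
      by_contra hno
      push Not at hno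
      have hO2 : Nat.card O = 2 ^ n := by
        rw [← h.cardW]
        refine Nat.card_congr
          { toFun := fun e => ⟨t * e.1.1, (h.split e.1.1 e.1.2).resolve_left fun hw => by
              obtain ⟨x, hx⟩ := e.2
              refine hno e.1.1 hw (fun e1 => h.t1 ?_) x (congrArg Subtype.val hx)
              have : x.1 (⟨t, h.tE⟩ : E) = 1 := hx.trans (Subtype.ext e1)
              exact congrArg Subtype.val (x.1.injective (this.trans (map_one x.1).symm))⟩
            invFun := fun w => ⟨⟨t * w.1, mul_mem h.tE (h.WE w.2)⟩, by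
              obtain ⟨x, hx, hxt⟩ := hO w.1 w.2
              exact ⟨⟨φ ⟨x, hx⟩, _, rfl⟩, Subtype.ext hxt⟩⟩
            left_inv := fun e => Subtype.ext (Subtype.ext (by simp [← mul_assoc, h.tt]))
            right_inv := fun w => Subtype.ext (by simp [← mul_assoc, h.tt]) }
      rw [hO2] at hOodd
      exact Nat.not_odd_iff_even.mpr (Nat.even_pow.mpr ⟨even_two, by omega⟩) hOodd
    obtain ⟨w₁, hw₁, hw₁1, x₁, hx₁⟩ := hWO
    refine no_transitive (V := E) n hn3 (fun e => Subtype.ext (h.sq e.1 e.2)) h.cardE φ.range hodd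
      ⟨t, h.tE⟩ (fun e => h.t1 (congrArg Subtype.val e)) (W.subgroupOf E) (fun hh => h.tW hh)
      (by rw [Nat.card_congr (subgroupOfEquivOfLe h.WE).toEquiv, h.cardW])
      (φ ⟨l, hlN⟩) ⟨_, rfl⟩ (Subtype.ext ?_) (fun w hw => ?_) (fun w hw hw1 w' hw' hw'1 => ?_)
      (fun v hv => ?_)
    · rw [hφa]
      show l * t * l⁻¹ = t
      rw [a.lC, mul_inv_cancel_right]
    · show ((φ ⟨l, hlN⟩ w : E) : G) ∈ W
      rw [hφa]
      exact a.lW _ hw
    · obtain ⟨j, hj⟩ := a.reg w.1 hw (fun e => hw1 (Subtype.ext e)) w'.1 hw' (fun e => hw'1 (Subtype.ext e))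
      exact ⟨j, Subtype.ext (by rw [hlρ]; exact hj)⟩
    · rcases h.split v.1 v.2 with h1 | h1
      · obtain ⟨j, hj⟩ := a.reg w₁ hw₁ hw₁1 v.1 h1 (fun e => hv (Subtype.ext e))
        refine ⟨(φ ⟨l, hlN⟩) ^ j * x₁.1, mul_mem (pow_mem (φ.mem_range.mpr ⟨_, rfl⟩) j) x₁.2, Subtype.ext ?_⟩
        show ((((φ ⟨l, hlN⟩) ^ j) (x₁.1 ⟨t, h.tE⟩) : E) : G) = v.1
        rw [hlρ, hx₁, hj]
      · obtain ⟨x, hx, hxt⟩ := hO _ h1
        refine ⟨φ ⟨x, hx⟩, ⟨_, rfl⟩, Subtype.ext ?_⟩
        rw [hφa]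
        show x * t * x⁻¹ = v.1
        rw [hxt, ← mul_assoc, h.tt, one_mul]
  refine ⟨?_, fun x hx => ?_⟩
  · rw [hSE, Nat.card_congr (Subgroup.equivSMul (MulAut.conj g) E).symm.toEquiv, h.cardE, hn]
    norm_num
  · rw [hSE] at hx
    obtain ⟨e, he, rfl⟩ := hx
    show (g * e * g⁻¹) ^ 2 = 1
    rw [conj_pow, pow_two, h.sq e he]
    group

end CfsgLib.JankoThompson
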