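import Cfsg.Agent.Lib.JankoThompson.Final

/-!
Eight points: the Sylow subgroup of the affine group is dihedral and the transfer applies.
-/

set_option autoImplicit false

namespace CfsgLib.JankoThompson

open Subgroup

/-- `e` or `1`. -/
def bx {G : Type*} [One G] (e : G) (b : Bool) : G := if b then e else 1

theorem bx_mem {G : Type*} [Group G] {H : Subgroup G} {e : G} (he : e ∈ H) (b : Bool) : bx e b ∈ H := by
  cases b <;> simp [bx, he]

theorem mem_sup_two {V : Type*} [Group V] (Z : Subgroup V) [Z.Normal] {a : V} (ha : a * a ∈ Z)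
    {x : V} (hx : x ∈ Z ⊔ zpowers a) : x ∈ Z ∨ x * a⁻¹ ∈ Z := by
  obtain ⟨z, hz, _, ⟨k, rfl⟩, rfl⟩ := mem_sup_of_normal_left.mp hx
  rcases Int.even_or_odd k with ⟨j, rfl⟩ | ⟨j, rfl⟩
  · refine Or.inl (mul_mem hz ?_)
    show a ^ (j + j) ∈ Z
    rw [← two_mul, zpow_mul, zpow_two]
    exact zpow_mem ha j
  · refine Or.inr ?_
    show z * a ^ (2 * j + 1) * a⁻¹ ∈ Z
    rw [zpow_add_one, ← mul_assoc, mul_inv_cancel_right, zpow_mul, zpow_two]
    exact mul_mem hz (zpow_mem ha j)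

theorem normal_of_squares {V : Type*} [Group V] (Z : Subgroup V) (hsq : ∀ x : V, x * x ∈ Z) :
    Z.Normal := ⟨fun k hk x => by
  rw [show x * k * x⁻¹ = x * k * (x * k) * k⁻¹ * (x * x)⁻¹ by group]
  exact mul_mem (mul_mem (hsq _) (inv_mem hk)) (inv_mem (hsq x))⟩

theorem exists_index_two {V : Type*} [Group V] [Finite V] (Z : Subgroup V) (hsq : ∀ x : V, x * x ∈ Z)
    {t : V} (ht : t ∉ Z) : ∃ K, Z ≤ K ∧ K.index = 2 ∧ t ∉ K := by
  obtain ⟨K, ⟨hZK, htK⟩, hmax⟩ := Set.exists_max_image {K : Subgroup V | Z ≤ K ∧ t ∉ K}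
    (fun K : Subgroup V => Nat.card K) (Set.toFinite _) ⟨Z, le_rfl, ht⟩
  refine ⟨K, hZK, ?_, htK⟩
  have hKsq : ∀ x : V, x * x ∈ K := fun x => hZK (hsq x)
  haveI := normal_of_squares K hKsq
  rw [Subgroup.index_eq_two_iff']
  refine ⟨t, fun x => ?_⟩
  by_cases hx : x ∈ K
  · exact Or.inr ⟨hx, fun h => htK ((K.mul_mem_cancel_right hx).mp h)⟩
  · refine Or.inl ⟨?_, hx⟩
    have h1 : t ∈ K ⊔ zpowers x := by
      by_contra hcon
      have := hmax (K ⊔ zpowers x) ⟨hZK.trans le_sup_left, hcon⟩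
      exact hx ((eq_of_le_of_card_ge le_sup_left this).symm ▸ mem_sup_right (mem_zpowers x))
    rcases mem_sup_two K (hKsq x) h1 with h2 | h2
    · exact absurd h2 htK
    · rw [show t * x = t * x⁻¹ * (x * x) by group]
      exact mul_mem h2 (hKsq x)

variable {G : Type*} [Group G] [Finite G] {t : G} {E W R Q : Subgroup G} {n m : ℕ} {l : G}

namespace Top

variable (T : Top t E W R Q n m l)
include T

theorem tr_fix_of_commute {g q : G} (hg : g ∈ NW R W) (hq : q ∈ Q)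
    (hc : g * (t * q) * g⁻¹ = t * q) : tr t m g (q ^ 2 ^ m) = q ^ 2 ^ m := by
  have s := T.str
  have hdq : disp t g * (g * q * g⁻¹) = q := by
    unfold disp
    calc t * (g * t * g⁻¹) * (g * q * g⁻¹) = t * (g * (t * q) * g⁻¹) := by group
      _ = q := by rw [hc, ← mul_assoc, T.elem.tt, one_mul]
  unfold tr cval
  conv_rhs => rw [← hdq]
  rw [(show Commute _ _ from s.Q_comm T.elem (s.disp_mem' T.elem hg.1 (NW_conj hg))
    (s.normalizes_Q T.elem hg.1 (NW_conj hg) _ hq)).mul_pow, conj_pow]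

/-- Eight points are impossible. -/
theorem no_three (hn : n = 3) (hB : ∀ w ∈ W, ∃ g ∈ NW R W, cval t m g = w) : False := by
  classical
  haveI : Fact (Nat.Prime 2) := ⟨Nat.prime_two⟩
  have h := T.elem
  have s := T.str
  have hcW : Nat.card W = 8 := by rw [h.cardW, hn]; norm_num
  have hRN : R ≤ NW R W := fun r hr => ⟨le_normalizer hr, mem_normalizer_fintype fun w hw => by
    show r * w * r⁻¹ ∈ W
    rw [s.W_comm h hr hw, mul_inv_cancel_right]; exact hw⟩
  have hRc : ∀ r ∈ R, ∀ w ∈ W, r * w * r⁻¹ = w := fun r hr w hw => by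
    rw [s.W_comm h hr hw, mul_inv_cancel_right]
  have hRtr : ∀ r ∈ R, ∀ w ∈ W, tr t m r w = w := fun r hr w hw => by
    unfold tr
    rw [T.c_eq_one_of_centralizer (hRN hr) (hRc r hr), hRc r hr w hw, one_mul]
  obtain ⟨Sy, hSy⟩ := IsPGroup.exists_le_sylow (s.R2.comap_subtype (K := NW R W))
  set P : Subgroup G := (Sy : Subgroup (NW R W)).map (NW R W).subtype with hP
  have hP2 : IsPGroup 2 P := Sy.2.map _
  have hPN : P ≤ NW R W := map_subtype_le _
  have hRP : R ≤ P := fun x hx => ⟨⟨x, hRN hx⟩, hSy hx, rfl⟩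
  have hmemR : ∀ x ∈ P, (∀ w ∈ W, x * w * x⁻¹ = w) → x ∈ R := fun x hx hc =>
    T.mem_R_of_centralizer (hPN hx) hc hP2 hRP hx
  have hfpf : ∀ x ∈ P, ∀ w ∈ W, tr t m x w = w → x ∈ R := fun x hx w hw hf =>
    T.fpf hB hP2 hRP hx (hPN hx) hw hf
  -- the order of `P`
  have hcP : Nat.card P = 8 * Nat.card R := by
    letI : MulAction (NW R W) W := T.action
    have h1 := Nat.card_congr (MulAction.orbitProdStabilizerEquivGroup (NW R W) (1 : W))
    rw [Nat.card_prod] at h1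
    have horb : Nat.card (MulAction.orbit (NW R W) (1 : W)) = 8 := by
      rw [← hcW]
      refine Nat.card_congr (Equiv.subtypeUnivEquiv fun w => ?_)
      obtain ⟨g, hg, hgw⟩ := hB w.1 w.2
      refine ⟨⟨g, hg⟩, Subtype.ext ?_⟩
      show tr t m g 1 = w
      unfold tr
      rw [hgw]; group
    have hdvd : Nat.card R ∣ Nat.card (MulAction.stabilizer (NW R W) (1 : W)) := by
      rw [← Nat.card_congr (subgroupOfEquivOfLe hRN).toEquiv]
      exact card_dvd_of_le fun x hx => MulAction.mem_stabilizer_iff.mpr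
        (Subtype.ext (hRtr x.1 hx 1 (one_mem W)))
    have hge : 8 * Nat.card R ∣ Nat.card P := by
      obtain ⟨k, hk⟩ := IsPGroup.iff_card.mp s.R2
      rw [hP, card_map_of_injective (subtype_injective _)]
      have h2 : 8 * Nat.card R ∣ Nat.card (NW R W) := by
        rw [← h1, horb]; exact Nat.mul_dvd_mul_left 8 hdvd
      have h3 := card_mul_index (Sy : Subgroup (NW R W))
      rw [← h3] at h2
      refine (Nat.Coprime.dvd_of_dvd_mul_right ?_ h2)
      rw [hk, show 8 = 2 ^ 3 from rfl, ← pow_add]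
      exact Nat.Coprime.pow_left _ (Nat.prime_two.coprime_iff_not_dvd.mpr Sy.not_dvd_index)
    refine le_antisymm ?_ (Nat.le_of_dvd Nat.card_pos hge)
    have h4 := card_mul_index (R.subgroupOf P)
    rw [Nat.card_congr (subgroupOfEquivOfLe hRP).toEquiv] at h4
    rw [← h4, mul_comm 8]
    refine Nat.mul_le_mul_left _ ?_
    rw [← hcW, Subgroup.index]
    refine Nat.card_le_card_of_injective
      (fun c => (⟨tr t m c.out.1 1, T.tr_mem (hPN c.out.2) (one_mem W)⟩ : W)) fun c c' hcc => ?_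
    have h5 : tr t m c.out.1 1 = tr t m c'.out.1 1 := congrArg Subtype.val hcc
    have h6 : c.out.1⁻¹ * c'.out.1 ∈ R := by
      refine hfpf _ (mul_mem (inv_mem c.out.2) c'.out.2) 1 (one_mem W) ?_
      rw [T.tr_mul (inv_mem (hPN c.out.2)) (hPN c'.out.2), ← h5,
        ← T.tr_mul (inv_mem (hPN c.out.2)) (hPN c.out.2), inv_mul_cancel, T.tr_one]
    rw [← QuotientGroup.out_eq' c, ← QuotientGroup.out_eq' c']
    exact QuotientGroup.eq.mpr h6
  -- coordinates on `W`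
  letI : MulAction P W :=
    { smul := fun g w => ⟨g.1 * w.1 * g.1⁻¹, NW_conj (hPN g.2) w.1 w.2⟩
      one_smul := fun w => Subtype.ext (show (1 : G) * w.1 * (1 : G)⁻¹ = w.1 by group)
      mul_smul := fun g k w => Subtype.ext (show (g * k : G) * w.1 * (g * k : G)⁻¹ =
        g * (k * w.1 * (k : G)⁻¹) * (g : G)⁻¹ by group) }
  obtain ⟨v₁, hv₁, hv₁1⟩ : ∃ v ∈ MulAction.fixedPoints P W, (1 : W) ≠ v :=
    hP2.exists_fixed_point_of_prime_dvd_card_of_fixed_point W (by rw [hcW]; norm_num)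
      (fun g => Subtype.ext (show (g : G) * 1 * (g : G)⁻¹ = 1 by group))
  have hsq : ∀ w ∈ W, w * w = 1 := fun w hw => T.W_sq hw
  have hN2 : ∀ x ∈ zpowers v₁, x = 1 ∨ x = v₁ := by
    rintro x ⟨k, rfl⟩
    rcases Int.even_or_odd k with ⟨j, rfl⟩ | ⟨j, rfl⟩
    · left
      show v₁ ^ (j + j) = 1
      rw [← two_mul, zpow_mul, zpow_two, show v₁ * v₁ = 1 from Subtype.ext (hsq _ v₁.2), one_zpow]
    · right
      show v₁ ^ (2 * j + 1) = v₁
      rw [zpow_add_one, zpow_mul, zpow_two, show v₁ * v₁ = 1 from Subtype.ext (hsq _ v₁.2), one_zpow,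
        one_mul]
  have hcN : Nat.card (zpowers v₁) = 2 := by
    rw [Nat.card_zpowers]
    exact orderOf_eq_prime (by rw [pow_two]; exact Subtype.ext (hsq _ v₁.2)) hv₁1.symm
  letI : MulAction P (W ⧸ zpowers v₁) :=
    { smul := fun g => Quotient.map' (fun w => g • w) fun x y hxy => by
        rw [QuotientGroup.leftRel_apply] at hxy ⊢
        have e : (g • x)⁻¹ * (g • y) = g • (x⁻¹ * y) := Subtype.ext
          (show (g.1 * x.1 * g.1⁻¹)⁻¹ * (g.1 * y.1 * g.1⁻¹) = g.1 * (x.1⁻¹ * y.1) * g.1⁻¹ by group)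
        rw [e]
        rcases hN2 _ hxy with h1 | h1
        · rw [h1, show g • (1 : W) = 1 from Subtype.ext (show g.1 * 1 * g.1⁻¹ = 1 by group)]
          exact one_mem _
        · rw [h1, hv₁ g]; exact mem_zpowers _
      one_smul := fun q => Quotient.inductionOn' q fun w => congrArg Quotient.mk'' (one_smul P w)
      mul_smul := fun g k q => Quotient.inductionOn' q fun w => congrArg Quotient.mk'' (mul_smul g k w) }
  obtain ⟨q₂, hq₂, hq₂1⟩ : ∃ v ∈ MulAction.fixedPoints P (W ⧸ zpowers v₁), ((1 : W) : W ⧸ zpowers v₁) ≠ v :=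
    hP2.exists_fixed_point_of_prime_dvd_card_of_fixed_point _ (by
      have := card_mul_index (zpowers v₁)
      rw [hcN, hcW] at this
      show 2 ∣ (zpowers v₁).index
      omega)
      (fun g => congrArg Quotient.mk'' (Subtype.ext (show g.1 * 1 * g.1⁻¹ = 1 by group) : g • (1 : W) = 1))
  obtain ⟨v₂, rfl⟩ := QuotientGroup.mk_surjective q₂
  have hv₂ : ∀ g : P, ∃ b : Bool, (g : G) * v₂ * (g : G)⁻¹ = v₂ * bx (v₁ : G) b := by
    intro g
    rcases hN2 _ (QuotientGroup.eq.mp (hq₂ g).symm) with h1 | h1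
    · refine ⟨false, ?_⟩
      have h2 : ((g • v₂ : W) : G) = v₂ := congrArg Subtype.val (inv_mul_eq_one.mp h1).symm
      exact h2.trans (by simp [bx])
    · refine ⟨true, ?_⟩
      have h2 : ((g • v₂ : W) : G) = v₂ * v₁ := congrArg Subtype.val (inv_mul_eq_iff_eq_mul.mp h1)
      exact h2.trans (by simp [bx])
  set e₁ : G := v₁.1 with he₁
  set e₂ : G := v₂.1 with he₂
  have h1W : e₁ ∈ W := v₁.2
  have h2W : e₂ ∈ W := v₂.2
  have he₁1 : e₁ ≠ 1 := fun e => hv₁1 (Subtype.ext e.symm)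
  have he₂1 : e₂ ≠ 1 := fun e => hq₂1 (by rw [show v₂ = (1 : W) from Subtype.ext e])
  have he₂₁ : e₂ ≠ e₁ := fun e => hq₂1 (by
    rw [show v₂ = v₁ from Subtype.ext e]
    exact QuotientGroup.eq.mpr (by simpa using mem_zpowers v₁))
  obtain ⟨v₃, hv₃⟩ : ∃ w : W, ∀ i j : Bool, (w : G) ≠ bx e₁ i * bx e₂ j := by
    by_contra hno
    push Not at hno
    have : Nat.card W ≤ Nat.card (Bool × Bool) := Nat.card_le_card_of_surjective
      (fun p => (⟨bx e₁ p.1 * bx e₂ p.2, mul_mem (bx_mem h1W _) (bx_mem h2W _)⟩ : W)) fun w => by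
        obtain ⟨i, j, e⟩ := hno w
        exact ⟨(i, j), Subtype.ext e.symm⟩
    simp [hcW] at this
  set e₃ : G := v₃.1 with he₃
  have h3W : e₃ ∈ W := v₃.2
  have hcm : ∀ x ∈ W, ∀ y ∈ W, x * y = y * x := fun x hx y hy => T.W_comm hx hy
  have hi : ∀ x ∈ W, x⁻¹ = x := fun x hx => inv_eq_of_mul_eq_one_right (hsq x hx)
  have hcan : ∀ x ∈ W, ∀ y, x * (x * y) = y := fun x hx y => by rw [← mul_assoc, hsq x hx, one_mul]
  -- the coordinates
  have h12 : e₁ * e₂ ≠ 1 := fun e => he₂₁ (by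
    rw [eq_inv_of_mul_eq_one_right e, hi _ h1W])
  have h21 : e₂ * e₁ = e₁ * e₂ := hcm _ h2W _ h1W
  have h212 : ∀ x, e₂ * (e₁ * x) = e₁ * (e₂ * x) := fun x => by rw [← mul_assoc, h21, mul_assoc]
  let F : Bool × Bool × Bool → W := fun p => ⟨bx e₁ p.1 * (bx e₂ p.2.1 * bx e₃ p.2.2),
    mul_mem (bx_mem h1W _) (mul_mem (bx_mem h2W _) (bx_mem h3W _))⟩
  have hFinj : Function.Injective F := by
    have hsub : ∀ i j i' j' : Bool, bx e₁ i * bx e₂ j = bx e₁ i' * bx e₂ j' → i = i' ∧ j = j' := by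
      intro i j i' j'
      cases i <;> cases j <;> cases i' <;> cases j' <;>
        simp [bx, he₁1, he₁1.symm, he₂1, he₂1.symm, he₂₁, he₂₁.symm, h12, h12.symm]
    rintro ⟨i, j, k⟩ ⟨i', j', k'⟩ hp
    have hp' : bx e₁ i * bx e₂ j * bx e₃ k = bx e₁ i' * bx e₂ j' * bx e₃ k' := by
      simpa [F, mul_assoc] using congrArg Subtype.val hp
    have hm12 : ∀ a b, bx e₁ a * bx e₂ b ∈ W := fun a b => mul_mem (bx_mem h1W a) (bx_mem h2W b)
    have hxor : ∀ (a b a' b' : Bool), (bx e₁ a * bx e₂ b) * (bx e₁ a' * bx e₂ b') =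
        bx e₁ (xor a a') * bx e₂ (xor b b') := by
      intro a b a' b'
      cases a <;> cases b <;> cases a' <;> cases b' <;>
        simp [bx, hsq _ h1W, hsq _ h2W, mul_assoc, hcan _ h1W, hcan _ h2W, h21, h212]
    cases k <;> cases k'
    · obtain ⟨rfl, rfl⟩ := hsub _ _ _ _ (by simpa [bx] using hp')
      rfl
    · exfalso
      refine hv₃ (xor i' i) (xor j' j) ?_
      rw [← hxor]
      have : bx e₁ i * bx e₂ j = bx e₁ i' * bx e₂ j' * e₃ := by simpa [bx] using hp'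
      rw [this, hcan _ (hm12 i' j')]
    · exfalso
      refine hv₃ (xor i i') (xor j j') ?_
      rw [← hxor]
      have : bx e₁ i * bx e₂ j * e₃ = bx e₁ i' * bx e₂ j' := by simpa [bx] using hp'
      rw [← this, hcan _ (hm12 i j)]
    · obtain ⟨rfl, rfl⟩ := hsub _ _ _ _ (mul_right_cancel hp')
      rfl
  have hFbij : Function.Bijective F :=
    (Nat.bijective_iff_injective_and_card F).mpr ⟨hFinj, by simp [hcW]⟩
  have hgen : ∀ w ∈ W, ∃ i j k, w = bx e₁ i * (bx e₂ j * bx e₃ k) := fun w hw => by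
    obtain ⟨⟨i, j, k⟩, hp⟩ := hFbij.2 ⟨w, hw⟩
    exact ⟨i, j, k, (congrArg Subtype.val hp).symm⟩
  -- the three coordinates of an element of `P`
  have hfix₁ : ∀ g ∈ P, g * e₁ * g⁻¹ = e₁ := fun g hg => congrArg Subtype.val (hv₁ ⟨g, hg⟩)
  have hbx : ∀ (g x y : G) (i : Bool), g * x * g⁻¹ = y → g * bx x i * g⁻¹ = bx y i := by
    intro g x y i hxy
    cases i <;> simp [bx, hxy]
  have hcoord : ∀ g ∈ P, ∃ p : Bool × Bool × Bool,
      g * e₂ * g⁻¹ = e₂ * bx e₁ p.1 ∧ g * e₃ * g⁻¹ = e₃ * (bx e₂ p.2.1 * bx e₁ p.2.2) := by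
    intro g hg
    obtain ⟨α, hα⟩ := hv₂ ⟨g, hg⟩
    obtain ⟨i, j, k, hw⟩ := hgen _ (NW_conj (hPN hg) e₃ h3W)
    cases k
    · exfalso
      refine hv₃ (xor i (j && α)) j ?_
      have h1 : e₃ = g⁻¹ * (bx e₁ i * bx e₂ j) * g := by
        rw [show bx e₁ i * bx e₂ j = g * e₃ * g⁻¹ by rw [hw]; simp [bx]]; group
      have h2 : g * (bx e₁ (xor i (j && α)) * bx e₂ j) * g⁻¹ = bx e₁ i * bx e₂ j := by
        rw [show g * (bx e₁ (xor i (j && α)) * bx e₂ j) * g⁻¹ =
          (g * bx e₁ (xor i (j && α)) * g⁻¹) * (g * bx e₂ j * g⁻¹) by group,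
          hbx g e₁ e₁ _ (hfix₁ g hg), hbx g e₂ _ _ hα]
        cases i <;> cases j <;> cases α <;>
          simp [bx, hcm _ h2W _ h1W, hcan _ h1W, hsq _ h1W, mul_assoc]
      rw [h1, ← h2]; group
    · refine ⟨(α, j, i), hα, ?_⟩
      rw [hw]
      cases i <;> cases j <;>
        simp [bx, hcm _ h3W _ h1W, hcm _ h3W _ h2W, hcm _ h2W _ h1W, mul_assoc]
      rw [hcm _ h3W _ (mul_mem h1W h2W), mul_assoc]
  choose! co hco2 hco3 using hcoord
  have hlin : ∀ g k : G, g * e₁ * g⁻¹ = k * e₁ * k⁻¹ → g * e₂ * g⁻¹ = k * e₂ * k⁻¹ →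
      g * e₃ * g⁻¹ = k * e₃ * k⁻¹ → ∀ w ∈ W, g * w * g⁻¹ = k * w * k⁻¹ := by
    intro g k h1 h2 h3 w hw
    obtain ⟨i, j, l', rfl⟩ := hgen w hw
    rw [show g * (bx e₁ i * (bx e₂ j * bx e₃ l')) * g⁻¹ =
      (g * bx e₁ i * g⁻¹) * ((g * bx e₂ j * g⁻¹) * (g * bx e₃ l' * g⁻¹)) by group,
      hbx g e₁ _ i h1, hbx g e₂ _ j h2, hbx g e₃ _ l' h3,
      ← hbx k e₁ _ i rfl, ← hbx k e₂ _ j rfl, ← hbx k e₃ _ l' rfl]
    group
  have hsame : ∀ g ∈ P, ∀ k ∈ P, co g = co k → g⁻¹ * k ∈ R := by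
    intro g hg k hk he
    have h1 : ∀ w ∈ W, k * w * k⁻¹ = g * w * g⁻¹ := hlin k g ((hfix₁ k hk).trans (hfix₁ g hg).symm)
      (by rw [hco2 k hk, hco2 g hg, he]) (by rw [hco3 k hk, hco3 g hg, he])
    refine hmemR _ (mul_mem (inv_mem hg) hk) fun w hw => ?_
    calc g⁻¹ * k * w * (g⁻¹ * k)⁻¹ = g⁻¹ * (k * w * k⁻¹) * g := by group
      _ = g⁻¹ * (g * w * g⁻¹) * g := by rw [h1 w hw]
      _ = w := by group
  have hsurj : ∀ p, ∃ g ∈ P, co g = p := by
    intro p
    have hidx : (R.subgroupOf P).index = 8 := by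
      have h4 := card_mul_index (R.subgroupOf P)
      rw [Nat.card_congr (subgroupOfEquivOfLe hRP).toEquiv, hcP, mul_comm 8] at h4
      exact Nat.eq_of_mul_eq_mul_left Nat.card_pos h4
    obtain ⟨c, hc⟩ := ((Nat.bijective_iff_injective_and_card
      (fun c : P ⧸ R.subgroupOf P => co c.out.1)).mpr ⟨fun c c' hcc => by
        rw [← QuotientGroup.out_eq' c, ← QuotientGroup.out_eq' c']
        exact QuotientGroup.eq.mpr (hsame _ c.out.2 _ c'.out.2 hcc), by
        show Nat.card (P ⧸ R.subgroupOf P) = _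
        rw [← Subgroup.index, hidx]; simp⟩).2 p
    exact ⟨_, c.out.2, hc⟩
  have hpick : ∀ p, ∃ g ∈ P, co g = p ∧ ((∃ u ∈ P, co u = p ∧ u * u = 1) → g * g = 1) := by
    intro p
    by_cases hu : ∃ u ∈ P, co u = p ∧ u * u = 1
    · obtain ⟨u, hu1, hu2, hu3⟩ := hu
      exact ⟨u, hu1, hu2, fun _ => hu3⟩
    · obtain ⟨g, hg, hgp⟩ := hsurj p
      exact ⟨g, hg, hgp, fun e => absurd e hu⟩
  obtain ⟨a, ha, hca, hainv⟩ := hpick (true, false, false)
  obtain ⟨b, hb, hcb, hbinv⟩ := hpick (false, true, false)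
  have ha2 : a * e₂ * a⁻¹ = e₂ * e₁ := by rw [hco2 a ha, hca]; simp [bx]
  have ha3 : a * e₃ * a⁻¹ = e₃ := by rw [hco3 a ha, hca]; simp [bx]
  have hb2 : b * e₂ * b⁻¹ = e₂ := by rw [hco2 b hb, hcb]; simp [bx]
  have hb3 : b * e₃ * b⁻¹ = e₃ * e₂ := by rw [hco3 b hb, hcb]; simp [bx]
  set y := a * b with hy
  have hyP : y ∈ P := mul_mem ha hb
  have hy2 : y * e₂ * y⁻¹ = e₂ * e₁ := by
    rw [hy, show a * b * e₂ * (a * b)⁻¹ = a * (b * e₂ * b⁻¹) * a⁻¹ by group, hb2, ha2]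
  have hy3 : y * e₃ * y⁻¹ = e₃ * (e₂ * e₁) := by
    rw [hy, show a * b * e₃ * (a * b)⁻¹ = a * (b * e₃ * b⁻¹) * a⁻¹ by group, hb3,
      show a * (e₃ * e₂) * a⁻¹ = (a * e₃ * a⁻¹) * (a * e₂ * a⁻¹) by group, ha3, ha2]
  set z := y * y with hz
  have hzP : z ∈ P := mul_mem hyP hyP
  have hz2 : z * e₂ * z⁻¹ = e₂ := by
    rw [hz, show y * y * e₂ * (y * y)⁻¹ = y * (y * e₂ * y⁻¹) * y⁻¹ by group, hy2,
      show y * (e₂ * e₁) * y⁻¹ = (y * e₂ * y⁻¹) * (y * e₁ * y⁻¹) by group, hy2, hfix₁ y hyP,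
      mul_assoc, hsq _ h1W, mul_one]
  have hz3 : z * e₃ * z⁻¹ = e₃ * e₁ := by
    rw [hz, show y * y * e₃ * (y * y)⁻¹ = y * (y * e₃ * y⁻¹) * y⁻¹ by group, hy3,
      show y * (e₃ * (e₂ * e₁)) * y⁻¹ = (y * e₃ * y⁻¹) * ((y * e₂ * y⁻¹) * (y * e₁ * y⁻¹)) by group,
      hy3, hy2, hfix₁ y hyP]
    simp [mul_assoc, hcan _ h2W, hsq _ h1W, hcm _ h1W _ h2W]
  -- squares
  have hQn : ∀ g ∈ P, ∀ x ∈ Q, g * x * g⁻¹ ∈ Q := fun g hg =>
    s.normalizes_Q h (hPN hg).1 (NW_conj (hPN hg))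
  have hQn' : ∀ g ∈ P, ∀ x, g * x * g⁻¹ ∈ Q → x ∈ Q := fun g hg =>
    s.normalizes_Q' h (hPN hg).1 (NW_conj (hPN hg))
  have hRn : ∀ g ∈ P, ∀ x ∈ R, g * x * g⁻¹ ∈ R := fun g hg x hx => s.conj_R h (hPN hg).1 hx
  have htQ : ∀ x, x ∈ R → x ∉ Q → t * x ∈ Q := fun x hx hn => (s.split x hx).resolve_left hn
  have hsame' : ∀ x ∈ R, ∀ x' ∈ R, (x ∈ Q ↔ x' ∈ Q) → x * x' ∈ Q := by
    intro x hx x' hx' hiff
    by_cases hq : x ∈ Q
    · exact mul_mem hq (hiff.mp hq)
    · have h1 := htQ x hx hq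
      have h2 := htQ x' hx' (mt hiff.mpr hq)
      rw [show x * x' = (t * (t * x) * t) * (t * x') by simp [mul_assoc, h.tt, ← mul_assoc t t],
        s.conj_eq_inv h h1]
      exact mul_mem (inv_mem h1) h2
  have hsqQ : ∀ x ∈ P, x * x ∈ R → x * x ∈ Q := by
    intro x hx hxx
    by_contra hn
    have hq := htQ _ hxx hn
    have hx' : x ∈ R := by
      refine hfpf x hx _ (T.psi _ hq) (T.tr_fix_of_commute (hPN hx) hq ?_)
      rw [← mul_assoc t t, h.tt, one_mul]; group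
    exact hn (hsame' x hx' x hx' Iff.rfl)
  have hz4 : z * z ∈ Q := by
    refine hsqQ z hzP (hmemR _ (mul_mem hzP hzP) (fun w hw => ?_))
    have hlin' := hlin (z * z) 1 (by rw [hfix₁ _ (mul_mem hzP hzP)]; group)
      (by rw [show z * z * e₂ * (z * z)⁻¹ = z * (z * e₂ * z⁻¹) * z⁻¹ by group, hz2, hz2]; group)
      (by rw [show z * z * e₃ * (z * z)⁻¹ = z * (z * e₃ * z⁻¹) * z⁻¹ by group, hz3,
            show z * (e₃ * e₁) * z⁻¹ = (z * e₃ * z⁻¹) * (z * e₁ * z⁻¹) by group, hz3, hfix₁ z hzP,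
            mul_assoc, hsq _ h1W]; group) w hw
    rw [hlin']; group
  have hsqcase : ∀ x ∈ P, ((co x).1 && (co x).2.1) = false → x * x ∈ R := by
    intro x hx hab
    refine hmemR _ (mul_mem hx hx) fun w hw => ?_
    rw [hlin (x * x) 1 (by rw [hfix₁ _ (mul_mem hx hx)]; group) ?_ ?_ w hw]
    · group
    · rw [show x * x * e₂ * (x * x)⁻¹ = x * (x * e₂ * x⁻¹) * x⁻¹ by group, hco2 x hx,
        show x * (e₂ * bx e₁ (co x).1) * x⁻¹ = (x * e₂ * x⁻¹) * (x * bx e₁ (co x).1 * x⁻¹) by group,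
        hco2 x hx, hbx x e₁ e₁ _ (hfix₁ x hx), mul_assoc, hsq _ (bx_mem h1W _)]
      group
    · rw [show x * x * e₃ * (x * x)⁻¹ = x * (x * e₃ * x⁻¹) * x⁻¹ by group, hco3 x hx,
        show x * (e₃ * (bx e₂ (co x).2.1 * bx e₁ (co x).2.2)) * x⁻¹ = (x * e₃ * x⁻¹) *
          ((x * bx e₂ (co x).2.1 * x⁻¹) * (x * bx e₁ (co x).2.2 * x⁻¹)) by group,
        hco3 x hx, hbx x e₁ e₁ _ (hfix₁ x hx), hbx x e₂ _ _ (hco2 x hx)]
      revert hab
      rcases co x with ⟨α, β, γ⟩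
      cases α <;> cases β <;> cases γ <;>
        simp [bx, mul_assoc, hcan _ h1W, hcan _ h2W, hsq _ h1W, hsq _ h2W, h21, h212]
  have hcoy : co y = (true, true, true) := by
    have h2 := (hco2 y hyP).symm.trans hy2
    have h3 := (hco3 y hyP).symm.trans hy3
    rcases hp : co y with ⟨α, β, γ⟩
    rw [hp] at h2 h3
    have h3' : bx e₁ γ * bx e₂ β = e₁ * e₂ := by
      rw [hcm _ (bx_mem h1W _) _ (bx_mem h2W _), hcm _ h1W _ h2W]; exact mul_left_cancel h3
    have hα : α = true := by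
      cases α
      · exact absurd (by simpa [bx] using mul_left_cancel h2) he₁1.symm
      · rfl
    have := @hFinj (γ, β, false) (true, true, false) (Subtype.ext (by simpa [F, bx] using h3'))
    simp only [Prod.mk.injEq] at this
    rw [hα, this.1, this.2.1]
  have hcoy' : co y⁻¹ = (true, true, false) := by
    have h2 : y⁻¹ * e₂ * y⁻¹⁻¹ = e₂ * e₁ := by
      have : y * (e₂ * e₁) * y⁻¹ = e₂ := by
        rw [show y * (e₂ * e₁) * y⁻¹ = (y * e₂ * y⁻¹) * (y * e₁ * y⁻¹) by group, hy2, hfix₁ y hyP,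
          mul_assoc, hsq _ h1W, mul_one]
      conv_lhs => rw [← this]
      group
    have h3 : y⁻¹ * e₃ * y⁻¹⁻¹ = e₃ * e₂ := by
      have : y * (e₃ * e₂) * y⁻¹ = e₃ := by
        rw [show y * (e₃ * e₂) * y⁻¹ = (y * e₃ * y⁻¹) * (y * e₂ * y⁻¹) by group, hy2, hy3,
          mul_assoc, hsq _ (mul_mem h2W h1W), mul_one]
      conv_lhs => rw [← this]
      group
    have h2' := (hco2 _ (inv_mem hyP)).symm.trans h2
    have h3' := (hco3 _ (inv_mem hyP)).symm.trans h3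
    rcases hp : co y⁻¹ with ⟨α, β, γ⟩
    rw [hp] at h2' h3'
    have h4 : bx e₁ γ * bx e₂ β = e₂ := by
      rw [hcm _ (bx_mem h1W _) _ (bx_mem h2W _)]; exact mul_left_cancel h3'
    have hα : α = true := by
      cases α
      · exact absurd (by simpa [bx] using mul_left_cancel h2') he₁1.symm
      · rfl
    have := @hFinj (γ, β, false) (false, true, false) (Subtype.ext (by simpa [F, bx] using h4))
    simp only [Prod.mk.injEq] at this
    rw [hα, this.1, this.2.1]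
  have hsquares : ∀ x ∈ P, x * x ∈ Q ∨ z⁻¹ * (x * x) ∈ Q := by
    intro x hx
    by_cases hab : ((co x).1 && (co x).2.1) = false
    · exact Or.inl (hsqQ x hx (hsqcase x hx hab))
    · right
      rw [Bool.not_eq_false, Bool.and_eq_true] at hab
      have key : ∀ y' ∈ P, y'⁻¹ * x ∈ R → (y' * y')⁻¹ * (x * x) ∈ Q := by
        intro y' hy' hr
        rw [show (y' * y')⁻¹ * (x * x) = (y'⁻¹ * (y'⁻¹ * x) * y'⁻¹⁻¹) * (y'⁻¹ * x) by group]
        exact hsame' _ (hRn _ (inv_mem hy') _ hr) _ hr ⟨fun e => hQn' _ (inv_mem hy') _ e,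
          fun e => hQn _ (inv_mem hy') _ e⟩
      rcases hγ : (co x).2.2
      · have h1 := key y⁻¹ (inv_mem hyP)
          (hsame _ (inv_mem hyP) _ hx (by rw [hcoy']; exact Prod.ext hab.1.symm (Prod.ext hab.2.symm hγ.symm)))
        rw [show z⁻¹ * (x * x) = (z * z)⁻¹ * ((y⁻¹ * y⁻¹)⁻¹ * (x * x)) by rw [hz]; group]
        exact mul_mem (inv_mem hz4) h1
      · exact key y hyP
          (hsame _ hyP _ hx (by rw [hcoy]; exact Prod.ext hab.1.symm (Prod.ext hab.2.symm hγ.symm)))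
  -- the subgroup of index two
  haveI hQpn : (Q.subgroupOf P).Normal := ⟨fun x hx g => hQn g.1 g.2 x.1 hx⟩
  set Z : Subgroup P := Q.subgroupOf P ⊔ zpowers (⟨z, hzP⟩ : P) with hZ
  have hZsq : ∀ x : P, x * x ∈ Z := fun x => by
    rcases hsquares x.1 x.2 with h1 | h1
    · exact mem_sup_left h1
    · have h2 : (⟨z, hzP⟩ : P)⁻¹ * (x * x) ∈ Q.subgroupOf P := h1
      have := mul_mem (mem_sup_right (mem_zpowers (⟨z, hzP⟩ : P)) : _ ∈ Z) (mem_sup_left h2 : _ ∈ Z)
      rwa [mul_inv_cancel_left] at this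
  haveI := normal_of_squares Z hZsq
  set Z₁ : Subgroup P := Z ⊔ zpowers (⟨a, ha⟩ : P) with hZ₁
  have hZ₁sq : ∀ x : P, x * x ∈ Z₁ := fun x => mem_sup_left (hZsq x)
  haveI := normal_of_squares Z₁ hZ₁sq
  set Z₂ : Subgroup P := Z₁ ⊔ zpowers (⟨b, hb⟩ : P) with hZ₂
  -- members of `Z` fix `e₂`, and send `e₃` to `e₃` or `e₃ e₁`; only those inside `R` lie in `Q`
  have hZmem : ∀ x : P, x ∈ Z → (x : G) * e₂ * (x : G)⁻¹ = e₂ ∧
      ((x : G) * e₃ * (x : G)⁻¹ = e₃ * e₁ ∨ ((x : G) * e₃ * (x : G)⁻¹ = e₃ ∧ (x : G) ∈ Q)) := by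
    intro x hx
    rcases mem_sup_two (Q.subgroupOf P) (a := (⟨z, hzP⟩ : P)) hz4 hx with h1 | h1
    · have h1' : (x : G) ∈ Q := h1
      exact ⟨hRc _ (s.QR h1') _ h2W, Or.inr ⟨hRc _ (s.QR h1') _ h3W, h1'⟩⟩
    · have h1' : (x : G) * z⁻¹ ∈ Q := h1
      refine ⟨?_, Or.inl ?_⟩
      · rw [show (x : G) * e₂ * (x : G)⁻¹ = ((x : G) * z⁻¹) * (z * e₂ * z⁻¹) * ((x : G) * z⁻¹)⁻¹ by group,
          hz2, hRc _ (s.QR h1') _ h2W]
      · rw [show (x : G) * e₃ * (x : G)⁻¹ = ((x : G) * z⁻¹) * (z * e₃ * z⁻¹) * ((x : G) * z⁻¹)⁻¹ by group,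
          hz3, hRc _ (s.QR h1') _ (mul_mem h3W h1W)]
  have htR : t ∈ R := s.tR h
  have htP : t ∈ P := hRP htR
  have hte : ∀ (g w : G), g⁻¹ * w * g ∈ W → t * g⁻¹ * w * (t * g⁻¹)⁻¹ = g⁻¹ * w * g := by
    intro g w hw
    rw [show t * g⁻¹ * w * (t * g⁻¹)⁻¹ = t * (g⁻¹ * w * g) * t⁻¹ by group, hRc t htR _ hw]
  have hmove : ∀ g ∈ P, ∀ w ∈ W, g * w * g⁻¹ ≠ w → t * g⁻¹ * w * (t * g⁻¹)⁻¹ ≠ w := by
    intro g hg w hw hne e
    have hw' : g⁻¹ * w * g ∈ W := by simpa using NW_conj (hPN (inv_mem hg)) w hw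
    rw [hte g w hw'] at e
    exact hne (Eq.trans (congrArg (fun x => g * x * g⁻¹) e.symm) (by group))
  have he21 : e₂ * e₁ ≠ e₂ := by simpa using he₁1
  have htZ₂ : (⟨t, htP⟩ : P) ∉ Z₂ := by
    intro ht2
    rcases mem_sup_two Z₁ (hZ₁sq ⟨b, hb⟩) ht2 with h1 | h1
    · rcases mem_sup_two Z (hZsq ⟨a, ha⟩) h1 with h2 | h2
      · rcases (hZmem _ h2).2 with h3 | ⟨-, h3⟩
        · have h3' : t * e₃ * t⁻¹ = e₃ * e₁ := h3
          rw [hRc t htR _ h3W] at h3'
          exact he₁1 (by simpa using h3')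
        · exact s.tQ h3
      · exact hmove a ha e₂ h2W (by rw [ha2]; exact he21) (hZmem _ h2).1
    · rcases mem_sup_two Z (hZsq ⟨a, ha⟩) h1 with h2 | h2
      · have h2' : (⟨t, htP⟩ : P) * (⟨b, hb⟩ : P)⁻¹ ∈ Z := h2
        have h4 : t * b⁻¹ * e₃ * (t * b⁻¹)⁻¹ = e₃ * e₂ := by
          have hb' : b⁻¹ * e₃ * b = e₃ * e₂ := by
            have : b * (e₃ * e₂) * b⁻¹ = e₃ := by
              rw [show b * (e₃ * e₂) * b⁻¹ = (b * e₃ * b⁻¹) * (b * e₂ * b⁻¹) by group, hb3, hb2,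
                mul_assoc, hsq _ h2W, mul_one]
            conv_lhs => rw [← this]
            group
          rw [hte b e₃ (by rw [hb']; exact mul_mem h3W h2W), hb']
        rcases (hZmem _ h2').2 with h3 | ⟨h3, -⟩
        · have h3' : t * b⁻¹ * e₃ * (t * b⁻¹)⁻¹ = e₃ * e₁ := h3
          rw [h4] at h3'
          exact he₂₁ (mul_left_cancel h3')
        · have h3' : t * b⁻¹ * e₃ * (t * b⁻¹)⁻¹ = e₃ := h3
          rw [h4] at h3'
          exact he₂1 (by simpa using h3')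
      · have h2' : (⟨t, htP⟩ : P) * (⟨b, hb⟩ : P)⁻¹ * (⟨a, ha⟩ : P)⁻¹ ∈ Z := h2
        have h5 : t * b⁻¹ * a⁻¹ * e₂ * (t * b⁻¹ * a⁻¹)⁻¹ = e₂ := (hZmem _ h2').1
        rw [show t * b⁻¹ * a⁻¹ = t * y⁻¹ by rw [hy]; group] at h5
        exact hmove y hyP e₂ h2W (by rw [hy2]; exact he21) h5
  obtain ⟨K, hK, hKi, htK⟩ := exists_index_two Z₂ (fun x => mem_sup_left (hZ₁sq x)) htZ₂
  haveI hKn : K.Normal := normal_of_index_eq_two hKi
  have hKQ : ∀ x (hx : x ∈ P), x ∈ Q → (⟨x, hx⟩ : P) ∈ K := fun x hx hq =>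
    hK (mem_sup_left (mem_sup_left (mem_sup_left hq)))
  have haK : (⟨a, ha⟩ : P) ∈ K := hK (mem_sup_left (mem_sup_right (mem_zpowers _)))
  have hbK : (⟨b, hb⟩ : P) ∈ K := hK (mem_sup_right (mem_zpowers _))
  have hzK : (⟨z, hzP⟩ : P) ∈ K := hK (mem_sup_left (mem_sup_left (mem_sup_right (mem_zpowers _))))
  -- no involution outside `K` moves anything
  have hpair : ∀ g (hg : g ∈ P), (⟨g, hg⟩ : P) ∈ K → g ∉ R → g * g = 1 → ∀ u (hu : u ∈ P),
      co u = co g → u * u = 1 → (⟨u, hu⟩ : P) ∈ K := by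
    intro g hg hgK hgR hg1 u hu hcu hu1
    have hr := hsame g hg u hu hcu.symm
    by_contra huK
    have hrQ : g⁻¹ * u ∉ Q := fun e => huK (by
      have := mul_mem hgK (hKQ _ (hRP hr) e)
      rwa [show (⟨g, hg⟩ : P) * ⟨g⁻¹ * u, hRP hr⟩ = ⟨u, hu⟩ from Subtype.ext (mul_inv_cancel_left g u)] at this)
    have hq := htQ _ hr hrQ
    refine hgR (hfpf g hg _ (T.psi _ hq) (T.tr_fix_of_commute (hPN hg) hq ?_))
    rw [← mul_assoc t t, h.tt, one_mul]
    have hgi : g⁻¹ = g := inv_eq_of_mul_eq_one_right hg1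
    have hrr : g⁻¹ * u * (g⁻¹ * u) = 1 := by
      have := s.inv _ hq
      rwa [← mul_assoc t t, h.tt, one_mul] at this
    calc g * (g⁻¹ * u) * g⁻¹ = u * g⁻¹ := by group
      _ = u⁻¹ * g := by rw [inv_eq_of_mul_eq_one_right hu1, hgi]
      _ = (g⁻¹ * u)⁻¹ := by group
      _ = g⁻¹ * u := inv_eq_of_mul_eq_one_right hrr
  have haR : a ∉ R := fun e => he21 (by rw [← ha2, hRc a e _ h2W])
  have hbR : b ∉ R := fun e => he₂1 (by
    have := hb3
    rw [hRc b e _ h3W] at this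
    simpa using this)
  have hinv : ∀ u (hu : u ∈ P), u * u = 1 → (⟨u, hu⟩ : P) ∉ K → u ∈ R := by
    intro u hu hu1 huK
    by_contra huR
    have hu2 := hco2 u hu
    have hu3 := hco3 u hu
    have hconjK : ∀ g (hg : g ∈ P), (⟨g * u * g⁻¹, mul_mem (mul_mem hg hu) (inv_mem hg)⟩ : P) ∉ K :=
      fun g hg hgu => huK (by
        have := hKn.conj_mem _ hgu (⟨g, hg⟩ : P)⁻¹
        rwa [show (⟨g, hg⟩ : P)⁻¹ * ⟨g * u * g⁻¹, mul_mem (mul_mem hg hu) (inv_mem hg)⟩ *
          (⟨g, hg⟩ : P)⁻¹⁻¹ = ⟨u, hu⟩ from Subtype.ext (by simp [mul_assoc])] at this)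
    have huu : ∀ w : G, u * (u * w * u⁻¹) * u⁻¹ = w := fun w => by
      rw [show u * (u * w * u⁻¹) * u⁻¹ = (u * u) * w * (u * u)⁻¹ by group, hu1]; group
    rcases hp : co u with ⟨α, β, γ⟩
    rw [hp] at hu2 hu3
    have hαβ : (α && β) = false := by
      have h1 := huu e₃
      rw [hu3, show u * (e₃ * (bx e₂ β * bx e₁ γ)) * u⁻¹ = (u * e₃ * u⁻¹) *
        ((u * bx e₂ β * u⁻¹) * (u * bx e₁ γ * u⁻¹)) by group, hu3, hbx u e₁ e₁ _ (hfix₁ u hu),
        hbx u e₂ _ _ hu2] at h1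
      revert h1
      cases α <;> cases β <;> cases γ <;>
        simp [bx, mul_assoc, hcan _ h1W, hcan _ h2W, hsq _ h1W, hsq _ h2W, h21, h212, he₁1]
    have hua : ∀ γ', (true, false, γ') = co u → False := by
      intro γ' he
      rw [hp] at he
      obtain ⟨hα', hβ', hγ'⟩ : α = true ∧ β = false ∧ γ = γ' := by
        simpa [Prod.ext_iff, eq_comm] using he
      subst α β γ
      cases γ'
      · exact huK (hpair a ha haK haR (hainv ⟨u, hu, hp, hu1⟩) u hu (hp.trans hca.symm) hu1)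
      · set u' := b * u * b⁻¹ with hu'
        have hu'P : u' ∈ P := mul_mem (mul_mem hb hu) (inv_mem hb)
        have hu'1 : u' * u' = 1 := by
          rw [hu', show b * u * b⁻¹ * (b * u * b⁻¹) = b * (u * u) * b⁻¹ by group, hu1]; group
        have hb2' : b⁻¹ * e₂ * b = e₂ :=
          (congrArg (fun x => b⁻¹ * x * b) hb2.symm).trans (by group)
        have hb3' : b⁻¹ * e₃ * b = e₃ * e₂ := by
          have : b * (e₃ * e₂) * b⁻¹ = e₃ := by
            rw [show b * (e₃ * e₂) * b⁻¹ = (b * e₃ * b⁻¹) * (b * e₂ * b⁻¹) by group, hb3, hb2,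
              mul_assoc, hsq _ h2W, mul_one]
          conv_lhs => rw [← this]
          group
        have hu'2 : u' * e₂ * u'⁻¹ = a * e₂ * a⁻¹ := by
          rw [hu', show b * u * b⁻¹ * e₂ * (b * u * b⁻¹)⁻¹ = b * (u * (b⁻¹ * e₂ * b) * u⁻¹) * b⁻¹ by group,
            hb2', hu2, ha2, show b * (e₂ * bx e₁ true) * b⁻¹ = (b * e₂ * b⁻¹) * (b * e₁ * b⁻¹) by
              simp [bx, mul_assoc], hb2, hfix₁ b hb]
        have hu'3 : u' * e₃ * u'⁻¹ = a * e₃ * a⁻¹ := by
          rw [hu', show b * u * b⁻¹ * e₃ * (b * u * b⁻¹)⁻¹ = b * (u * (b⁻¹ * e₃ * b) * u⁻¹) * b⁻¹ by group,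
            hb3', show u * (e₃ * e₂) * u⁻¹ = (u * e₃ * u⁻¹) * (u * e₂ * u⁻¹) by group, hu3, hu2, ha3,
            show bx e₂ false * bx e₁ true = e₁ by simp [bx], show bx e₁ true = e₁ by simp [bx],
            show e₃ * e₁ * (e₂ * e₁) = e₃ * e₂ by
              rw [hcm _ h2W _ h1W, mul_assoc, hcan _ h1W],
            show b * (e₃ * e₂) * b⁻¹ = (b * e₃ * b⁻¹) * (b * e₂ * b⁻¹) by group, hb3, hb2,
            mul_assoc, hsq _ h2W, mul_one]
        have hcu' : co u' = co a := by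
          have h2 := hu'2
          have h3 := hu'3
          rw [hco2 u' hu'P, ha2] at h2
          rw [hco3 u' hu'P, ha3] at h3
          rcases hp' : co u' with ⟨x, y', z'⟩
          rw [hp'] at h2 h3
          have hx : x = true := by
            cases x
            · exact absurd (by simpa [bx] using mul_left_cancel h2) he₁1.symm
            · rfl
          have h4 : bx e₁ z' * bx e₂ y' = 1 := by
            rw [hcm _ (bx_mem h1W _) _ (bx_mem h2W _)]; simpa using h3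
          have := @hFinj (z', y', false) (false, false, false)
            (Subtype.ext (by simpa [F, bx] using h4))
          simp only [Prod.mk.injEq] at this
          rw [hca, hx, this.1, this.2.1]
        exact hconjK b hb (hpair a ha haK haR (hainv ⟨u', hu'P, hcu'.trans hca, hu'1⟩) u' hu'P hcu' hu'1)
    have hub : ∀ γ', (false, true, γ') = co u → False := by
      intro γ' he
      rw [hp] at he
      obtain ⟨hα', hβ', hγ'⟩ : α = false ∧ β = true ∧ γ = γ' := by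
        simpa [Prod.ext_iff, eq_comm] using he
      subst α β γ
      cases γ'
      · exact huK (hpair b hb hbK hbR (hbinv ⟨u, hu, hp, hu1⟩) u hu (hp.trans hcb.symm) hu1)
      · set u' := a * u * a⁻¹ with hu'
        have hu'P : u' ∈ P := mul_mem (mul_mem ha hu) (inv_mem ha)
        have hu'1 : u' * u' = 1 := by
          rw [hu', show a * u * a⁻¹ * (a * u * a⁻¹) = a * (u * u) * a⁻¹ by group, hu1]; group
        have ha3' : a⁻¹ * e₃ * a = e₃ :=
          (congrArg (fun x => a⁻¹ * x * a) ha3.symm).trans (by group)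
        have ha2' : a⁻¹ * e₂ * a = e₂ * e₁ := by
          have : a * (e₂ * e₁) * a⁻¹ = e₂ := by
            rw [show a * (e₂ * e₁) * a⁻¹ = (a * e₂ * a⁻¹) * (a * e₁ * a⁻¹) by group, ha2, hfix₁ a ha,
              mul_assoc, hsq _ h1W, mul_one]
          conv_lhs => rw [← this]
          group
        have hu'2 : u' * e₂ * u'⁻¹ = b * e₂ * b⁻¹ := by
          rw [hu', show a * u * a⁻¹ * e₂ * (a * u * a⁻¹)⁻¹ = a * (u * (a⁻¹ * e₂ * a) * u⁻¹) * a⁻¹ by group,
            ha2', show u * (e₂ * e₁) * u⁻¹ = (u * e₂ * u⁻¹) * (u * e₁ * u⁻¹) by group, hu2, hfix₁ u hu,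
            hb2, show e₂ * bx e₁ false = e₂ by simp [bx],
            show a * (e₂ * e₁) * a⁻¹ = (a * e₂ * a⁻¹) * (a * e₁ * a⁻¹) by group, ha2, hfix₁ a ha,
            mul_assoc, hsq _ h1W, mul_one]
        have hu'3 : u' * e₃ * u'⁻¹ = b * e₃ * b⁻¹ := by
          rw [hu', show a * u * a⁻¹ * e₃ * (a * u * a⁻¹)⁻¹ = a * (u * (a⁻¹ * e₃ * a) * u⁻¹) * a⁻¹ by group,
            ha3', hu3, hb3, show bx e₂ true * bx e₁ true = e₂ * e₁ by simp [bx],
            show a * (e₃ * (e₂ * e₁)) * a⁻¹ = (a * e₃ * a⁻¹) * ((a * e₂ * a⁻¹) * (a * e₁ * a⁻¹)) by group,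
            ha3, ha2, hfix₁ a ha, mul_assoc e₂, hsq _ h1W, mul_one]
        have hcu' : co u' = co b := by
          have h2 := hu'2
          have h3 := hu'3
          rw [hco2 u' hu'P, hb2] at h2
          rw [hco3 u' hu'P, hb3] at h3
          rcases hp' : co u' with ⟨x, y', z'⟩
          rw [hp'] at h2 h3
          have hx : x = false := by
            cases x
            · rfl
            · exact absurd (by simpa [bx] using h2) he₁1
          have h4 : bx e₁ z' * bx e₂ y' = e₂ := by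
            rw [hcm _ (bx_mem h1W _) _ (bx_mem h2W _)]; exact mul_left_cancel h3
          have := @hFinj (z', y', false) (false, true, false)
            (Subtype.ext (by simpa [F, bx] using h4))
          simp only [Prod.mk.injEq] at this
          rw [hcb, hx, this.1, this.2.1]
        exact hconjK a ha (hpair b hb hbK hbR (hbinv ⟨u', hu'P, hcu'.trans hcb, hu'1⟩) u' hu'P hcu' hu'1)
    cases α <;> cases β
    · cases γ
      · refine huR (hmemR u hu fun w hw => ?_)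
        rw [hlin u 1 (by rw [hfix₁ u hu]; group) (by rw [hu2]; simp [bx]) (by rw [hu3]; simp [bx]) w hw]
        group
      · -- `u` acts like `z`
        have hlz : ∀ w ∈ W, u * w * u⁻¹ = z * w * z⁻¹ :=
          hlin u z ((hfix₁ u hu).trans (hfix₁ z hzP).symm) (by rw [hu2, hz2]; simp [bx])
            (by rw [hu3, hz3]; simp [bx])
        set r := z⁻¹ * u with hr
        have hrR : r ∈ R := hmemR _ (mul_mem (inv_mem hzP) hu) fun w hw => by
          rw [hr, show z⁻¹ * u * w * (z⁻¹ * u)⁻¹ = z⁻¹ * (u * w * u⁻¹) * z by group, hlz w hw]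
          group
        have hrQ : r ∉ Q := fun e => huK (by
          have := mul_mem hzK (hKQ _ (hRP hrR) e)
          rwa [show (⟨z, hzP⟩ : P) * ⟨r, hRP hrR⟩ = ⟨u, hu⟩ from
            Subtype.ext (mul_inv_cancel_left z u)] at this)
        have hq := htQ r hrR hrQ
        set q := t * r with hqdef
        have hrq : r = t * q := by rw [hqdef, ← mul_assoc, h.tt, one_mul]
        have hrr : r * r = 1 := by rw [hrq]; exact s.inv q hq
        set v := (z * z) ^ 2 ^ m with hv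
        have hvW : v ∈ W := T.psi _ hz4
        have hyv : y * v * y⁻¹ = v := by
          rw [hv, ← conj_pow, hz]
          congr 1
          group
        set w₀ := q ^ 2 ^ m with hw₀
        have hw₀W : w₀ ∈ W := T.psi _ hq
        have hkey : tr t m z w₀ = w₀ * v := by
          have h1 : z * r * z⁻¹ = r * (z * z)⁻¹ := by
            have h2 : z * r * (z * r) = 1 := by
              rw [hr, show z * (z⁻¹ * u) = u by group]; exact hu1
            calc z * r * z⁻¹ = (z * r * (z * r)) * r⁻¹ * (z * z)⁻¹ := by group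
              _ = r * (z * z)⁻¹ := by rw [h2, one_mul, inv_eq_of_mul_eq_one_right hrr]
          have hdq : disp t z * (z * q * z⁻¹) = q * (z * z)⁻¹ := by
            unfold disp
            calc t * (z * t * z⁻¹) * (z * q * z⁻¹) = t * (z * (t * q) * z⁻¹) := by group
              _ = q * (z * z)⁻¹ := by rw [← hrq, h1, hqdef]; exact (mul_assoc _ _ _).symm
          have h3 := congrArg (fun x => x ^ 2 ^ m) hdq
          rw [(show Commute _ _ from s.Q_comm h (s.disp_mem' h (hPN hzP).1 (NW_conj (hPN hzP)))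
            (hQn z hzP q hq)).mul_pow, conj_pow,
            (show Commute _ _ from s.Q_comm h hq (inv_mem hz4)).mul_pow, inv_pow] at h3
          unfold tr cval
          rw [h3, ← hv, ← hw₀, hi v hvW]
        have hv' : v = 1 ∨ v = e₁ := by
          obtain ⟨i, j, k, hvk⟩ := hgen v hvW
          have h1 : y * v * y⁻¹ = bx e₁ i * (bx (e₂ * e₁) j * bx (e₃ * (e₂ * e₁)) k) := by
            rw [hvk, show y * (bx e₁ i * (bx e₂ j * bx e₃ k)) * y⁻¹ =
              (y * bx e₁ i * y⁻¹) * ((y * bx e₂ j * y⁻¹) * (y * bx e₃ k * y⁻¹)) by group,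
              hbx y e₁ e₁ _ (hfix₁ y hyP), hbx y e₂ _ _ hy2, hbx y e₃ _ _ hy3]
          rw [hyv, hvk] at h1
          have h1' := mul_left_cancel h1
          cases j <;> cases k
          · cases i
            · left; simpa [bx] using hvk
            · right; simpa [bx] using hvk
          · exfalso
            simp only [bx, Bool.false_eq_true, if_false, if_true, one_mul] at h1'
            have : e₂ * e₁ = 1 := by simpa using h1'
            exact he₂₁ (by rw [eq_inv_of_mul_eq_one_left this, hi _ h1W])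
          · exfalso
            simp [bx, he₁1] at h1'
          · exfalso
            simp only [bx, if_true] at h1'
            rw [show e₂ * e₁ * (e₃ * (e₂ * e₁)) = e₃ * ((e₂ * e₁) * (e₂ * e₁)) by
              rw [← mul_assoc, ← hcm _ h3W _ (mul_mem h2W h1W), mul_assoc],
              hsq _ (mul_mem h2W h1W), mul_one] at h1'
            exact he₂1 (by simpa using h1')
        have hzR : z ∈ R := by
          rcases hv' with hv1 | hv1
          · exact hfpf z hzP w₀ hw₀W (by rw [hkey, hv1, mul_one])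
          · refine hfpf z hzP (w₀ * e₃) (mul_mem hw₀W h3W) ?_
            have h4 : tr t m z (w₀ * e₃) = tr t m z w₀ * (z * e₃ * z⁻¹) := by unfold tr; group
            rw [h4, hkey, hz3, hv1, mul_assoc, ← mul_assoc e₁ e₃, hcm _ h1W _ h3W, mul_assoc e₃,
              hsq _ h1W, mul_one]
        rw [hRc z hzR _ h3W] at hz3
        exact he₁1 (by simpa using hz3.symm)
    · exact hub γ hp.symm
    · exact hua γ hp.symm
    · simp at hαβ
  -- the count
  obtain ⟨d, hd, hC⟩ := h.cardC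
  haveI := h.simple
  have hrel : (K.map P.subtype).relIndex P = 2 := by
    show ((K.map P.subtype).subgroupOf P).index = 2
    rw [subgroupOf, comap_map_eq_self_of_injective P.subtype_injective]
    exact hKi
  refine transfer_odd h.noncomm (map_subtype_le K) hrel h.tt hd ?_
  have hM : Nat.card {u : G // u ∈ P ∧ u ∉ K.map P.subtype ∧ IsConj t u} = Nat.card Q := by
    have hout : ∀ u (hu : u ∈ P), u ∉ K.map P.subtype → (⟨u, hu⟩ : P) ∉ K := fun u hu hn hK' =>
      hn ⟨_, hK', rfl⟩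
    refine Nat.card_congr
      { toFun := fun u => ⟨t * u.1, by
          obtain ⟨g, hg⟩ := isConj_iff.mp u.2.2.2
          have hu1 : u.1 * u.1 = 1 := by
            rw [← hg, show g * t * g⁻¹ * (g * t * g⁻¹) = g * (t * t) * g⁻¹ by group, h.tt]; group
          exact htQ _ (hinv u.1 u.2.1 hu1 (hout u.1 u.2.1 u.2.2.1))
            fun e => hout u.1 u.2.1 u.2.2.1 (hKQ _ u.2.1 e)⟩
        invFun := fun x => ⟨t * x.1, mul_mem htP (hRP (s.QR x.2)), fun ⟨k, hk, hkx⟩ => htK (by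
          have := mul_mem hk (inv_mem (hKQ x.1 (hRP (s.QR x.2)) x.2))
          rwa [show k * (⟨x.1, hRP (s.QR x.2)⟩ : P)⁻¹ = ⟨t, htP⟩ from Subtype.ext (by
            show k.1 * (x.1)⁻¹ = t
            rw [show k.1 = t * x.1 from hkx]; group)] at this), s.conjt x.1 x.2⟩
        left_inv := fun u => Subtype.ext (by simp [← mul_assoc, h.tt])
        right_inv := fun x => Subtype.ext (by simp [← mul_assoc, h.tt]) }
  rw [hM, hC, hcP, s.cardR h, hn]
  ring

end Top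

end CfsgLib.JankoThompson
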