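import Cfsg.Agent.Lib.JankoThompson.TransferHom

/-!
A centraliser with Sylow 2-subgroup `⟨t⟩ × D`, `D` dihedral of order at least eight, is impossible.
-/

set_option autoImplicit false

namespace CfsgLib.JankoThompson

open Subgroup

variable {G : Type*} [Group G]

/-- The standing data; `d` is the central involution of `D`. -/
structure Dih (t d : G) (T D : Subgroup G) : Prop where
  simple : IsSimpleGroup G
  noncomm : ¬ IsMulCommutative G
  tt : t * t = 1
  t1 : t ≠ 1
  tT : t ∈ T
  DT : D ≤ T
  tD : t ∉ D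
  split : ∀ x ∈ T, x ∈ D ∨ t * x ∈ D
  TC : T ≤ centralizer ({t} : Set G)
  T2 : IsPGroup 2 T
  dD : d ∈ D
  d1 : d ≠ 1
  dd : d * d = 1
  dcent : ∀ x ∈ D, d * x = x * d
  dsq : ∃ x ∈ D, x * x = d
  center : ∀ x ∈ D, (∀ y ∈ D, x * y = y * x) → x = 1 ∨ x = d
  refl : ∀ z ∈ D, z * z = d → ∀ s ∈ D, s * s = 1 → s ≠ 1 → s ≠ d → z * s * (z * s) = 1
  noncentral : ∃ s ∈ D, s * s = 1 ∧ s ≠ 1 ∧ s ≠ d
  gen : D ≤ closure {x | x ∈ D ∧ x * x = 1}
  conjD : ∀ x ∈ D, x * x = 1 → x ≠ 1 → ∃ c ∈ centralizer ({t} : Set G), c * d * c⁻¹ = x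
  count : Nat.card {x : G // x ∈ D ∧ x * x = 1} % 4 = 2
  syl : ∀ P : Subgroup G, IsPGroup 2 P → P ≤ centralizer ({t} : Set G) →
    ∃ c ∈ centralizer ({t} : Set G), ∀ x ∈ P, c * x * c⁻¹ ∈ T

namespace Dih

variable {t d : G} {T D : Subgroup G} (h : Dih t d T D)
include h

theorem comm {x : G} (hx : x ∈ T) : x * t = t * x := mem_centralizer_singleton_iff.mp (h.TC hx)

theorem mul_t_sq {x : G} (hx : x ∈ T) : t * x * (t * x) = x * x := by
  calc t * x * (t * x) = t * (x * t) * x := by group
    _ = t * (t * x) * x := by rw [h.comm hx]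
    _ = (t * t) * (x * x) := by group
    _ = x * x := by rw [h.tt, one_mul]

theorem sq_mem {x : G} (hx : x ∈ T) : x * x ∈ D := by
  rcases h.split x hx with h1 | h1
  · exact mul_mem h1 h1
  · rw [← h.mul_t_sq hx]; exact mul_mem h1 h1

theorem t_not_sq [Finite G] (x : G) : x * x ≠ t := by
  intro hx
  have hxC : x ∈ centralizer ({t} : Set G) :=
    mem_centralizer_singleton_iff.mpr (by rw [← hx, mul_assoc])
  have h2 : IsPGroup 2 (zpowers x) := by
    rintro ⟨y, k, rfl⟩
    refine ⟨2, Subtype.ext ?_⟩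
    show (x ^ k) ^ 2 ^ 2 = 1
    rw [← zpow_natCast, ← zpow_mul, mul_comm, zpow_mul, zpow_natCast,
      show x ^ 2 ^ 2 = x * x * (x * x) by norm_num [pow_succ, mul_assoc], hx, h.tt, one_zpow]
  obtain ⟨c, hc, hcx⟩ := h.syl _ h2 (zpowers_le.mpr hxC)
  have h3 := h.sq_mem (hcx x (mem_zpowers x))
  rw [show c * x * c⁻¹ * (c * x * c⁻¹) = c * (x * x) * c⁻¹ by group, hx,
    mem_centralizer_singleton_iff.mp hc, mul_inv_cancel_right] at h3
  exact h.tD h3

theorem not_conj_D [Finite G] {x : G} (hx : x ∈ D) (hx2 : x * x = 1) : ¬ IsConj t x := by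
  intro hc
  rcases eq_or_ne x 1 with rfl | hx1
  · exact h.t1 (isConj_one_left.mp hc)
  obtain ⟨c, -, rfl⟩ := h.conjD x hx hx2 hx1
  obtain ⟨y, -, rfl⟩ := h.dsq
  obtain ⟨g, hg⟩ := isConj_iff.mp hc
  refine h.t_not_sq ((g⁻¹ * c) * y * (g⁻¹ * c)⁻¹) ?_
  calc (g⁻¹ * c) * y * (g⁻¹ * c)⁻¹ * ((g⁻¹ * c) * y * (g⁻¹ * c)⁻¹)
      = g⁻¹ * (c * (y * y) * c⁻¹) * g := by group
    _ = t := by rw [← hg]; group

theorem card_T [Finite G] : Nat.card T = 2 * Nat.card D := by
  have hi : (D.subgroupOf T).index = 2 := by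
    rw [Subgroup.index_eq_two_iff']
    refine ⟨⟨t, h.tT⟩, fun e => ?_⟩
    simp only [mem_subgroupOf, Subgroup.coe_mul]
    rcases h.split e.1 e.2 with he | he
    · refine Or.inr ⟨he, fun hc => h.tD ?_⟩
      have := mul_mem hc (inv_mem he)
      simpa [mul_assoc] using this
    · refine Or.inl ⟨he, fun hc => h.tD ?_⟩
      have := mul_mem he (inv_mem hc)
      simpa [mul_assoc] using this
  have h1 := card_mul_index (D.subgroupOf T)
  rw [hi, Nat.card_congr (subgroupOfEquivOfLe h.DT).toEquiv] at h1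
  rw [← h1, mul_comm]

theorem relIndex_D [Finite G] : D.relIndex T = 2 := by
  have h1 := card_mul_index (D.subgroupOf T)
  rw [Nat.card_congr (subgroupOfEquivOfLe h.DT).toEquiv, h.card_T, mul_comm 2] at h1
  exact Nat.eq_of_mul_eq_mul_left Nat.card_pos h1

theorem card_le [Finite G] {P : Subgroup G} (hP : IsPGroup 2 P)
    (hPC : P ≤ centralizer ({t} : Set G)) : Nat.card P ≤ Nat.card T := by
  obtain ⟨c, -, hc⟩ := h.syl P hP hPC
  exact Nat.card_le_card_of_injective (fun x : P => (⟨c * x * c⁻¹, hc x.1 x.2⟩ : T))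
    (fun x y hxy => Subtype.ext (by simpa using congrArg Subtype.val hxy))

theorem cardC [Finite G] : ∃ o, Odd o ∧ Nat.card ↥(centralizer ({t} : Set G)) = Nat.card T * o := by
  haveI : Fact (Nat.Prime 2) := ⟨Nat.prime_two⟩
  obtain ⟨S', hS'⟩ := IsPGroup.exists_le_sylow (h.T2.comap_subtype (K := centralizer ({t} : Set G)))
  have h1 : Nat.card T ≤ Nat.card S' := by
    have := Subgroup.card_le_of_le hS'
    rwa [show Nat.card ↥(T.comap (centralizer ({t} : Set G)).subtype) = Nat.card T from
      Nat.card_congr (subgroupOfEquivOfLe h.TC).toEquiv] at this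
  have h2 := h.card_le (P := (S' : Subgroup _).map (centralizer ({t} : Set G)).subtype)
    (S'.2.map _) (map_subtype_le _)
  rw [card_map_of_injective (Subgroup.subtype_injective _)] at h2
  have h3 := card_mul_index (S' : Subgroup ↥(centralizer ({t} : Set G)))
  rw [le_antisymm h2 h1] at h3
  refine ⟨_, ?_, h3.symm⟩
  rw [← Nat.not_even_iff_odd, even_iff_two_dvd]
  exact S'.not_dvd_index

theorem t_mul_D {x : G} (hx : x ∈ D) : t * x ∉ D := fun hc => h.tD (by
  have := mul_mem hc (inv_mem hx)
  rwa [mul_inv_cancel_right] at this)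

/-- All involutions of the coset `tD` are conjugate to `t`. -/
theorem conj_coset [Finite G] {x : G} (hx : x ∈ D) (hx2 : x * x = 1) : IsConj t (t * x) := by
  by_contra hne
  have hnone : ∀ y ∈ D, y * y = 1 → y ≠ 1 → ¬ IsConj t (t * y) := by
    intro y hy hy2 hy1 hc
    apply hne
    rcases eq_or_ne x 1 with rfl | hx1
    · rw [mul_one]
    · obtain ⟨c, hcC, hcx⟩ := h.conjD x hx hx2 hx1
      obtain ⟨c', hc'C, hcy⟩ := h.conjD y hy hy2 hy1
      refine hc.trans (isConj_iff.mpr ⟨c * c'⁻¹, ?_⟩)
      have e : (c * c'⁻¹) * t = t * (c * c'⁻¹) :=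
        mem_centralizer_singleton_iff.mp (mul_mem hcC (inv_mem hc'C))
      rw [← hcy, ← hcx]
      calc c * c'⁻¹ * (t * (c' * d * c'⁻¹)) * (c * c'⁻¹)⁻¹
          = (c * c'⁻¹ * t) * (c' * d * c'⁻¹) * (c' * c⁻¹) := by group
        _ = (t * (c * c'⁻¹)) * (c' * d * c'⁻¹) * (c' * c⁻¹) := by rw [e]
        _ = t * (c * d * c⁻¹) := by group
  obtain ⟨o, ho, hC⟩ := h.cardC
  haveI := h.simple
  refine transfer_odd h.noncomm h.DT h.relIndex_D h.tt ho ?_
  rw [hC]
  have hM : Nat.card {u : G // u ∈ T ∧ u ∉ D ∧ IsConj t u} = 1 := by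
    rw [Nat.card_eq_one_iff_exists]
    refine ⟨⟨t, h.tT, h.tD, IsConj.refl t⟩, fun u => Subtype.ext ?_⟩
    obtain ⟨u, huT, huD, hu⟩ := u
    show u = t
    have hy := (h.split u huT).resolve_left huD
    obtain ⟨g, rfl⟩ := isConj_iff.mp hu
    have hu2 : g * t * g⁻¹ * (g * t * g⁻¹) = 1 := by
      rw [show g * t * g⁻¹ * (g * t * g⁻¹) = g * (t * t) * g⁻¹ by group, h.tt]; group
    by_cases h1 : t * (g * t * g⁻¹) = 1
    · rw [eq_inv_of_mul_eq_one_right h1, inv_eq_of_mul_eq_one_right h.tt]
    · exfalso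
      refine hnone _ hy (by rw [h.mul_t_sq huT, hu2]) h1 ?_
      rw [← mul_assoc t t, h.tt, one_mul]
      exact hu
  rw [hM, mul_one]

/-- The extremal conjugates. -/
structure Ext (t d : G) (T D : Subgroup G) (u : G) : Prop where
  notT : u ∉ T
  uu : u * u = 1
  norm : ∀ x ∈ D, u * x * u ∈ D
  utu : u * t * u = t * d
  conj : IsConj t u
  cent : ∀ x ∈ D, u * x * u = x ∨ u * x * u = x * d
  rule : ∀ y ∈ T, y * y = 1 → y ≠ 1 → y ≠ d → u * y = y * u →
    (y ∈ D ↔ IsConj t (u * y))

/-- Two extremal conjugates in different cosets clash. -/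
theorem no_two_ext [Finite G] {u u' z : G} (e : Ext t d T D u) (e' : Ext t d T D u') (hz : z ∈ D)
    (hu' : u' = u * z * t) : False := by
  obtain ⟨s, hs, hs2, hs1, hsd⟩ := h.noncentral
  have hzT := h.DT hz
  have hud : u * d * u = d := by
    have h1 : u * (u * t * u) * u = t := by
      rw [show u * (u * t * u) * u = (u * u) * t * (u * u) by group, e.uu]; group
    rw [e.utu] at h1
    have h2 : u * (t * d) * u = (u * t * u) * (u * d * u) := by
      rw [show u * t * u * (u * d * u) = u * t * (u * u) * d * u by group, e.uu]; group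
    rw [h2, e.utu, mul_assoc] at h1
    have h3 : d * (u * d * u) = 1 := mul_eq_left.mp h1
    rw [← inv_eq_of_mul_eq_one_right h3, inv_eq_of_mul_eq_one_right h.dd]
  have hutu : u * t = t * d * u := by
    rw [← e.utu, show u * t * u * u = u * t * (u * u) by group, e.uu, mul_one]
  have hsq : u * z * u * (z * d) = 1 := by
    have h1 := e'.uu
    rw [hu'] at h1
    rw [← h1]
    calc u * z * u * (z * d) = u * z * u * (d * z) := by rw [h.dcent z hz]
      _ = u * z * u * ((t * t) * d * z) := by rw [h.tt, one_mul]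
      _ = u * z * (u * t) * (t * d) * z * 1 := by group
      _ = u * z * (t * d * u) * (t * d) * z * 1 := by rw [hutu]
      _ = u * z * t * (d * (u * t) * d) * z := by group
      _ = u * z * t * (d * (t * d * u) * d) * z := by rw [hutu]
      _ = u * z * t * ((d * t) * d * (u * d)) * z := by group
      _ = u * z * t * ((t * d) * d * (d * u)) * z := by
            rw [← h.comm (h.DT h.dD), show u * d = d * u by
              calc u * d = u * d * (u * u) := by rw [e.uu, mul_one]
                _ = (u * d * u) * u := by group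
                _ = d * u := by rw [hud]]
      _ = u * z * t * (t * (d * d) * d * u) * z := by group
      _ = u * z * (t * t) * (d * u) * z := by rw [h.dd]; group
      _ = u * z * (d * u) * z := by rw [h.tt, mul_one]
      _ = u * z * t * (u * z * t) := by
            calc u * z * (d * u) * z = u * z * ((t * t) * d * u) * z := by rw [h.tt, one_mul]
              _ = u * z * t * (t * d * u) * z := by group
              _ = u * z * t * (u * t) * z := by rw [hutu]
              _ = u * z * t * (u * (t * z)) := by group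
              _ = u * z * t * (u * (z * t)) := by rw [h.comm hzT]
              _ = u * z * t * (u * z * t) := by group
  have hcz : u * z = z * u → u * (z * t) = z * d * (t * u) := fun hc => by
    calc u * (z * t) = (u * z) * t := by group
      _ = z * (u * t) := by rw [hc, mul_assoc]
      _ = z * (t * d * u) := by rw [hutu]
      _ = z * (d * t * u) := by rw [← h.comm (h.DT h.dD)]
      _ = z * d * (t * u) := by group
  rcases e.cent z hz with hc | hc
  · -- `u` centralises `z`, which squares to `d`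
    rw [hc] at hsq
    have hzz : z * z = d := by
      have : z * z * d = 1 := by rw [← hsq]; group
      rw [eq_inv_of_mul_eq_one_left this, inv_eq_of_mul_eq_one_right h.dd]
    have hcomm : u * z = z * u := by
      calc u * z = (u * z * u) * u := by rw [show u * z * u * u = u * z * (u * u) by group, e.uu, mul_one]
        _ = z * u := by rw [hc]
    have hzs := h.refl z hz hzz s hs hs2 hs1 hsd
    have hsz : s * z = z⁻¹ * s := by
      calc s * z = z⁻¹ * (z * s * (z * s)) * s⁻¹ := by group
        _ = z⁻¹ * s⁻¹ := by rw [hzs, mul_one]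
        _ = z⁻¹ * s := by rw [inv_eq_of_mul_eq_one_right hs2]
    have hzi : z⁻¹ = z * d := inv_eq_of_mul_eq_one_right (by rw [← mul_assoc, hzz, h.dd])
    rw [hzi] at hsz
    have hts : t * s * (t * s) = 1 := by rw [h.mul_t_sq (h.DT hs), hs2]
    rcases e.cent s hs with hs' | hs'
    · -- `u` centralises `s`
      have hus : u * s = s * u := by
        calc u * s = (u * s * u) * u := by rw [show u * s * u * u = u * s * (u * u) by group, e.uu, mul_one]
          _ = s * u := by rw [hs']
      have hy1 : z * s ≠ 1 := fun e1 => by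
        have : z = s := by rw [eq_inv_of_mul_eq_one_left e1, inv_eq_of_mul_eq_one_right hs2]
        rw [this, hs2] at hzz
        exact h.d1 hzz.symm
      have hy2 : z * s ≠ d := fun e1 => by
        have : s = z⁻¹ * d := by rw [← e1]; group
        rw [hzi, mul_assoc, h.dd, mul_one] at this
        rw [this, hzz] at hs2
        exact h.d1 hs2
      have h1 := (e.rule _ (h.DT (mul_mem hz hs)) hzs hy1 hy2
        (by rw [← mul_assoc, hcomm, mul_assoc, hus, mul_assoc])).mp (mul_mem hz hs)
      have h2 : ¬ IsConj t (u' * (t * s)) := fun hh => h.t_mul_D hs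
        ((e'.rule _ (mul_mem h.tT (h.DT hs)) hts
          (fun e1 => h.t_mul_D hs (e1 ▸ one_mem D))
          (fun e1 => h.t_mul_D hs (e1 ▸ h.dD)) ?_).mpr hh)
      · refine h2 ?_
        rwa [hu', show u * z * t * (t * s) = u * z * (t * t) * s by group, h.tt, mul_one, mul_assoc]
      · rw [hu', show u * z * t * (t * s) = u * z * (t * t) * s by group, h.tt, mul_one]
        calc u * z * s = z * (u * s) := by rw [hcomm, mul_assoc]
          _ = z * s * u := by rw [hus]; group
          _ = (z * (d * d)) * s * u := by rw [h.dd, mul_one]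
          _ = z * d * (d * s) * u := by group
          _ = (z * d * s) * d * u := by rw [h.dcent s hs]; group
          _ = s * z * d * u := by rw [hsz]
          _ = s * (z * d) * ((t * t) * u) := by rw [h.tt]; group
          _ = s * ((z * d) * t) * (t * u) := by group
          _ = s * (t * (z * d)) * (t * u) := by rw [h.comm (h.DT (mul_mem hz h.dD))]
          _ = (s * t) * ((z * d) * (t * u)) := by group
          _ = (t * s) * (u * (z * t)) := by rw [h.comm (h.DT hs), hcz hcomm]
          _ = t * s * (u * z * t) := by group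
    · -- `u` moves `s`
      have hus : u * s = s * d * u := by
        calc u * s = (u * s * u) * u := by rw [show u * s * u * u = u * s * (u * u) by group, e.uu, mul_one]
          _ = s * d * u := by rw [hs']
      have hy : u * (t * s) = t * s * u := by
        calc u * (t * s) = (u * t) * s := by group
          _ = t * d * (u * s) := by rw [hutu]; group
          _ = t * (d * s) * d * u := by rw [hus]; group
          _ = t * (s * d) * d * u := by rw [h.dcent s hs]
          _ = t * s * (d * d) * u := by group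
          _ = t * s * u := by rw [h.dd, mul_one]
      have h1 : ¬ IsConj t (u * (t * s)) := fun hh => h.t_mul_D hs
        ((e.rule _ (mul_mem h.tT (h.DT hs)) hts
          (fun e1 => h.t_mul_D hs (e1 ▸ one_mem D))
          (fun e1 => h.t_mul_D hs (e1 ▸ h.dD)) hy).mpr hh)
      have hy1 : z * s ≠ 1 := fun e1 => by
        have : z = s := by rw [eq_inv_of_mul_eq_one_left e1, inv_eq_of_mul_eq_one_right hs2]
        rw [this, hs2] at hzz
        exact h.d1 hzz.symm
      have hy2 : z * s ≠ d := fun e1 => by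
        have : s = z⁻¹ * d := by rw [← e1]; group
        rw [hzi, mul_assoc, h.dd, mul_one] at this
        rw [this, hzz] at hs2
        exact h.d1 hs2
      have hc' : u' * (z * s) = z * s * u' := by
        rw [hu']
        calc u * z * t * (z * s) = u * z * (t * (z * s)) := by group
          _ = u * z * ((z * s) * t) := by rw [h.comm (h.DT (mul_mem hz hs))]
          _ = u * (z * z) * s * t := by group
          _ = u * (d * s) * t := by rw [hzz]; group
          _ = u * (s * d) * t := by rw [h.dcent s hs]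
          _ = (u * s) * d * t := by group
          _ = s * d * (u * d) * t := by rw [hus]; group
          _ = s * d * (d * u) * t := by
              rw [show u * d = d * u by
                calc u * d = u * d * (u * u) := by rw [e.uu, mul_one]
                  _ = (u * d * u) * u := by group
                  _ = d * u := by rw [hud]]
          _ = s * (d * d) * u * t := by group
          _ = s * u * t := by rw [h.dd, mul_one]
          _ = z * (z * d) * s * u * t := by rw [← mul_assoc z z, hzz, h.dd, one_mul]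
          _ = z * (s * z) * u * t := by rw [hsz]; group
          _ = z * s * ((z * u) * t) := by group
          _ = z * s * (u * z * t) := by rw [hcomm]
      have h2 := (e'.rule _ (h.DT (mul_mem hz hs)) hzs hy1 hy2 hc').mp (mul_mem hz hs)
      refine h1 (h2.trans (isConj_iff.mpr ⟨t, ?_⟩))
      rw [hu', inv_eq_of_mul_eq_one_right h.tt]
      calc t * (u * z * t * (z * s)) * t = t * u * z * ((t * (z * s)) * t) := by group
        _ = t * u * z * (((z * s) * t) * t) := by rw [h.comm (h.DT (mul_mem hz hs))]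
        _ = t * u * (z * z) * s * (t * t) := by group
        _ = t * (u * d) * s := by rw [hzz, h.tt]; group
        _ = t * (d * u) * s := by
            rw [show u * d = d * u by
              calc u * d = u * d * (u * u) := by rw [e.uu, mul_one]
                _ = (u * d * u) * u := by group
                _ = d * u := by rw [hud]]
        _ = (t * d * u) * s := by group
        _ = u * t * s := by rw [hutu]
        _ = u * (t * s) := by group
  · -- `u` moves `z`, an involution
    rw [hc] at hsq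
    have hzz : z * z = 1 := by
      calc z * z = z * z * (d * d) := by rw [h.dd, mul_one]
        _ = z * (z * d) * d := by group
        _ = z * (d * z) * d := by rw [h.dcent z hz]
        _ = z * d * (z * d) := by group
        _ = 1 := hsq
    have hzne : z ≠ 1 ∧ z ≠ d := by
      constructor <;> rintro rfl
      · rw [mul_one, e.uu, one_mul] at hc
        exact h.d1 hc.symm
      · rw [hud, h.dd] at hc
        exact h.d1 hc
    have hzt : z * t * (z * t) = 1 := by
      rw [h.comm hzT, h.mul_t_sq hzT, hzz]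
    have huz : u * z = z * d * u := by
      calc u * z = (u * z * u) * u := by rw [show u * z * u * u = u * z * (u * u) by group, e.uu, mul_one]
        _ = z * d * u := by rw [hc]
    have hy : u * (z * t) = z * t * u := by
      calc u * (z * t) = (u * z) * t := by group
        _ = z * d * (u * t) := by rw [huz]; group
        _ = z * (d * t) * d * u := by rw [hutu]; group
        _ = z * (t * d) * d * u := by rw [h.comm (h.DT h.dD)]
        _ = z * t * (d * d) * u := by group
        _ = z * t * u := by rw [h.dd, mul_one]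
    have hztD : z * t ∉ D := by rw [h.comm hzT]; exact h.t_mul_D hz
    refine hztD ((e.rule _ (mul_mem hzT h.tT) hzt (fun e1 => hztD (e1 ▸ one_mem D))
      (fun e1 => hztD (e1 ▸ h.dD)) hy).mpr ?_)
    have := e'.conj
    rwa [hu', mul_assoc] at this

/-- A step from `T`. -/
structure Step (t d : G) (T D : Subgroup G) (g : G) : Prop where
  notT : g ∉ T
  normT : ∀ x ∈ T, g * x * g⁻¹ ∈ T
  normD : ∀ x ∈ D, g * x * g⁻¹ ∈ D
  gd : g * d * g⁻¹ = d
  gt : g * t * g⁻¹ = t * d
  sq : g * g ∈ T

theorem center_T {z : G} (hz : z ∈ T) (hc : ∀ x ∈ D, z * x = x * z) :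
    (z ∈ D ∧ (z = 1 ∨ z = d)) ∨ (z ∉ D ∧ (t * z = 1 ∨ t * z = d)) := by
  by_cases hzD : z ∈ D
  · exact Or.inl ⟨hzD, h.center z hzD hc⟩
  · refine Or.inr ⟨hzD, h.center _ ((h.split z hz).resolve_left hzD) fun x hx => ?_⟩
    calc t * z * x = t * (x * z) := by rw [mul_assoc, hc x hx]
      _ = (t * x) * z := by group
      _ = x * (t * z) := by rw [← h.comm (h.DT hx)]; group

theorem conj_d [Finite G] {g : G} (hg : ∀ x ∈ T, g * x * g⁻¹ ∈ T) : g * d * g⁻¹ = d := by
  obtain ⟨y, hy, hyd⟩ := h.dsq
  have hD : g * d * g⁻¹ ∈ D := by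
    rw [← hyd, show g * (y * y) * g⁻¹ = g * y * g⁻¹ * (g * y * g⁻¹) by group]
    exact h.sq_mem (hg y (h.DT hy))
  have hsurj : Function.Surjective (fun x : T => (⟨g * x * g⁻¹, hg x.1 x.2⟩ : T)) :=
    Finite.injective_iff_surjective.mp fun a b hab => Subtype.ext (by simpa using congrArg Subtype.val hab)
  refine (h.center _ hD fun x hx => ?_).resolve_left (by simpa using h.d1)
  obtain ⟨w, hw⟩ := hsurj ⟨x, h.DT hx⟩
  have hw' : g * w.1 * g⁻¹ = x := congrArg Subtype.val hw
  have hdw : d * w.1 = w.1 * d := by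
    rcases h.split _ w.2 with h1 | h1
    · exact h.dcent _ h1
    · calc d * w.1 = d * ((t * t) * w.1) := by rw [h.tt, one_mul]
        _ = (d * t) * (t * w.1) := by group
        _ = (t * d) * (t * w.1) := by rw [h.comm (h.DT h.dD)]
        _ = t * (d * (t * w.1)) := by group
        _ = t * ((t * w.1) * d) := by rw [h.dcent _ h1]
        _ = (t * t) * w.1 * d := by group
        _ = w.1 * d := by rw [h.tt, one_mul]
  rw [← hw']
  calc g * d * g⁻¹ * (g * w.1 * g⁻¹) = g * (d * w.1) * g⁻¹ := by group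
    _ = g * (w.1 * d) * g⁻¹ := by rw [hdw]
    _ = g * w.1 * g⁻¹ * (g * d * g⁻¹) := by group

theorem conj_t [Finite G] {g : G} (hg : ∀ x ∈ T, g * x * g⁻¹ ∈ T) (hne : g * t * g⁻¹ ≠ t) :
    g * t * g⁻¹ = t * d := by
  have hsurj : Function.Surjective (fun x : T => (⟨g * x * g⁻¹, hg x.1 x.2⟩ : T)) :=
    Finite.injective_iff_surjective.mp fun a b hab => Subtype.ext (by simpa using congrArg Subtype.val hab)
  have hc : ∀ x ∈ D, g * t * g⁻¹ * x = x * (g * t * g⁻¹) := by
    intro x hx
    obtain ⟨w, hw⟩ := hsurj ⟨x, h.DT hx⟩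
    have hw' : g * w.1 * g⁻¹ = x := congrArg Subtype.val hw
    rw [← hw']
    calc g * t * g⁻¹ * (g * w.1 * g⁻¹) = g * (t * w.1) * g⁻¹ := by group
      _ = g * (w.1 * t) * g⁻¹ := by rw [h.comm w.2]
      _ = g * w.1 * g⁻¹ * (g * t * g⁻¹) := by group
  have h2 : g * t * g⁻¹ * (g * t * g⁻¹) = 1 := by
    rw [show g * t * g⁻¹ * (g * t * g⁻¹) = g * (t * t) * g⁻¹ by group, h.tt]; group
  rcases h.center_T (hg t h.tT) hc with ⟨hD, -⟩ | ⟨-, h1 | h1⟩
  · exact absurd (isConj_iff.mpr ⟨g, rfl⟩) (h.not_conj_D hD h2)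
  · exact absurd (by rw [eq_inv_of_mul_eq_one_right h1, inv_eq_of_mul_eq_one_right h.tt]) hne
  · rw [← h1, ← mul_assoc, h.tt, one_mul]

theorem exists_step [Finite G] : ∃ g, Step t d T D g := by
  classical
  haveI : Fact (Nat.Prime 2) := ⟨Nat.prime_two⟩
  -- a 2-element of the normaliser outside `T`
  obtain ⟨x, hxN, hxT, k, hk⟩ : ∃ x : G, x ∈ normalizer (T : Set G) ∧ x ∉ T ∧ ∃ k, x ^ 2 ^ k = 1 := by
    obtain ⟨S, hS⟩ := h.T2.exists_le_sylow
    by_cases hST : (S : Subgroup G) = T
    · exfalso
      obtain ⟨g, hg⟩ := isConj_iff.mp (h.conj_coset h.dD h.dd)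
      have hzc : ∀ u ∈ T, (∀ y ∈ D, u * y = y * u) → u ∈ centralizer (T : Set G) := fun u hu hc =>
        mem_centralizer_iff.mpr fun y hy => by
          rcases h.split y hy with h1 | h1
          · exact (hc y h1).symm
          · calc y * u = (t * t) * y * u := by rw [h.tt, one_mul]
              _ = t * ((t * y) * u) := by group
              _ = t * (u * (t * y)) := by rw [hc _ h1]
              _ = (t * u) * (t * y) := by group
              _ = (u * t) * (t * y) := by rw [h.comm hu]
              _ = u * ((t * t) * y) := by group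
              _ = u * y := by rw [h.tt, one_mul]
      have htc : t ∈ centralizer ((S : Subgroup G) : Set G) := hST ▸ hzc t h.tT fun y hy =>
        (h.comm (h.DT hy)).symm
      have htdc : t * d ∈ centralizer ((S : Subgroup G) : Set G) := hST ▸
        hzc _ (mul_mem h.tT (h.DT h.dD)) fun y hy => by
          calc t * d * y = t * (y * d) := by rw [mul_assoc, h.dcent y hy]
            _ = (t * y) * d := by group
            _ = y * (t * d) := by rw [← h.comm (h.DT hy)]; group
      obtain ⟨n, hn, hnt⟩ := Sylow.conj_eq_normalizer_conj_of_mem_centralizer S t g⁻¹ htc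
        (by rw [inv_inv, hg]; exact htdc)
      rw [inv_inv, hg] at hnt
      have hn' : n⁻¹ ∈ normalizer (T : Set G) := hST ▸ inv_mem hn
      have hmap : n⁻¹ * t * n⁻¹⁻¹ = t * d := by rw [inv_inv, hnt]
      have hd' := h.conj_d (g := n⁻¹) fun y hy => (mem_normalizer_iff.mp hn' y).mp hy
      have hodd : ∀ j : ℕ, (n⁻¹ ^ j) * t * (n⁻¹ ^ j)⁻¹ = if Even j then t else t * d := by
        intro j
        induction j with
        | zero => simp
        | succ j ih =>
          have e : n⁻¹ ^ (j + 1) * t * (n⁻¹ ^ (j + 1))⁻¹ =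
              n⁻¹ * (n⁻¹ ^ j * t * (n⁻¹ ^ j)⁻¹) * n⁻¹⁻¹ := by rw [pow_succ']; group
          rw [e, ih]
          rcases Nat.even_or_odd j with hj | hj
          · rw [if_pos hj, if_neg (by simpa [Nat.even_add_one] using hj), hmap]
          · rw [if_neg (Nat.not_even_iff_odd.mpr hj), if_pos (by simpa [Nat.even_add_one] using hj),
              show n⁻¹ * (t * d) * n⁻¹⁻¹ = (n⁻¹ * t * n⁻¹⁻¹) * (n⁻¹ * d * n⁻¹⁻¹) by group, hmap, hd',
              mul_assoc, h.dd, mul_one]
      set b := (orderOf n⁻¹).factorization 2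
      set o := orderOf n⁻¹ / 2 ^ b with ho
      have hoo : ¬ Even o := by
        rw [even_iff_two_dvd]
        exact Nat.not_dvd_ordCompl Nat.prime_two (orderOf_pos _).ne'
      have hy2 : IsPGroup 2 (zpowers (n⁻¹ ^ o)) := by
        rintro ⟨y, i, rfl⟩
        refine ⟨b, Subtype.ext ?_⟩
        show ((n⁻¹ ^ o) ^ i) ^ 2 ^ b = 1
        rw [← zpow_natCast, ← zpow_mul, mul_comm, zpow_mul, zpow_natCast, ← pow_mul,
          ho, Nat.div_mul_cancel (Nat.ordProj_dvd _ 2), pow_orderOf_eq_one, one_zpow]
      have hsup : IsPGroup 2 ↥(zpowers (n⁻¹ ^ o) ⊔ T) :=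
        hy2.to_sup_of_normal_right' h.T2 (zpowers_le.mpr (pow_mem hn' o))
      have heq := S.3 hsup (hST.le.trans le_sup_right)
      have hmem : n⁻¹ ^ o ∈ T := hST ▸ heq ▸ mem_sup_left (mem_zpowers _)
      have h1 := hodd o
      rw [if_neg hoo, h.comm hmem, mul_inv_cancel_right] at h1
      exact h.d1 (mul_eq_left.mp h1.symm)
    · haveI := S.2.isNilpotent
      have hlt : T.subgroupOf (S : Subgroup G) < ⊤ := by
        refine lt_top_iff_ne_top.mpr fun e => hST (le_antisymm (fun x hx => ?_) hS)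
        exact mem_subgroupOf.mp (show (⟨x, hx⟩ : (S : Subgroup G)) ∈ T.subgroupOf S from e ▸ mem_top _)
      obtain ⟨x, hxN, hxT⟩ := SetLike.exists_of_lt (normalizerCondition_of_isNilpotent _ hlt)
      obtain ⟨k, hk⟩ := S.2 x
      exact ⟨x, mem_normalizer_fintype fun r hr =>
        mem_subgroupOf.mp ((mem_normalizer_iff.mp hxN ⟨r, hS hr⟩).mp hr), hxT, k, congrArg Subtype.val hk⟩
  have hex : ∃ j, x ^ 2 ^ j ∈ T := ⟨k, by rw [hk]; exact one_mem T⟩
  have hj0 : Nat.find hex ≠ 0 := fun e => hxT (by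
    have := Nat.find_spec hex
    rwa [e, pow_zero, pow_one] at this)
  obtain ⟨j, hj⟩ := Nat.exists_eq_succ_of_ne_zero hj0
  set g := x ^ 2 ^ j with hg
  have hgT : g ∉ T := Nat.find_min hex (by omega)
  have hgN : g ∈ normalizer (T : Set G) := pow_mem hxN _
  have hnT : ∀ y ∈ T, g * y * g⁻¹ ∈ T := fun y hy => (mem_normalizer_iff.mp hgN y).mp hy
  have hne : g * t * g⁻¹ ≠ t := by
    intro e
    have hg2 : IsPGroup 2 (zpowers g) := by
      rintro ⟨y, i, rfl⟩
      refine ⟨k, Subtype.ext ?_⟩
      show (g ^ i) ^ 2 ^ k = 1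
      rw [← zpow_natCast, ← zpow_mul, mul_comm, zpow_mul, zpow_natCast, hg, ← pow_mul, mul_comm,
        pow_mul, hk, one_pow, one_zpow]
    have hsup : IsPGroup 2 ↥(zpowers g ⊔ T) := hg2.to_sup_of_normal_right' h.T2 (zpowers_le.mpr hgN)
    have h1 := h.card_le hsup (sup_le (zpowers_le.mpr
      (mem_centralizer_singleton_iff.mpr (mul_inv_eq_iff_eq_mul.mp e))) h.TC)
    exact hgT ((eq_of_le_of_card_ge (le_sup_right (a := zpowers g)) h1).symm ▸
      mem_sup_left (mem_zpowers g))
  refine ⟨g, hgT, hnT, ?_, h.conj_d hnT, h.conj_t hnT hne, ?_⟩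
  · have hle : closure {y | y ∈ D ∧ y * y = 1} ≤ D.comap (MulAut.conj g).toMonoidHom := by
      rw [closure_le]
      rintro y ⟨hy, hy2⟩
      show g * y * g⁻¹ ∈ D
      have h2 : g * y * g⁻¹ * (g * y * g⁻¹) = 1 := by
        rw [show g * y * g⁻¹ * (g * y * g⁻¹) = g * (y * y) * g⁻¹ by group, hy2]; group
      refine (h.split _ (hnT y (h.DT hy))).elim id fun h1 => ?_
      exfalso
      refine h.not_conj_D hy hy2 ((h.conj_coset h1 ?_).trans (isConj_iff.mpr ⟨g⁻¹, ?_⟩))
      · rw [h.mul_t_sq (hnT y (h.DT hy)), h2]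
      · rw [← mul_assoc t t, h.tt, one_mul]; group
    exact fun y hy => hle (h.gen hy)
  · have := Nat.find_spec hex
    rwa [hj, pow_succ, pow_mul, pow_two] at this

/-- The dihedral case does not occur. -/
theorem elim [Finite G] : False := by
  classical
  haveI : Fact (Nat.Prime 2) := ⟨Nat.prime_two⟩
  haveI := h.simple
  obtain ⟨g, st⟩ := h.exists_step
  have hiff : ∀ {g : G}, (∀ x ∈ D, g * x * g⁻¹ ∈ D) → ∀ x, g * x * g⁻¹ ∈ D → x ∈ D := by
    intro g hg x hx
    have hsurj : Function.Surjective (fun y : D => (⟨g * y * g⁻¹, hg y y.2⟩ : D)) :=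
      Finite.injective_iff_surjective.mp fun a b hab => Subtype.ext (by simpa using congrArg Subtype.val hab)
    obtain ⟨y, hy⟩ := hsurj ⟨_, hx⟩
    have : (y : G) = x := by simpa using congrArg Subtype.val hy
    exact this ▸ y.2
  -- `H = T ∪ T g`
  have hcl : ∀ a b, (a ∈ T ∨ a * g⁻¹ ∈ T) → (b ∈ T ∨ b * g⁻¹ ∈ T) → (a * b ∈ T ∨ a * b * g⁻¹ ∈ T) := by
    intro a b ha hb
    rcases ha with ha | ha <;> rcases hb with hb | hb
    · exact Or.inl (mul_mem ha hb)
    · exact Or.inr (by rw [mul_assoc]; exact mul_mem ha hb)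
    · exact Or.inr (by
        rw [show a * b * g⁻¹ = (a * g⁻¹) * (g * b * g⁻¹) by group]
        exact mul_mem ha (st.normT b hb))
    · exact Or.inl (by
        rw [show a * b = (a * g⁻¹) * (g * (b * g⁻¹) * g⁻¹) * (g * g) by group]
        exact mul_mem (mul_mem ha (st.normT _ hb)) st.sq)
  let H : Subgroup G :=
    { carrier := {x | x ∈ T ∨ x * g⁻¹ ∈ T}
      one_mem' := Or.inl (one_mem T)
      mul_mem' := fun {a b} ha hb => hcl a b ha hb
      inv_mem' := fun {a} ha => by
        have key : ∀ j : ℕ, a ^ j ∈ T ∨ a ^ j * g⁻¹ ∈ T := by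
          intro j
          induction j with
          | zero => exact Or.inl (by rw [pow_zero]; exact one_mem T)
          | succ j ih => rw [pow_succ]; exact hcl _ _ ih ha
        have := key (orderOf a - 1)
        rwa [pow_sub a (orderOf_pos a), pow_orderOf_eq_one, pow_one, one_mul] at this }
  have hTH : T ≤ H := fun x hx => Or.inl hx
  have hgH : g ∈ H := Or.inr (by rw [mul_inv_cancel]; exact one_mem T)
  have hout : ∀ x ∈ H, x ∉ T → x * g⁻¹ ∈ T := fun x hx hn => Or.resolve_left hx hn
  have hconjT : ∀ x ∈ H, ∀ y ∈ T, x * y * x⁻¹ ∈ T := by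
    rintro x (hx | hx) y hy
    · exact mul_mem (mul_mem hx hy) (inv_mem hx)
    · rw [show x * y * x⁻¹ = (x * g⁻¹) * (g * y * g⁻¹) * (x * g⁻¹)⁻¹ by group]
      exact mul_mem (mul_mem hx (st.normT y hy)) (inv_mem hx)
  have hnormDT : ∀ x ∈ T, ∀ y ∈ D, x * y * x⁻¹ ∈ D := by
    intro x hx y hy
    rcases h.split x hx with h1 | h1
    · exact mul_mem (mul_mem h1 hy) (inv_mem h1)
    · rw [show x * y * x⁻¹ = (t * t) * x * y * x⁻¹ * (t * t)⁻¹ by rw [h.tt]; group,
        show (t * t) * x * y * x⁻¹ * (t * t)⁻¹ = t * ((t * x) * y * (t * x)⁻¹) * t⁻¹ by group,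
        ← h.comm (h.DT (mul_mem (mul_mem h1 hy) (inv_mem h1))), mul_inv_cancel_right]
      exact mul_mem (mul_mem h1 hy) (inv_mem h1)
  have hconjD : ∀ x ∈ H, ∀ y ∈ D, x * y * x⁻¹ ∈ D := by
    rintro x (hx | hx) y hy
    · exact hnormDT x hx y hy
    · rw [show x * y * x⁻¹ = (x * g⁻¹) * (g * y * g⁻¹) * (x * g⁻¹)⁻¹ by group]
      exact hnormDT _ hx _ (st.normD y hy)
  have hcardH : Nat.card H = 2 * Nat.card T := by
    have hi : (T.subgroupOf H).index = 2 := by
      rw [Subgroup.index_eq_two_iff']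
      refine ⟨⟨g, hgH⟩, fun e => ?_⟩
      simp only [mem_subgroupOf, Subgroup.coe_mul]
      by_cases he : e.1 ∈ T
      · exact Or.inr ⟨he, fun hc => st.notT (by
          have := mul_mem hc (inv_mem he)
          simpa [mul_assoc] using this)⟩
      · refine Or.inl ⟨?_, he⟩
        rw [show g * e.1 = g * (e.1 * g⁻¹) * g⁻¹ * (g * g) by group]
        exact mul_mem (st.normT _ (hout e.1 e.2 he)) st.sq
    have h1 := card_mul_index (T.subgroupOf H)
    rw [hi, Nat.card_congr (subgroupOfEquivOfLe hTH).toEquiv] at h1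
    rw [← h1, mul_comm]
  have hH2 : IsPGroup 2 H := by
    obtain ⟨k, hk⟩ := IsPGroup.iff_card.mp h.T2
    exact IsPGroup.of_card (n := k + 1) (by rw [hcardH, hk, pow_succ'])
  obtain ⟨o, ho, hC⟩ := h.cardC
  obtain ⟨i, hi⟩ : ∃ i, Nat.card {x : G // x ∈ D ∧ x * x = 1} = 2 * (2 * i + 1) :=
    ⟨Nat.card {x : G // x ∈ D ∧ x * x = 1} / 4, by have := h.count; omega⟩
  have hMT : Nat.card {u : G // u ∈ T ∧ IsConj t u} = 2 * (2 * i + 1) := by
    rw [← hi]
    have hu2 : ∀ u, IsConj t u → u * u = 1 := fun u hu => by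
      obtain ⟨c, rfl⟩ := isConj_iff.mp hu
      rw [show c * t * c⁻¹ * (c * t * c⁻¹) = c * (t * t) * c⁻¹ by group, h.tt]; group
    exact Nat.card_congr
      { toFun := fun u => ⟨t * u.1, (h.split _ u.2.1).resolve_left fun hD =>
          h.not_conj_D hD (hu2 _ u.2.2) u.2.2, by rw [h.mul_t_sq u.2.1, hu2 _ u.2.2]⟩
        invFun := fun x => ⟨t * x.1, mul_mem h.tT (h.DT x.2.1), h.conj_coset x.2.1 x.2.2⟩
        left_inv := fun u => Subtype.ext (by simp [← mul_assoc, h.tt])
        right_inv := fun x => Subtype.ext (by simp [← mul_assoc, h.tt]) }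
  have hsq2 : ∀ y ∈ T, y * (g * y * g⁻¹) ∈ D := by
    intro y hy
    rcases h.split y hy with h1 | h1
    · exact mul_mem h1 (st.normD y h1)
    · have h2 : t * (g * y * g⁻¹) ∈ D := by
        refine (h.split _ (st.normT y hy)).resolve_left fun h3 => h.t_mul_D h1 ?_
        rw [← mul_assoc, h.tt, one_mul]
        exact hiff st.normD y h3
      have e : y * (g * y * g⁻¹) = (t * y) * (t * (g * y * g⁻¹)) := by
        calc y * (g * y * g⁻¹) = (t * t) * y * (g * y * g⁻¹) := by rw [h.tt, one_mul]
          _ = t * (t * y) * (g * y * g⁻¹) := by group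
          _ = ((t * y) * t) * (g * y * g⁻¹) := by rw [h.comm (h.DT h1)]
          _ = (t * y) * (t * (g * y * g⁻¹)) := by group
      rw [e]
      exact mul_mem h1 h2
  by_cases hgg : g * g ∈ D
  swap
  · -- cyclic quotient
    have hinv : ∀ u, u ∈ H → IsConj t u → u ∈ T := by
      intro u hu hc
      by_contra hn
      obtain ⟨c, hc'⟩ := isConj_iff.mp hc
      have hy := hout u hu hn
      refine hgg ?_
      have huu : u * u = 1 := by
        rw [← hc', show c * t * c⁻¹ * (c * t * c⁻¹) = c * (t * t) * c⁻¹ by group, h.tt]; group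
      have e : u * g⁻¹ * (g * (u * g⁻¹) * g⁻¹) * (g * g) = u * u := by
        simp only [mul_assoc, inv_mul_cancel_left, inv_mul_cancel, mul_one]
      rw [huu] at e
      rw [eq_inv_of_mul_eq_one_right e]
      exact inv_mem (hsq2 _ hy)
    haveI hDn : (D.subgroupOf H).Normal := ⟨fun y hy x => hconjD x.1 x.2 y.1 hy⟩
    have hA : Nat.card (H ⧸ D.subgroupOf H) = 2 ^ 2 := by
      have h1 := card_mul_index (D.subgroupOf H)
      rw [Nat.card_congr (subgroupOfEquivOfLe (h.DT.trans hTH)).toEquiv, hcardH, h.card_T,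
        ← mul_assoc, mul_comm _ (Nat.card D)] at h1
      exact Nat.eq_of_mul_eq_mul_left Nat.card_pos h1
    letI : CommGroup (H ⧸ D.subgroupOf H) :=
      { (inferInstance : Group (H ⧸ D.subgroupOf H)) with
        mul_comm := fun a b => IsPGroup.commutative_of_card_eq_prime_sq hA a b }
    refine transfer_hom h.noncomm (QuotientGroup.mk' (D.subgroupOf H)) h.tt
      (a := ((⟨t, hTH h.tT⟩ : H) : H ⧸ D.subgroupOf H)) ?_ ?_ ?_ (d := o * (2 * i + 1)) (ho.mul ⟨i, rfl⟩) ?_
    · exact fun e => h.tD (show (⟨t, hTH h.tT⟩ : H) ∈ D.subgroupOf H from (QuotientGroup.eq_one_iff _).mp e)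
    · rw [← QuotientGroup.mk_mul]
      exact (QuotientGroup.eq_one_iff _).mpr (show t * t ∈ D by rw [h.tt]; exact one_mem D)
    · intro u hu hc
      have hT := hinv u hu hc
      refine (QuotientGroup.eq.mpr ?_).symm
      show t⁻¹ * u ∈ D
      rw [inv_eq_of_mul_eq_one_right h.tt]
      refine (h.split u hT).resolve_left fun hD => ?_
      obtain ⟨c, hc'⟩ := isConj_iff.mp hc
      exact h.not_conj_D hD (by
        rw [← hc', show c * t * c⁻¹ * (c * t * c⁻¹) = c * (t * t) * c⁻¹ by group, h.tt]; group) hc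
    · rw [hC, hcardH, show Nat.card {u : G // u ∈ H ∧ IsConj t u} = 2 * (2 * i + 1) from
        hMT ▸ Nat.card_congr (Equiv.subtypeEquivRight fun u =>
          ⟨fun hu => ⟨hinv u hu.1 hu.2, hu.2⟩, fun hu => ⟨hTH hu.1, hu.2⟩⟩)]
      ring
  -- four-group quotient
  have hext : ∀ g', g' ∈ H → g' ∉ T → g' * g' ∈ D →
      ∃ u, Ext t d T D u ∧ u ∈ H ∧ t * (u * g'⁻¹) ∈ D := by
    intro g' hg' hg'T hg'2
    by_contra hno
    push Not at hno
    have hclK : ∀ a b, (a ∈ D ∨ a * g'⁻¹ ∈ D) → (b ∈ D ∨ b * g'⁻¹ ∈ D) → (a * b ∈ D ∨ a * b * g'⁻¹ ∈ D) := by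
      intro a b ha hb
      rcases ha with ha | ha <;> rcases hb with hb | hb
      · exact Or.inl (mul_mem ha hb)
      · exact Or.inr (by rw [mul_assoc]; exact mul_mem ha hb)
      · exact Or.inr (by
          rw [show a * b * g'⁻¹ = (a * g'⁻¹) * (g' * b * g'⁻¹) by group]
          exact mul_mem ha (hconjD g' hg' b hb))
      · exact Or.inl (by
          rw [show a * b = (a * g'⁻¹) * (g' * (b * g'⁻¹) * g'⁻¹) * (g' * g') by group]
          exact mul_mem (mul_mem ha (hconjD g' hg' _ hb)) hg'2)
    let K : Subgroup G :=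
      { carrier := {x | x ∈ D ∨ x * g'⁻¹ ∈ D}
        one_mem' := Or.inl (one_mem D)
        mul_mem' := fun {a b} ha hb => hclK a b ha hb
        inv_mem' := fun {a} ha => by
          have key : ∀ j : ℕ, a ^ j ∈ D ∨ a ^ j * g'⁻¹ ∈ D := by
            intro j
            induction j with
            | zero => exact Or.inl (by rw [pow_zero]; exact one_mem D)
            | succ j ih => rw [pow_succ]; exact hclK _ _ ih ha
          have := key (orderOf a - 1)
          rwa [pow_sub a (orderOf_pos a), pow_orderOf_eq_one, pow_one, one_mul] at this }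
    have hKH : K ≤ H := by
      rintro x (hx | hx)
      · exact hTH (h.DT hx)
      · have := mul_mem (hTH (h.DT hx)) hg'
        rwa [inv_mul_cancel_right] at this
    have hKT : ∀ x ∈ K, x ∈ T → x ∈ D := by
      rintro x (hx | hx) hxT
      · exact hx
      · exact absurd (by
          have := mul_mem (inv_mem (h.DT hx)) hxT
          rwa [show (x * g'⁻¹)⁻¹ * x = g' by group] at this) hg'T
    have htK : t ∉ K := fun e => h.tD (hKT t e h.tT)
    have hTsub : ∀ x ∈ H, x ∉ T → x * g'⁻¹ ∈ T := by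
      intro x hx hxT
      rw [show x * g'⁻¹ = (x * g⁻¹) * (g' * g⁻¹)⁻¹ by group]
      exact mul_mem (hout x hx hxT) (inv_mem (hout g' hg' hg'T))
    have hrel : K.relIndex H = 2 := by
      show (K.subgroupOf H).index = 2
      rw [Subgroup.index_eq_two_iff']
      refine ⟨⟨t, hTH h.tT⟩, fun e => ?_⟩
      simp only [mem_subgroupOf, Subgroup.coe_mul]
      by_cases he : e.1 ∈ K
      · exact Or.inr ⟨he, fun hc => htK (by
          have := mul_mem hc (inv_mem he)
          simpa [mul_assoc] using this)⟩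
      · refine Or.inl ⟨?_, he⟩
        by_cases heT : e.1 ∈ T
        · exact Or.inl ((h.split _ heT).resolve_left fun hh => he (Or.inl hh))
        · refine Or.inr ?_
          rw [mul_assoc]
          exact (h.split _ (hTsub e.1 e.2 heT)).resolve_left fun hh => he (Or.inr hh)
    haveI hKn : (K.subgroupOf H).Normal := normal_of_index_eq_two hrel
    let X := {u : G // u ∈ H ∧ u ∉ K ∧ u ∉ T ∧ IsConj t u}
    letI : MulAction H X :=
      { smul := fun x u => ⟨x.1 * u.1 * x.1⁻¹, mul_mem (mul_mem x.2 u.2.1) (inv_mem x.2),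
          fun hc => u.2.2.1 (by
            have := hKn.conj_mem ⟨_, mul_mem (mul_mem x.2 u.2.1) (inv_mem x.2)⟩ hc x⁻¹
            simpa [mem_subgroupOf, mul_assoc] using this),
          fun hc => u.2.2.2.1 (by
            have := hconjT x.1⁻¹ (inv_mem x.2) _ hc
            simpa [mul_assoc] using this),
          u.2.2.2.2.trans (isConj_iff.mpr ⟨x.1, rfl⟩)⟩
        one_smul := fun u => Subtype.ext (show (1 : G) * u.1 * (1 : G)⁻¹ = u.1 by group)
        mul_smul := fun x y u => Subtype.ext (show (x * y : G) * u.1 * (x * y : G)⁻¹ =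
          x * (y * u.1 * (y : G)⁻¹) * (x : G)⁻¹ by group) }
    have h4 : 4 ∣ Nat.card X := by
      refine dvd_card_of_orbits (H := H) 4 fun u => ?_
      obtain ⟨j, hj⟩ := hH2.card_orbit u
      have hu := u.2.2.2.2
      obtain ⟨c, hc⟩ := isConj_iff.mp hu
      have hu2 : u.1 * u.1 = 1 := by
        rw [← hc, show c * t * c⁻¹ * (c * t * c⁻¹) = c * (t * t) * c⁻¹ by group, h.tt]; group
      have hui : u.1⁻¹ = u.1 := inv_eq_of_mul_eq_one_right hu2
      set P : Subgroup G := H ⊓ centralizer ({u.1} : Set G) with hP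
      have hPcard : Nat.card (MulAction.orbit H u) * Nat.card P = Nat.card H := by
        have h1 := Nat.card_congr (MulAction.orbitProdStabilizerEquivGroup H u)
        rw [Nat.card_prod] at h1
        rw [← h1]
        congr 1
        exact Nat.card_congr
          { toFun := fun x => ⟨⟨x.1, x.2.1⟩, Subtype.ext (show x.1 * u.1 * x.1⁻¹ = u.1 by
              rw [mem_centralizer_singleton_iff.mp x.2.2, mul_inv_cancel_right])⟩
            invFun := fun x => ⟨x.1.1, x.1.2, mem_centralizer_singleton_iff.mpr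
              (mul_inv_eq_iff_eq_mul.mp (congrArg Subtype.val x.2))⟩
            left_inv := fun x => rfl
            right_inv := fun x => rfl }
      have hP2 : IsPGroup 2 P := hH2.to_le inf_le_left
      set P' := P.map (MulAut.conj c⁻¹).toMonoidHom with hP'
      have hP'C : P' ≤ centralizer ({t} : Set G) := by
        rintro _ ⟨x, hx, rfl⟩
        refine mem_centralizer_singleton_iff.mpr ?_
        have hx' := mem_centralizer_singleton_iff.mp hx.2
        rw [← hc] at hx'
        show c⁻¹ * x * c⁻¹⁻¹ * t = t * (c⁻¹ * x * c⁻¹⁻¹)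
        calc c⁻¹ * x * c⁻¹⁻¹ * t = c⁻¹ * (x * (c * t * c⁻¹)) * c := by group
          _ = c⁻¹ * ((c * t * c⁻¹) * x) * c := by rw [hx']
          _ = t * (c⁻¹ * x * c⁻¹⁻¹) := by group
      have hle : Nat.card P ≤ Nat.card T := by
        have := h.card_le (hP2.map _) hP'C
        rwa [card_map_of_injective (MulAut.conj c⁻¹).injective] at this
      rw [hcardH] at hPcard
      match j, hj with
      | 0, hj =>
        exfalso
        rw [hj, pow_zero, one_mul] at hPcard
        have := Nat.card_pos (α := T)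
        omega
      | j + 2, hj => rw [hj]; exact ⟨2 ^ j, by ring⟩
      | 1, hj =>
        exfalso
        rw [hj, pow_one] at hPcard
        have hPT : Nat.card P = Nat.card T := by omega
        have hy := hTsub u.1 u.2.1 u.2.2.2.1
        refine hno u.1 ?_ u.2.1 ((h.split _ hy).resolve_left fun hh => u.2.2.1 (Or.inr hh))
        have hutu : u.1 * t * u.1 = t * d := by
          have hz := hout u.1 u.2.1 u.2.2.2.1
          conv_lhs => rw [show u.1 * t * u.1 = u.1 * t * u.1⁻¹ by rw [hui]]
          rw [show u.1 * t * u.1⁻¹ = (u.1 * g⁻¹) * (g * t * g⁻¹) * (u.1 * g⁻¹)⁻¹ by group, st.gt]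
          have hc1 : ∀ w ∈ T, w * (t * d) = t * d * w := fun w hw => by
            rcases h.split w hw with h1 | h1
            · calc w * (t * d) = (w * t) * d := by group
                _ = t * (w * d) := by rw [h.comm hw]; group
                _ = t * d * w := by rw [← h.dcent w h1]; group
            · calc w * (t * d) = (t * t) * w * (t * d) := by rw [h.tt, one_mul]
                _ = t * ((t * w) * t) * d := by group
                _ = (t * t) * ((t * w) * d) := by rw [h.comm (h.DT h1)]; group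
                _ = (t * t) * (d * (t * w)) := by rw [h.dcent _ h1]
                _ = (d * t) * w := by rw [h.tt]; group
                _ = t * d * w := by rw [h.comm (h.DT h.dD)]
          rw [hc1 _ hz, mul_inv_cancel_right]
        have hPH : P.relIndex H = 2 := by
          have h1 := card_mul_index (P.subgroupOf H)
          rw [Nat.card_congr (subgroupOfEquivOfLe (inf_le_left : P ≤ H)).toEquiv, hPT, hcardH,
            mul_comm 2] at h1
          exact Nat.eq_of_mul_eq_mul_left Nat.card_pos h1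
        have htP : t ∉ P := fun e => by
          have := mem_centralizer_singleton_iff.mp e.2
          rw [← this, mul_assoc, hu2, mul_one] at hutu
          exact h.d1 (mul_eq_left.mp hutu.symm)
        -- the conjugation onto `T`
        obtain ⟨c', hc'C, hc'⟩ := h.syl P' (hP2.map _) hP'C
        have hk : ∀ x ∈ P, (c' * c⁻¹) * x * (c' * c⁻¹)⁻¹ ∈ T := fun x hx => by
          have := hc' _ (mem_map_of_mem _ hx : (MulAut.conj c⁻¹).toMonoidHom x ∈ P')
          rwa [show c' * (MulAut.conj c⁻¹).toMonoidHom x * c'⁻¹ = (c' * c⁻¹) * x * (c' * c⁻¹)⁻¹ by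
            show c' * (c⁻¹ * x * c⁻¹⁻¹) * c'⁻¹ = _
            group] at this
        set k := c' * c⁻¹ with hkdef
        have hku : k * u.1 * k⁻¹ = t := by
          rw [hkdef, ← hc, show c' * c⁻¹ * (c * t * c⁻¹) * (c' * c⁻¹)⁻¹ = c' * t * c'⁻¹ by group,
            mem_centralizer_singleton_iff.mp hc'C, mul_inv_cancel_right]
        refine ⟨u.2.2.2.1, hu2, fun x hx => ?_, hutu, hu, fun x hx => ?_, ?_⟩
        · have := hconjD u.1 u.2.1 x hx
          rwa [hui] at this
        · by_cases hxP : x ∈ P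
          · left
            rw [← mem_centralizer_singleton_iff.mp hxP.2, mul_assoc, hu2, mul_one]
          · right
            have h1 : t * x ∈ P := by
              have := Subgroup.mul_mem_iff_of_index_two (show (P.subgroupOf H).index = 2 from hPH)
                (a := (⟨t, hTH h.tT⟩ : H)) (b := (⟨x, hTH (h.DT hx)⟩ : H))
              exact this.mpr (iff_of_false htP hxP)
            have h2 := mem_centralizer_singleton_iff.mp h1.2
            have h3 : (u.1 * t * u.1) * (u.1 * x * u.1) = t * x := by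
              rw [show (u.1 * t * u.1) * (u.1 * x * u.1) = u.1 * t * (u.1 * u.1) * x * u.1 by group, hu2,
                show u.1 * t * 1 * x * u.1 = (u.1 * (t * x)) * u.1 by group, ← h2, mul_assoc, hu2, mul_one]
            rw [hutu, mul_assoc] at h3
            have h4 := mul_left_cancel h3
            calc u.1 * x * u.1 = (d * d) * (u.1 * x * u.1) := by rw [h.dd, one_mul]
              _ = d * (d * (u.1 * x * u.1)) := by group
              _ = x * d := by rw [h4, h.dcent x hx]
        · intro y hy hy2 _ _ hyu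
          have hyP : y ∈ P := ⟨hTH hy, mem_centralizer_singleton_iff.mpr hyu.symm⟩
          have hy' := hk y hyP
          have hy'2 : k * y * k⁻¹ * (k * y * k⁻¹) = 1 := by
            rw [show k * y * k⁻¹ * (k * y * k⁻¹) = k * (y * y) * k⁻¹ by group, hy2]; group
          have hty : ∀ {w : G}, w ∈ T → w * w = 1 → (w ∈ D ↔ ¬ IsConj t w) := by
            intro w hw hw2
            refine ⟨fun hD => h.not_conj_D hD hw2, fun hn => (h.split w hw).resolve_right fun h1 => hn ?_⟩
            have := h.conj_coset h1 (by rw [h.mul_t_sq hw, hw2])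
            rwa [← mul_assoc, h.tt, one_mul] at this
          have hcy : IsConj t (k * y * k⁻¹) ↔ IsConj t y :=
            ⟨fun h1 => h1.trans (isConj_iff.mpr ⟨k⁻¹, by group⟩), fun h1 => h1.trans (isConj_iff.mpr ⟨k, rfl⟩)⟩
          have hcu : IsConj t (u.1 * y) ↔ IsConj t (t * (k * y * k⁻¹)) := by
            have e : k * (u.1 * y) * k⁻¹ = t * (k * y * k⁻¹) := by
              calc k * (u.1 * y) * k⁻¹ = (k * u.1 * k⁻¹) * (k * y * k⁻¹) := by group
                _ = t * (k * y * k⁻¹) := by rw [hku]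
            exact ⟨fun h1 => h1.trans (isConj_iff.mpr ⟨k, e⟩),
              fun h1 => h1.trans (isConj_iff.mpr ⟨k⁻¹, by rw [← e]; group⟩)⟩
          rw [hty hy hy2, ← hcy, ← hty hy' hy'2, hcu]
          refine ⟨fun hD => h.conj_coset hD hy'2, fun h1 => ?_⟩
          by_contra hn
          have h5 := (h.split _ hy').resolve_left hn
          exact h.not_conj_D h5 (by rw [h.mul_t_sq hy', hy'2]) h1
    obtain ⟨q, hq⟩ := h4
    refine transfer_odd h.noncomm hKH hrel h.tt (d := o * (2 * (i + q) + 1)) (ho.mul ⟨i + q, rfl⟩) ?_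
    have hM : Nat.card {u : G // u ∈ H ∧ u ∉ K ∧ IsConj t u} = 2 * (2 * i + 1) + 4 * q := by
      rw [← hMT, ← hq, ← Nat.card_sum]
      exact Nat.card_congr
        { toFun := fun u => if hT : u.1 ∈ T then Sum.inl ⟨u.1, hT, u.2.2.2⟩
            else Sum.inr ⟨u.1, u.2.1, u.2.2.1, hT, u.2.2.2⟩
          invFun := Sum.elim (fun u => ⟨u.1, hTH u.2.1, fun hK => by
              obtain ⟨c, hc⟩ := isConj_iff.mp u.2.2
              exact h.not_conj_D (hKT _ hK u.2.1) (by
                rw [← hc, show c * t * c⁻¹ * (c * t * c⁻¹) = c * (t * t) * c⁻¹ by group, h.tt]; group)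
                u.2.2, u.2.2⟩)
            (fun u => ⟨u.1, u.2.1, u.2.2.1, u.2.2.2.2⟩)
          left_inv := fun u => by by_cases hT : u.1 ∈ T <;> simp [hT]
          right_inv := fun u => by
            rcases u with u | u
            · simp [u.2.1]
            · simp [u.2.2.2.1] }
    rw [hC, hM, hcardH]
    ring
  obtain ⟨u, eu, -, hu⟩ := hext g hgH st.notT hgg
  have htgH : t * g ∈ H := mul_mem (hTH h.tT) hgH
  have htgT : t * g ∉ T := fun e => st.notT (by
    have := mul_mem h.tT e
    rwa [← mul_assoc, h.tt, one_mul] at this)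
  have htg2 : t * g * (t * g) ∈ D := by
    rw [show t * g * (t * g) = t * (g * t * g⁻¹) * (g * g) by group, st.gt, ← mul_assoc t t, h.tt, one_mul]
    exact mul_mem h.dD hgg
  obtain ⟨u', eu', -, hu'⟩ := hext (t * g) htgH htgT htg2
  refine h.no_two_ext eu eu' (z := u⁻¹ * u' * t) ?_ (by
    calc u' = u * (u⁻¹ * u') * (t * t) := by rw [h.tt]; group
      _ = u * (u⁻¹ * u' * t) * t := by group)
  set a := t * (u * g⁻¹) with ha
  set b := t * (u' * (t * g)⁻¹) with hb
  have htb := h.comm (h.DT hu')
  have eu1 : u = t * a * g := by rw [ha, ← mul_assoc, h.tt]; group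
  have eu2 : u' = b * g := by
    calc u' = (t * t) * u' * (t * g)⁻¹ * (t * g) := by rw [h.tt]; group
      _ = t * b * t * g := by rw [hb]; group
      _ = t * (b * t) * g := by group
      _ = b * g := by rw [htb, ← mul_assoc t t, h.tt, one_mul]
  have hta : t⁻¹ = t := inv_eq_of_mul_eq_one_right h.tt
  have hginv : g⁻¹ * t * g = t * d := by
    have h1 : g * (t * d) * g⁻¹ = t := by
      rw [show g * (t * d) * g⁻¹ = (g * t * g⁻¹) * (g * d * g⁻¹) by group, st.gt, st.gd, mul_assoc,
        h.dd, mul_one]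
    exact (congrArg (fun w => g⁻¹ * w * g) h1.symm).trans (by group)
  rw [eu1, eu2]
  have e : (t * a * g)⁻¹ * (b * g) * t = (g⁻¹ * (a⁻¹ * b) * g) * d := by
    calc (t * a * g)⁻¹ * (b * g) * t = g⁻¹ * a⁻¹ * (t⁻¹ * b) * g * t := by group
      _ = g⁻¹ * a⁻¹ * (b * t) * g * t := by rw [hta, ← h.comm (h.DT hu')]
      _ = g⁻¹ * a⁻¹ * b * g * ((g⁻¹ * t * g) * t) := by group
      _ = g⁻¹ * a⁻¹ * b * g * ((d * t) * t) := by rw [hginv, h.comm (h.DT h.dD)]
      _ = g⁻¹ * (a⁻¹ * b) * g * (d * (t * t)) := by group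
      _ = g⁻¹ * (a⁻¹ * b) * g * d := by rw [h.tt, mul_one]
  rw [e]
  refine mul_mem (hiff st.normD _ ?_) h.dD
  rw [show g * (g⁻¹ * (a⁻¹ * b) * g) * g⁻¹ = a⁻¹ * b by group]
  exact mul_mem (inv_mem hu) hu'

end Dih

end CfsgLib.JankoThompson
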