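import Cfsg.Agent.Lib.JankoThompson.Transfer

/-!
An involution whose centraliser has an elementary abelian Sylow 2-subgroup `E = ⟨t⟩ × W`, with an
element of the centraliser regular on `W#`.
-/

set_option autoImplicit false

namespace CfsgLib.JankoThompson

open Subgroup

variable {G : Type*} [Group G]

/-- An element of odd order centralising `t` and regular on `W#`. -/
structure Act (t : G) (W : Subgroup G) (l : G) : Prop where
  lC : l * t = t * l
  lodd : Odd (orderOf l)
  lW : ∀ w ∈ W, l * w * l⁻¹ ∈ W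
  reg : ∀ w ∈ W, w ≠ 1 → ∀ w' ∈ W, w' ≠ 1 → ∃ j : ℕ, l ^ j * w * (l ^ j)⁻¹ = w'

/-- The standing data. -/
structure Elem (t : G) (E W : Subgroup G) (n : ℕ) : Prop where
  simple : IsSimpleGroup G
  noncomm : ¬ IsMulCommutative G
  tt : t * t = 1
  t1 : t ≠ 1
  tE : t ∈ E
  WE : W ≤ E
  tW : t ∉ W
  split : ∀ e ∈ E, e ∈ W ∨ t * e ∈ W
  sq : ∀ e ∈ E, e * e = 1
  cardW : Nat.card W = 2 ^ n
  two_le : 2 ≤ n
  syl : ∀ P : Subgroup G, IsPGroup 2 P → P ≤ centralizer ({t} : Set G) →
    ∃ c ∈ centralizer ({t} : Set G), ∀ x ∈ P, c * x * c⁻¹ ∈ E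
  act : ∃ l : G, Act t W l

variable {t : G} {E W : Subgroup G} {n : ℕ}

theorem comm_of_sq {H : Subgroup G} (h : ∀ e ∈ H, e * e = 1) {a b : G} (ha : a ∈ H) (hb : b ∈ H) :
    a * b = b * a := by
  calc a * b = a⁻¹ * b⁻¹ := by
        rw [inv_eq_of_mul_eq_one_right (h a ha), inv_eq_of_mul_eq_one_right (h b hb)]
    _ = (b * a)⁻¹ := (mul_inv_rev b a).symm
    _ = b * a := inv_eq_of_mul_eq_one_right (h _ (mul_mem hb ha))

theorem pGroup_of_sq {H : Subgroup G} (h : ∀ e ∈ H, e * e = 1) : IsPGroup 2 H :=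
  fun x => ⟨1, Subtype.ext (by simpa [pow_two] using h x.1 x.2)⟩

theorem Act.pow_comm {l : G} (a : Act t W l) (j : ℕ) : l ^ j * t = t * l ^ j :=
  (show Commute l t from a.lC).pow_left j

theorem Act.pow_W {l : G} (a : Act t W l) (j : ℕ) : ∀ w ∈ W, l ^ j * w * (l ^ j)⁻¹ ∈ W := by
  induction j with
  | zero => intro w hw; simpa using hw
  | succ j ih =>
    intro w hw
    have h := a.lW _ (ih w hw)
    rw [pow_succ']
    simpa [mul_assoc] using h

theorem Act.fix_all {l : G} (a : Act t W l) {j : ℕ} {w : G} (hw : w ∈ W) (hw1 : w ≠ 1)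
    (hfix : l ^ j * w * (l ^ j)⁻¹ = w) : ∀ w' ∈ W, l ^ j * w' * (l ^ j)⁻¹ = w' := by
  intro w' hw'
  rcases eq_or_ne w' 1 with rfl | h1
  · simp
  · obtain ⟨i, rfl⟩ := a.reg w hw hw1 w' hw' h1
    calc l ^ j * (l ^ i * w * (l ^ i)⁻¹) * (l ^ j)⁻¹
        = l ^ i * (l ^ j * w * (l ^ j)⁻¹) * (l ^ i)⁻¹ := by group
      _ = l ^ i * w * (l ^ i)⁻¹ := by rw [hfix]

/-- An element centralising `W#`-conjugation invariant sets: invariance and transitivity. -/
theorem Act.all_of_one {l : G} (a : Act t W l) {S : G → Prop}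
    (hinv : ∀ w ∈ W, S w → S (l * w * l⁻¹)) {w : G} (hw : w ∈ W) (hw1 : w ≠ 1) (hS : S w) :
    ∀ w' ∈ W, w' ≠ 1 → S w' := by
  intro w' hw' hw'1
  obtain ⟨j, rfl⟩ := a.reg w hw hw1 w' hw' hw'1
  clear hw' hw'1
  induction j with
  | zero => simpa using hS
  | succ j ih =>
    have := hinv _ (a.pow_W j w hw) ih
    rw [pow_succ']
    simpa [mul_assoc] using this

namespace Elem

variable (h : Elem t E W n)
include h

theorem E_comm {a b : G} (ha : a ∈ E) (hb : b ∈ E) : a * b = b * a := comm_of_sq h.sq ha hb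

theorem EC : E ≤ centralizer ({t} : Set G) := fun _ he =>
  mem_centralizer_singleton_iff.mpr (h.E_comm he h.tE)

theorem tmem : t ∈ centralizer ({t} : Set G) := h.EC h.tE

theorem E_two : IsPGroup 2 E := pGroup_of_sq h.sq

theorem cardE : Nat.card E = 2 ^ (n + 1) := by
  have hi : (W.subgroupOf E).index = 2 := by
    rw [Subgroup.index_eq_two_iff']
    refine ⟨⟨t, h.tE⟩, fun e => ?_⟩
    simp only [mem_subgroupOf, Subgroup.coe_mul]
    rcases h.split e.1 e.2 with he | he
    · refine Or.inr ⟨he, fun hc => h.tW ?_⟩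
      have := mul_mem hc (inv_mem he)
      simpa [mul_assoc] using this
    · refine Or.inl ⟨he, fun hc => h.tW ?_⟩
      have := mul_mem he (inv_mem hc)
      simpa [mul_assoc] using this
  have h1 := card_mul_index (W.subgroupOf E)
  rw [hi, Nat.card_congr (subgroupOfEquivOfLe h.WE).toEquiv, h.cardW] at h1
  rw [← h1, pow_succ]

variable [Finite G]

theorem card_le {P : Subgroup G} (hP : IsPGroup 2 P) (hPC : P ≤ centralizer ({t} : Set G)) :
    Nat.card P ≤ 2 ^ (n + 1) ∧ ∀ x ∈ P, x * x = 1 := by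
  obtain ⟨c, -, hc⟩ := h.syl P hP hPC
  refine ⟨h.cardE ▸ Nat.card_le_card_of_injective (fun x : P => (⟨c * x * c⁻¹, hc x.1 x.2⟩ : E))
    (fun x y hxy => Subtype.ext (by simpa using congrArg Subtype.val hxy)), fun x hx => ?_⟩
  have h1 := h.sq _ (hc x hx)
  have h2 : c * (x * x) * c⁻¹ = 1 := by rw [← h1]; group
  simpa [mul_inv_eq_one] using h2

theorem conj_card_le {u : G} (hu : IsConj t u) {P : Subgroup G} (hP : IsPGroup 2 P)
    (hPC : ∀ x ∈ P, x * u = u * x) : Nat.card P ≤ 2 ^ (n + 1) ∧ ∀ x ∈ P, x * x = 1 := by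
  obtain ⟨g, hg⟩ := isConj_iff.mp hu
  have hmap : P.map (MulAut.conj g⁻¹).toMonoidHom ≤ centralizer ({t} : Set G) := by
    rintro _ ⟨x, hx, rfl⟩
    refine mem_centralizer_singleton_iff.mpr ?_
    have := hPC x hx
    rw [← hg] at this
    show g⁻¹ * x * g⁻¹⁻¹ * t = t * (g⁻¹ * x * g⁻¹⁻¹)
    calc g⁻¹ * x * g⁻¹⁻¹ * t = g⁻¹ * (x * (g * t * g⁻¹)) * g := by group
      _ = g⁻¹ * ((g * t * g⁻¹) * x) * g := by rw [this]
      _ = t * (g⁻¹ * x * g⁻¹⁻¹) := by group
  obtain ⟨h1, h2⟩ := h.card_le (hP.map _) hmap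
  refine ⟨?_, fun x hx => ?_⟩
  · rwa [card_map_of_injective (MulAut.conj g⁻¹).injective] at h1
  · have := h2 _ (mem_map_of_mem _ hx)
    rw [← map_mul] at this
    exact (MulAut.conj g⁻¹).injective (this.trans (map_one (MulAut.conj g⁻¹).toMonoidHom).symm)

theorem eq_E {P : Subgroup G} (hP : IsPGroup 2 P) (hEP : E ≤ P)
    (hPC : P ≤ centralizer ({t} : Set G)) : P = E :=
  (eq_of_le_of_card_ge hEP (by rw [h.cardE]; exact (h.card_le hP hPC).1)).symm

variable {P₀ : Subgroup G} (hP2 : IsPGroup 2 P₀) (hEP : E < P₀)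
  (hPN : P₀ ≤ normalizer (E : Set G))
include hP2 hEP hPN

theorem moves : ∃ g ∈ P₀, g * t * g⁻¹ ≠ t := by
  by_contra hno
  push Not at hno
  refine hEP.ne' (h.eq_E hP2 hEP.le fun x hx => mem_centralizer_singleton_iff.mpr ?_)
  exact mul_inv_eq_iff_eq_mul.mp (hno x hx)

/-- The conjugates of `t` under `N(E)` are exactly the elements of `tW`. -/
theorem orbit_eq :
    (∀ w ∈ W, ∃ g ∈ normalizer (E : Set G), g * t * g⁻¹ = t * w) ∧
    ∀ g ∈ normalizer (E : Set G), (t * (g * t * g⁻¹) ∈ W ∧ ∀ w ∈ W, g * w * g⁻¹ ∈ W) := by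
  classical
  haveI : Fact (Nat.Prime 2) := ⟨Nat.prime_two⟩
  obtain ⟨l, a⟩ := h.act
  let O : G → Prop := fun u => ∃ g ∈ normalizer (E : Set G), g * t * g⁻¹ = u
  have hlN : l ∈ normalizer (E : Set G) := by
    refine mem_normalizer_fintype fun e he => ?_
    rcases h.split e he with hw | hw
    · exact h.WE (a.lW e hw)
    · have := mul_mem h.tE (h.WE (a.lW _ hw))
      have h2 : l * e * l⁻¹ = t * (l * (t * e) * l⁻¹) := by
        calc l * e * l⁻¹ = l * (t * t * e) * l⁻¹ := by rw [h.tt, one_mul]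
          _ = (l * t) * (t * e) * l⁻¹ := by group
          _ = (t * l) * (t * e) * l⁻¹ := by rw [a.lC]
          _ = t * (l * (t * e) * l⁻¹) := by group
      show l * e * l⁻¹ ∈ E
      rw [h2]; exact this
  have hOl : ∀ u, O u → O (l * u * l⁻¹) := by
    rintro _ ⟨g, hg, rfl⟩
    exact ⟨l * g, mul_mem hlN hg, by group⟩
  have hOconj : ∀ u, O u → ∀ g ∈ normalizer (E : Set G), O (g * u * g⁻¹) := by
    rintro _ ⟨g', hg', rfl⟩ g hg
    exact ⟨g * g', mul_mem hg hg', by group⟩
  have hOt : O t := ⟨1, one_mem _, by group⟩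
  have hOE : ∀ u, O u → u ∈ E := by
    rintro _ ⟨g, hg, rfl⟩
    exact (mem_normalizer_iff.mp hg t).mp h.tE
  have hO1 : ¬ O 1 := by
    rintro ⟨g, -, hg⟩
    exact h.t1 (by simpa using hg)
  -- the orbit has even size
  have heven : 2 ∣ Nat.card {u : G // O u} := by
    letI : MulAction P₀ {u : G // O u} :=
      { smul := fun p u => ⟨p * u.1 * (p : G)⁻¹, hOconj u.1 u.2 p (hPN p.2)⟩
        one_smul := fun u => Subtype.ext (show (1 : G) * u.1 * (1 : G)⁻¹ = u.1 by group)
        mul_smul := fun p q u => Subtype.ext (show (p * q : G) * u.1 * (p * q : G)⁻¹ =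
          p * (q * u.1 * (q : G)⁻¹) * (p : G)⁻¹ by group) }
    refine dvd_card_of_orbits (H := P₀) 2 fun u => ?_
    obtain ⟨k, hk⟩ := hP2.card_orbit u
    rcases Nat.eq_zero_or_pos k with rfl | hk0
    · exfalso
      rw [pow_zero, Nat.card_eq_one_iff_unique] at hk
      have hfix : ∀ p ∈ P₀, p * u.1 = u.1 * p := by
        intro p hp
        have h1 : (⟨p, hp⟩ : P₀) • u = u := congrArg Subtype.val (hk.1.elim
          ⟨_, MulAction.mem_orbit u (⟨p, hp⟩ : P₀)⟩ ⟨u, MulAction.mem_orbit_self u⟩)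
        exact mul_inv_eq_iff_eq_mul.mp (congrArg Subtype.val h1)
      obtain ⟨g, -, hg⟩ := u.2
      have := (h.conj_card_le (isConj_iff.mpr ⟨g, hg⟩) hP2 hfix).1
      rw [← h.cardE] at this
      exact hEP.ne (eq_of_le_of_card_ge hEP.le this)
    · rw [hk]; exact dvd_pow_self 2 hk0.ne'
  by_cases hA : ∃ w ∈ W, w ≠ 1 ∧ O (t * w)
  · obtain ⟨w₀, hw₀, hw₀1, hOw₀⟩ := hA
    have hall : ∀ w ∈ W, O (t * w) := by
      intro w hw
      rcases eq_or_ne w 1 with rfl | hw1
      · rwa [mul_one]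
      refine a.all_of_one (S := fun x => O (t * x)) (fun x _ hx => ?_) hw₀ hw₀1 hOw₀ w hw hw1
      have := hOl _ hx
      rwa [show l * (t * x) * l⁻¹ = t * (l * x * l⁻¹) by rw [← mul_assoc, a.lC]; group] at this
    have hnoW : ∀ w ∈ W, ¬ O w := by
      intro w hw hOw
      rcases eq_or_ne w 1 with rfl | hw1
      · exact hO1 hOw
      have hW : ∀ x ∈ W, x ≠ 1 → O x := a.all_of_one (fun x _ hx => hOl x hx) hw hw1 hOw
      have hfull : ∀ e ∈ E, e ≠ 1 → O e := by
        intro e he he1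
        rcases h.split e he with h1 | h1
        · exact hW e h1 he1
        · have := hall _ h1
          rwa [← mul_assoc, h.tt, one_mul] at this
      have e1 : Nat.card {u : G // O u} + 1 = Nat.card E := by
        haveI : Fintype G := Fintype.ofFinite G
        rw [Nat.card_eq_fintype_card, Nat.card_eq_fintype_card, Fintype.card_subtype,
          Fintype.card_subtype, ← Finset.card_insert_of_notMem
            (show (1 : G) ∉ Finset.univ.filter O by simp [hO1])]
        refine congrArg Finset.card ?_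
        ext x
        simp only [Finset.mem_insert, Finset.mem_filter, Finset.mem_univ, true_and]
        refine ⟨?_, fun hx => ?_⟩
        · rintro (rfl | hx)
          · exact one_mem E
          · exact hOE x hx
        · rcases eq_or_ne x 1 with hx1 | hx1
          · exact Or.inl hx1
          · exact Or.inr (hfull x hx hx1)
      rw [h.cardE, pow_succ] at e1
      omega
    refine ⟨hall, fun g hg => ?_⟩
    have hd : ∀ u, O u → t * u ∈ W := fun u hu =>
      (h.split u (hOE u hu)).resolve_left fun hh => hnoW u hh hu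
    refine ⟨hd _ ⟨g, hg, rfl⟩, fun w hw => ?_⟩
    have h1 := hd _ (hOconj _ hOt g hg)
    have h2 := hd _ (hOconj _ (hall w hw) g hg)
    have h3 : g * w * g⁻¹ = (t * (g * t * g⁻¹))⁻¹ * (t * (g * (t * w) * g⁻¹)) := by
      have : t⁻¹ = t := inv_eq_of_mul_eq_one_right h.tt
      rw [mul_inv_rev, this]
      calc g * w * g⁻¹ = g * t⁻¹ * g⁻¹ * (g * (t * w) * g⁻¹) := by group
        _ = (g * t * g⁻¹)⁻¹ * (g * (t * w) * g⁻¹) := by group
        _ = (g * t * g⁻¹)⁻¹ * (t * t * (g * (t * w) * g⁻¹)) := by rw [h.tt, one_mul]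
        _ = _ := by group
    rw [h3]
    exact mul_mem (inv_mem h1) h2
  · exfalso
    push Not at hA
    obtain ⟨g, hg, hne⟩ := h.moves hP2 hEP hPN
    have hgN := hPN hg
    -- the complement of the orbit in `E#` is `tW ∖ {t}`, so `W` is invariant
    have hgW : ∀ w ∈ W, g * w * g⁻¹ ∈ W := by
      intro w hw
      rcases eq_or_ne w 1 with rfl | hw1
      · simp [W.one_mem]
      have hkey : ∀ x ∈ W, x ≠ 1 → ∃ y ∈ W, g * (t * x) * g⁻¹ = t * y := by
        intro x hx hx1
        have hmem : g * (t * x) * g⁻¹ ∈ E :=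
          (mem_normalizer_iff.mp hgN _).mp (mul_mem h.tE (h.WE hx))
        rcases h.split _ hmem with h1 | h1
        · exfalso
          have hne1 : g * (t * x) * g⁻¹ ≠ 1 := fun e => h.tW (by
            have : t * x = 1 := by simpa [mul_inv_eq_one] using e
            rw [mul_eq_one_iff_eq_inv.mp this]; exact inv_mem hx)
          have hOnot : ∀ y ∈ W, y ≠ 1 → ¬ O y := fun y hy hy1 hOy => by
            have := hOconj _ (a.all_of_one (fun z _ hz => hOl z hz) hy hy1 hOy _ h1 hne1) g⁻¹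
              (inv_mem hgN)
            rw [show g⁻¹ * (g * (t * x) * g⁻¹) * g⁻¹⁻¹ = t * x by group] at this
            exact hA x hx hx1 this
          have hmem' : g * t * g⁻¹ ∈ E := (mem_normalizer_iff.mp hgN t).mp h.tE
          rcases h.split _ hmem' with h2 | h2
          · exact hOnot _ h2 (by simpa [mul_inv_eq_one] using h.t1) ⟨g, hgN, rfl⟩
          · rcases eq_or_ne (t * (g * t * g⁻¹)) 1 with h3 | h3
            · exact hne (by rw [eq_inv_of_mul_eq_one_right h3, inv_eq_of_mul_eq_one_right h.tt])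
            · refine hA _ h2 h3 ⟨g, hgN, ?_⟩
              rw [← mul_assoc, h.tt, one_mul]
        · exact ⟨_, h1, by rw [← mul_assoc t, h.tt, one_mul]⟩
      -- write `w` as a product of two elements outside the trivial one
      obtain ⟨x, hx, hx1, hxw⟩ : ∃ x ∈ W, x ≠ 1 ∧ x * w ≠ 1 := by
        by_contra hno
        push Not at hno
        have hsub : ∀ x ∈ W, x = 1 ∨ x = w := fun x hx => by
          rcases eq_or_ne x 1 with h1 | h1
          · exact Or.inl h1
          · right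
            rw [eq_inv_of_mul_eq_one_left (hno x hx h1)]
            exact inv_eq_of_mul_eq_one_right (h.sq w (h.WE hw))
        have hc : Nat.card W ≤ 2 := by
          have := Nat.card_le_card_of_injective (fun x : W => decide ((x : G) = 1))
            (fun x y hxy => by
              simp only [decide_eq_decide] at hxy
              rcases hsub x x.2 with h1 | h1 <;> rcases hsub y y.2 with h2 | h2
              · exact Subtype.ext (h1.trans h2.symm)
              · exact absurd (h2 ▸ hxy.mp h1) hw1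
              · exact absurd (h1 ▸ hxy.mpr h2) hw1
              · exact Subtype.ext (h1.trans h2.symm))
          simpa using this
        rw [h.cardW] at hc
        have : 2 ^ 2 ≤ 2 ^ n := Nat.pow_le_pow_right two_pos h.two_le
        omega
      obtain ⟨y, hy, hgy⟩ := hkey x hx hx1
      obtain ⟨y', hy', hgy'⟩ := hkey (x * w) (mul_mem hx hw) hxw
      have h1 : g * w * g⁻¹ = (g * (t * x) * g⁻¹)⁻¹ * (g * (t * (x * w)) * g⁻¹) := by group
      rw [h1, hgy, hgy', mul_inv_rev, mul_assoc, inv_mul_cancel_left]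
      exact mul_mem (inv_mem hy) hy'
    have hmem : g * t * g⁻¹ ∈ E := (mem_normalizer_iff.mp hgN t).mp h.tE
    rcases h.split _ hmem with h1 | h1
    · -- `t` cannot go into the invariant subgroup `W`
      have hbij : Function.Surjective (fun w : W => (⟨g * w * g⁻¹, hgW w.1 w.2⟩ : W)) :=
        Finite.injective_iff_surjective.mp fun x y hxy =>
          Subtype.ext (by simpa using congrArg Subtype.val hxy)
      obtain ⟨w, hw⟩ := hbij ⟨_, h1⟩
      have : (w : G) = t := by simpa using congrArg Subtype.val hw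
      exact h.tW (this ▸ w.2)
    · refine hA _ h1 (fun h3 => hne ?_) ⟨g, hgN, by rw [← mul_assoc t, h.tt, one_mul]⟩
      rw [eq_inv_of_mul_eq_one_right h3, inv_eq_of_mul_eq_one_right h.tt]

/-- No involution of `W` is conjugate to `t`. -/
theorem not_conj_W {w : G} (hw : w ∈ W) (hw1 : w ≠ 1) : ¬ IsConj t w := by
  classical
  haveI : Fact (Nat.Prime 2) := ⟨Nat.prime_two⟩
  obtain ⟨l, a⟩ := h.act
  have hN := (h.orbit_eq hP2 hEP hPN).2
  intro hc
  have hall : ∀ x ∈ W, x ≠ 1 → IsConj t x := a.all_of_one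
    (fun x _ hx => hx.trans (isConj_iff.mpr ⟨l, rfl⟩)) hw hw1 hc
  letI : MulAction P₀ W :=
    { smul := fun p u => ⟨p * u.1 * (p : G)⁻¹, (hN p.1 (hPN p.2)).2 _ u.2⟩
      one_smul := fun u => Subtype.ext (show (1 : G) * u.1 * (1 : G)⁻¹ = u.1 by group)
      mul_smul := fun p q u => Subtype.ext (show (p * q : G) * u.1 * (p * q : G)⁻¹ =
        p * (q * u.1 * (q : G)⁻¹) * (p : G)⁻¹ by group) }
  have h1fix : (1 : W) ∈ MulAction.fixedPoints P₀ W := fun p =>
    Subtype.ext (show (p : G) * 1 * (p : G)⁻¹ = 1 by group)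
  obtain ⟨v, hv, hv1⟩ : ∃ v ∈ MulAction.fixedPoints P₀ W, (1 : W) ≠ v :=
    hP2.exists_fixed_point_of_prime_dvd_card_of_fixed_point W (by
      rw [h.cardW]; exact dvd_pow_self 2 (by have := h.two_le; omega)) h1fix
  have hfix : ∀ p ∈ P₀, p * (v : G) = v * p := fun p hp =>
    mul_inv_eq_iff_eq_mul.mp (congrArg Subtype.val (hv ⟨p, hp⟩))
  have := (h.conj_card_le (hall v v.2 (fun e => hv1 (Subtype.ext e.symm))) hP2 hfix).1
  rw [← h.cardE] at this
  exact hEP.ne (eq_of_le_of_card_ge hEP.le this)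

end Elem

end CfsgLib.JankoThompson
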