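import Cfsg.Agent.Lib.JankoThompson.D8
import Cfsg.Agent.Lib.JankoThompson.NoAffine

/-!
The group `E` is a Sylow 2-subgroup.
-/

set_option autoImplicit false

namespace CfsgLib.JankoThompson

open Subgroup

universe u v

variable {G : Type u} [Group G] [Finite G] {t : G} {E W R Q : Subgroup G} {n m : ℕ} {l : G}
  {F : Type v} [Field F] [Fintype F]

/-- `W` as the additive group of a field, `l` a multiplication, normalised by the stabiliser. -/
structure Model (t : G) (W : Subgroup G) (l : G) (F : Type v) [Field F] : Prop where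
  field : ∃ (φ : W ≃ F) (a : F), (∀ x y, φ (x * y) = φ x + φ y) ∧
    ∀ (w : W) (hw : l * w.1 * l⁻¹ ∈ W), φ ⟨l * w.1 * l⁻¹, hw⟩ = a * φ w
  norm : ∀ x : G, x * t = t * x → (∀ w ∈ W, x * w * x⁻¹ ∈ W) → ∃ k : ℕ,
    ∀ w ∈ W, x * (l * (x⁻¹ * w * x) * l⁻¹) * x⁻¹ = l ^ k * w * (l ^ k)⁻¹

namespace Top

/-- A field of at least sixteen elements is impossible. -/
theorem no_four (T : Top t E W R Q n m l) (hn : 4 ≤ n) {l₀ : G} (a₀ : Act t W l₀)
    (hl : ∀ w ∈ W, l * w * l⁻¹ = l₀ * w * l₀⁻¹) (M : Model t W l₀ F)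
    (hB : ∀ w ∈ W, ∃ g ∈ NW R W, cval t m g = w) : False := by
  classical
  obtain ⟨φ, a, hadd, hmulφ⟩ := M.field
  letI : MulAction (NW R W) W := T.action
  have hact : ∀ (g : NW R W) (w : W), ((g • w : W) : G) = tr t m g.1 w.1 := fun _ _ => rfl
  let ρ : NW R W →* Equiv.Perm F := φ.permCongrHom.toMonoidHom.comp (MulAction.toPermHom (NW R W) W)
  have hρ : ∀ (g : NW R W) (x : F), ρ g x = φ (g • φ.symm x) := fun _ _ => rfl
  have hone : φ 1 = 0 := by
    have := hadd 1 1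
    rw [one_mul] at this
    simpa using this
  have hone' : φ.symm 0 = 1 := by rw [← hone, Equiv.symm_apply_apply]
  have hsymm : ∀ x y : F, φ.symm (x + y) = φ.symm x * φ.symm y := fun x y =>
    φ.injective (by rw [hadd, Equiv.apply_symm_apply, Equiv.apply_symm_apply, Equiv.apply_symm_apply])
  have hzero : ∀ g : NW R W, ρ g 0 = φ ⟨cval t m g.1, T.c_mem g.2⟩ := fun g => by
    rw [hρ, hone']
    congr 1
    apply Subtype.ext
    rw [hact]
    unfold tr
    simp
  let Lc : NW R W → W → W := fun g w => ⟨g.1 * w.1 * g.1⁻¹, NW_conj g.2 w.1 w.2⟩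
  have hval : ∀ (g : NW R W) (x : F), ρ g x = φ (Lc g (φ.symm x)) + ρ g 0 := fun g x => by
    rw [hzero, hρ, ← hadd]
    congr 1
    apply Subtype.ext
    rw [hact]
    exact T.W_comm (T.c_mem g.2) (NW_conj g.2 _ (φ.symm x).2)
  have hLadd : ∀ (g : NW R W) (v w : W), Lc g (v * w) = Lc g v * Lc g w := fun g v w => Subtype.ext (by
    show g.1 * (v.1 * w.1) * g.1⁻¹ = g.1 * v.1 * g.1⁻¹ * (g.1 * w.1 * g.1⁻¹)
    group)
  have htwo : ∀ x : F, x + x = 0 := fun x => by
    rw [← φ.apply_symm_apply x, ← hadd, ← hone]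
    exact congrArg φ (Subtype.ext (T.W_sq (φ.symm x).2))
  -- powers of the multiplication
  have hpow : ∀ (j : ℕ) (w : W), φ ⟨l₀ ^ j * w.1 * (l₀ ^ j)⁻¹, a₀.pow_W j w.1 w.2⟩ = a ^ j * φ w := by
    intro j
    induction j with
    | zero =>
      intro w
      refine Eq.trans (congrArg φ (Subtype.ext ?_)) ((one_mul (φ w)).symm.trans (congrArg (· * φ w) (pow_zero a).symm))
      show l₀ ^ 0 * w.1 * (l₀ ^ 0)⁻¹ = w.1
      simp
    | succ j ih =>
      intro w
      refine Eq.trans (congrArg φ (Subtype.ext (a2 := ⟨l₀ * (l₀ ^ j * w.1 * (l₀ ^ j)⁻¹) * l₀⁻¹,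
        a₀.lW _ (a₀.pow_W j w.1 w.2)⟩) ?_)) ?_
      · show l₀ ^ (j + 1) * w.1 * (l₀ ^ (j + 1))⁻¹ = l₀ * (l₀ ^ j * w.1 * (l₀ ^ j)⁻¹) * l₀⁻¹
        rw [pow_succ']
        group
      · rw [hmulφ ⟨_, a₀.pow_W j w.1 w.2⟩ (a₀.lW _ (a₀.pow_W j w.1 w.2)), ih w, pow_succ', mul_assoc]
  have hgen : ∀ c : F, c ≠ 0 → ∃ j : ℕ, a ^ j = c := by
    intro c hc
    have hne : ∀ x : F, x ≠ 0 → (φ.symm x : G) ≠ 1 := fun x hx e => hx (by
      rw [← φ.apply_symm_apply x, show φ.symm x = 1 from Subtype.ext e, hone])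
    obtain ⟨j, hj⟩ := a₀.reg _ (φ.symm 1).2 (hne 1 one_ne_zero) _ (φ.symm c).2 (hne c hc)
    refine ⟨j, ?_⟩
    have := hpow j (φ.symm 1)
    rw [φ.apply_symm_apply, mul_one] at this
    rw [← this, ← φ.apply_symm_apply c]
    exact congrArg φ (Subtype.ext hj)
  -- `l` and `l₀` agree on `W`
  have hlp : ∀ (j : ℕ), ∀ w ∈ W, l ^ j * w * (l ^ j)⁻¹ = l₀ ^ j * w * (l₀ ^ j)⁻¹ := by
    intro j
    induction j with
    | zero => intro w _; simp
    | succ j ih =>
      intro w hw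
      calc l ^ (j + 1) * w * (l ^ (j + 1))⁻¹ = l * (l ^ j * w * (l ^ j)⁻¹) * l⁻¹ := by rw [pow_succ']; group
        _ = l₀ * (l ^ j * w * (l ^ j)⁻¹) * l₀⁻¹ := hl _ (T.str.act.pow_W j w hw)
        _ = l₀ * (l₀ ^ j * w * (l₀ ^ j)⁻¹) * l₀⁻¹ := by rw [ih w hw]
        _ = l₀ ^ (j + 1) * w * (l₀ ^ (j + 1))⁻¹ := by rw [pow_succ']; group
  have hcard : Fintype.card F = 2 ^ n := by
    rw [← Nat.card_eq_fintype_card, ← Nat.card_congr φ, T.elem.cardW]
  refine no_affine n hcard hn ρ.range ?_ ?_ ?_ ?_ ?_ ?_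
  · rintro _ ⟨g, rfl⟩ x y
    rw [hval g (x + y), hval g x, hval g y, hsymm, hLadd, hadd]
    abel
  · rintro _ ⟨g, rfl⟩ hx
    have hfix : ∀ w ∈ W, g.1 * w * g.1⁻¹ = w := by
      intro w hw
      have h1 := (hval g (φ ⟨w, hw⟩)).symm.trans (hx (φ ⟨w, hw⟩))
      rw [φ.symm_apply_apply] at h1
      exact congrArg Subtype.val (φ.injective (add_right_cancel h1) : Lc g ⟨w, hw⟩ = ⟨w, hw⟩)
    refine Equiv.ext fun x => ?_
    rw [hρ]
    show φ (g • φ.symm x) = x
    conv_rhs => rw [← φ.apply_symm_apply x]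
    refine congrArg φ (Subtype.ext ?_)
    rw [hact]
    unfold tr
    rw [T.c_eq_one_of_centralizer g.2 hfix, hfix _ (φ.symm x).2, one_mul]
  · intro x
    obtain ⟨g, hg, hgx⟩ := hB _ (φ.symm x).2
    refine ⟨ρ ⟨g, hg⟩, ⟨_, rfl⟩, ?_⟩
    rw [hzero, show (⟨cval t m g, T.c_mem hg⟩ : W) = φ.symm x from Subtype.ext hgx, φ.apply_symm_apply]
  · intro c hc
    obtain ⟨j, rfl⟩ := hgen c hc
    have hlj : l ^ j ∈ NW R W := pow_mem (T.str.l_mem T.elem) j
    refine ⟨ρ ⟨l ^ j, hlj⟩, ⟨_, rfl⟩, fun x => ?_⟩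
    conv_rhs => rw [← φ.apply_symm_apply x, ← hpow j (φ.symm x)]
    rw [hρ]
    refine congrArg φ (Subtype.ext ?_)
    rw [hact]
    unfold tr
    rw [T.c_of_comm (T.str.act.pow_comm j), one_mul, hlp j _ (φ.symm x).2]
  · rintro _ ⟨g, rfl⟩ h0
    rw [hzero] at h0
    have hc : cval t m g.1 = 1 := congrArg Subtype.val
      (φ.injective (h0.trans hone.symm) : (⟨cval t m g.1, T.c_mem g.2⟩ : W) = 1)
    have hz : ρ g 0 = 0 := by
      rw [hzero, show (⟨cval t m g.1, T.c_mem g.2⟩ : W) = 1 from Subtype.ext hc, hone]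
    let S : F → F := fun x => φ (Lc g (φ.symm x))
    have hS : ∀ x, ρ g x = S x := fun x => by rw [hval g x, hz, add_zero]
    have hSadd : ∀ x y, S (x + y) = S x + S y := fun x y => by
      show φ (Lc g (φ.symm (x + y))) = _
      rw [hsymm, hLadd, hadd]
    have hSinj : Function.Injective S := fun x y hxy => (ρ g).injective (by rw [hS, hS, hxy])
    have hS0 : S 0 = 0 := by rw [← hS, hz]
    obtain ⟨x, hxt, hxW, -⟩ := T.exists_fix_elt g.2 hc
    obtain ⟨k, hk⟩ := M.norm x hxt fun w hw => by rw [hxW w hw]; exact NW_conj g.2 w hw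
    have hsemi1 : ∀ y, S (a * y) = a ^ k * S y := by
      intro y
      show φ (Lc g (φ.symm (a * y))) = a ^ k * φ (Lc g (φ.symm y))
      rw [← hpow k]
      refine congrArg φ (Subtype.ext ?_)
      show g.1 * (φ.symm (a * y) : W).1 * g.1⁻¹ = l₀ ^ k * (g.1 * (φ.symm y).1 * g.1⁻¹) * (l₀ ^ k)⁻¹
      have e : φ.symm (a * y) = ⟨l₀ * (φ.symm y).1 * l₀⁻¹, a₀.lW _ (φ.symm y).2⟩ :=
        φ.injective (by rw [φ.apply_symm_apply, hmulφ, φ.apply_symm_apply])
      rw [e, ← hk _ (NW_conj g.2 _ (φ.symm y).2), ← hxW _ (a₀.lW _ (φ.symm y).2), ← hxW _ (φ.symm y).2]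
      group
    have hsemi : ∀ (j : ℕ) (y : F), S (a ^ j * y) = (a ^ k) ^ j * S y := by
      intro j
      induction j with
      | zero => intro y; simp
      | succ j ih =>
        intro y
        rw [pow_succ' a, mul_assoc, hsemi1, ih, pow_succ' (a ^ k)]
        ring
    have hS1 : S 1 ≠ 0 := fun e => one_ne_zero (hSinj (e.trans hS0.symm))
    have hmul : ∀ c y, S (c * y) * S 1 = S c * S y := by
      intro c y
      rcases eq_or_ne c 0 with rfl | hc0
      · rw [zero_mul, hS0, zero_mul, zero_mul]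
      · obtain ⟨j, rfl⟩ := hgen c hc0
        have h1 := hsemi j 1
        rw [mul_one] at h1
        rw [hsemi, h1]
        ring
    let τ : F →+* F :=
      { toFun := fun y => S y / S 1
        map_one' := div_self hS1
        map_zero' := by rw [hS0, zero_div]
        map_add' := fun y z => by rw [hSadd, add_div]
        map_mul' := fun y z => by
          have := hmul y z
          field_simp
          linear_combination this }
    refine ⟨S 1, RingEquiv.ofBijective τ (Finite.injective_iff_bijective.mp τ.injective), fun y => ?_⟩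
    rw [hS]
    show S y = S 1 * (S y / S 1)
    field_simp
  · rintro _ ⟨g, rfl⟩ h0 hgg
    rw [hzero] at h0
    have hc : cval t m g.1 = 1 := congrArg Subtype.val
      (φ.injective (h0.trans hone.symm) : (⟨cval t m g.1, T.c_mem g.2⟩ : W) = 1)
    obtain ⟨d, hd, hdW⟩ := T.odd_stab g.2 hc
    have h1 : ρ g ^ d = 1 := by
      rw [← map_pow]
      refine Equiv.ext fun x => ?_
      rw [hρ]
      show φ ((g ^ d) • φ.symm x) = x
      conv_rhs => rw [← φ.apply_symm_apply x]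
      refine congrArg φ (Subtype.ext ?_)
      rw [hact]
      unfold tr
      have hgd : (g ^ d).1 = g.1 ^ d := by simp
      rw [T.c_eq_one_of_centralizer (g ^ d).2 (by rw [hgd]; exact hdW), hgd, hdW _ (φ.symm x).2, one_mul]
    obtain ⟨i, rfl⟩ := hd
    rwa [pow_succ, pow_mul, pow_two, hgg, one_pow, one_mul] at h1

end Top

/-- No 2-subgroup of `N(E)` is larger than `E`. -/
theorem Elem.eq_E_of_normalizer (h : Elem t E W n) (a : Act t W l) (hM : 4 ≤ n → Model t W l F)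
    {P₀ : Subgroup G} (hP2 : IsPGroup 2 P₀) (hEP : E ≤ P₀) (hPN : P₀ ≤ normalizer (E : Set G)) :
    P₀ = E := by
  by_contra hne
  have hlt : E < P₀ := lt_of_le_of_ne hEP (Ne.symm hne)
  obtain ⟨R, Q, m, l₁, T, hl⟩ := exists_top h a hP2 hlt hPN
  rcases T.dichotomy with hA | hB
  · exact T.no_trivial hP2 hlt hPN hA
  · have := h.two_le
    by_cases h2 : n = 2
    · exact T.no_two h2 hB
    by_cases h3 : n = 3
    · exact T.no_three h3 hB
    · exact T.no_four (by omega) a hl (hM (by omega)) hB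

/-- Hence `E` is contained in no larger 2-subgroup. -/
theorem Elem.eq_E_of_le (h : Elem t E W n) (a : Act t W l) (hM : 4 ≤ n → Model t W l F)
    {P : Subgroup G} (hP : IsPGroup 2 P) (hEP : E ≤ P) : P = E := by
  haveI : Fact (Nat.Prime 2) := ⟨Nat.prime_two⟩
  by_contra hne
  haveI := hP.isNilpotent
  have hlt : E.subgroupOf P < ⊤ := by
    refine lt_top_iff_ne_top.mpr fun e => hne (le_antisymm (fun x hx => ?_) hEP)
    exact mem_subgroupOf.mp (show (⟨x, hx⟩ : P) ∈ E.subgroupOf P from e ▸ mem_top _)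
  obtain ⟨x, hxN, hxE⟩ := SetLike.exists_of_lt (normalizerCondition_of_isNilpotent _ hlt)
  have hxN' : (x : G) ∈ normalizer (E : Set G) := mem_normalizer_fintype fun r hr =>
    mem_subgroupOf.mp ((mem_normalizer_iff.mp hxN ⟨r, hEP hr⟩).mp hr)
  have := h.eq_E_of_normalizer a hM (P₀ := P ⊓ normalizer (E : Set G)) (hP.to_le inf_le_left)
    (le_inf hEP le_normalizer) inf_le_right
  exact hxE (show (x : G) ∈ E from this ▸ ⟨x.2, hxN'⟩)

end CfsgLib.JankoThompson
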