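import Cfsg.Agent.Lib.JankoThompson.Frame
import Cfsg.Agent.Lib.JankoThompson.Main
import Cfsg.Agent.Lib.Balance.BorelSL2

/-!
The even case: `Z₂ × PSL₂(2ⁿ)`.
-/

set_option autoImplicit false

namespace CfsgLib.JankoThompson

open Subgroup Matrix

theorem zmod2_sq : ∀ a : Multiplicative (ZMod 2), a * a = 1 := by decide

variable {F : Type*} [Field F] [Fintype F] [CharP F 2]

/-- The upper transvections in `PSL₂`. -/
def upperPS (F : Type*) [Field F] :
    Multiplicative F →* Matrix.ProjectiveSpecialLinearGroup (Fin 2) F :=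
  (QuotientGroup.mk' (Subgroup.center (SpecialLinearGroup (Fin 2) F))).comp (Balance.upperHom F)

omit [Fintype F] in
theorem mkPS_injective : Function.Injective
    (QuotientGroup.mk' (Subgroup.center (SpecialLinearGroup (Fin 2) F))) :=
  (MonoidHom.ker_eq_bot_iff _).mp (by rw [QuotientGroup.ker_mk', Recog.center_sl2_eq_bot F])

omit [Fintype F] in
theorem upperPS_injective : Function.Injective (upperPS F) := fun a b hab => by
  have h := congrArg (fun A : SpecialLinearGroup (Fin 2) F => (A : Matrix (Fin 2) (Fin 2) F) 0 1)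
    (mkPS_injective hab)
  simpa [Balance.upperHom_coe] using h

omit [Fintype F] in
/-- An element mapping one nontrivial transvection to an upper one acts by multiplications. -/
theorem upper_mul_of_normalizes (g : Matrix.ProjectiveSpecialLinearGroup (Fin 2) F)
    (hg : g * upperPS F (Multiplicative.ofAdd 1) * g⁻¹ ∈ (upperPS F).range) :
    ∃ m : F, m ≠ 0 ∧ ∀ x : F, g * upperPS F (Multiplicative.ofAdd x) * g⁻¹ =
      upperPS F (Multiplicative.ofAdd (m * x)) := by
  obtain ⟨M, rfl⟩ := QuotientGroup.mk'_surjective (Subgroup.center (SpecialLinearGroup (Fin 2) F)) g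
  obtain ⟨c, hc⟩ := hg
  have hc' : Balance.upperHom F c * M = M * Balance.upperHom F (Multiplicative.ofAdd 1) := by
    have := mkPS_injective (a₁ := Balance.upperHom F c)
      (a₂ := M * Balance.upperHom F (Multiplicative.ofAdd 1) * M⁻¹) (hc.trans (by simp [upperPS]))
    rw [this, inv_mul_cancel_right]
  have h10 : (M : Matrix (Fin 2) (Fin 2) F) 1 0 = 0 := by
    have := congrArg (fun A : SpecialLinearGroup (Fin 2) F => (A : Matrix (Fin 2) (Fin 2) F) 1 1) hc'
    simpa [Matrix.SpecialLinearGroup.coe_mul, Balance.upperHom_coe, Matrix.mul_apply, Fin.sum_univ_two] using this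
  have hdet : (M : Matrix (Fin 2) (Fin 2) F) 0 0 * (M : Matrix (Fin 2) (Fin 2) F) 1 1 = 1 := by
    have := M.2
    rw [Matrix.det_fin_two, h10, mul_zero, sub_zero] at this
    exact this
  refine ⟨(M : Matrix (Fin 2) (Fin 2) F) 0 0 * (M : Matrix (Fin 2) (Fin 2) F) 0 0,
    mul_ne_zero (left_ne_zero_of_mul_eq_one hdet) (left_ne_zero_of_mul_eq_one hdet), fun x => ?_⟩
  rw [mul_inv_eq_iff_eq_mul]
  show QuotientGroup.mk' _ M * QuotientGroup.mk' _ (Balance.upperHom F _) =
    QuotientGroup.mk' _ (Balance.upperHom F _) * QuotientGroup.mk' _ M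
  rw [← map_mul, ← map_mul]
  congr 1
  refine Matrix.SpecialLinearGroup.ext _ _ fun i k => ?_
  rw [Matrix.SpecialLinearGroup.coe_mul, Matrix.SpecialLinearGroup.coe_mul, Balance.upperHom_coe, Balance.upperHom_coe]
  fin_cases i <;> fin_cases k <;>
    simp [Matrix.mul_apply, Fin.sum_univ_two, h10] <;>
    linear_combination (-(x * (M : Matrix (Fin 2) (Fin 2) F) 0 0)) * hdet

theorem exists_torus (a : F) (ha : a ≠ 0) :
    ∃ g : Matrix.ProjectiveSpecialLinearGroup (Fin 2) F, ∀ x : F,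
      g * upperPS F (Multiplicative.ofAdd x) * g⁻¹ = upperPS F (Multiplicative.ofAdd (a * x)) := by
  obtain ⟨b, rfl⟩ := (FiniteField.isSquare_of_char_two ((ringChar.eq_iff).mpr inferInstance) a).imp fun _ h => h
  have hb : b ≠ 0 := fun e => ha (by rw [e, mul_zero])
  let M : SpecialLinearGroup (Fin 2) F := ⟨!![b, 0; 0, b⁻¹], by simp [Matrix.det_fin_two, hb]⟩
  have hM : (M : Matrix (Fin 2) (Fin 2) F) = !![b, 0; 0, b⁻¹] := rfl
  refine ⟨QuotientGroup.mk' _ M, fun x => ?_⟩
  rw [mul_inv_eq_iff_eq_mul]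
  show QuotientGroup.mk' _ _ * QuotientGroup.mk' _ (Balance.upperHom F _) =
    QuotientGroup.mk' _ (Balance.upperHom F _) * QuotientGroup.mk' _ _
  rw [← map_mul, ← map_mul]
  congr 1
  refine Matrix.SpecialLinearGroup.ext _ _ fun i k => ?_
  rw [Matrix.SpecialLinearGroup.coe_mul, Matrix.SpecialLinearGroup.coe_mul, Balance.upperHom_coe, Balance.upperHom_coe]
  fin_cases i <;> fin_cases k <;> simp [Matrix.mul_apply, Fin.sum_univ_two, hM] <;> field_simp

variable {G : Type*} [Group G] [Finite G]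

theorem even_elem (hsim : IsSimpleGroup G) (hG : ¬ IsMulCommutative G) {t : G} (ht : t * t = 1)
    (ht1 : t ≠ 1) (hq : 3 < Fintype.card F)
    {P : Subgroup (Matrix.ProjectiveSpecialLinearGroup (Fin 2) F)} (hP : P = (upperPS F).range)
    {j : Multiplicative (ZMod 2) × P →* G} (Fr : Frame t P j) :
    ∃ (E W : Subgroup G) (n : ℕ) (l : G), Elem t E W n ∧ Act t W l ∧ Model t W l F := by
  classical
  subst hP
  obtain ⟨⟨n, hn⟩, hp2, hcard⟩ := FiniteField.card F 2
  simp only [PNat.mk_coe] at hcard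
  have hn2 : 2 ≤ n := by
    by_contra hlt
    have : n = 1 := by omega
    rw [this] at hcard
    omega
  let u : F → (upperPS F).range := fun x => ⟨upperPS F (Multiplicative.ofAdd x), _, rfl⟩
  have hu : Function.Bijective u := by
    refine ⟨fun x y h => ?_, ?_⟩
    · exact Multiplicative.ofAdd.injective (upperPS_injective (congrArg Subtype.val h))
    · rintro ⟨_, c, rfl⟩
      exact ⟨Multiplicative.toAdd c, rfl⟩
  have humul : ∀ x y, u (x + y) = u x * u y := fun x y => Subtype.ext (by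
    show upperPS F (Multiplicative.ofAdd (x + y)) = _
    rw [ofAdd_add, map_mul]
    rfl)
  have hu0 : u 0 = 1 := Subtype.ext (by show upperPS F 1 = 1; rw [map_one])
  have hzz : ∀ a : Multiplicative (ZMod 2), a = 1 ∨ a = zgen := fun a => by
    rcases eq_or_ne a 1 with h | h
    · exact Or.inl h
    · exact Or.inr (eq_zgen a h)
  let ι : (upperPS F).range →* G := j.comp (MonoidHom.inr _ _)
  have hι : ∀ p, ι p = j (1, p) := fun _ => rfl
  have hιinj : Function.Injective ι := fun p q h => congrArg Prod.snd (Fr.inj h)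
  have hjt : ∀ p, j (zgen, p) = t * j (1, p) := fun p => by
    rw [← Fr.jz, ← map_mul]; simp
  have hjsq : ∀ p, j p * j p = 1 := by
    rintro ⟨a, p⟩
    obtain ⟨x, rfl⟩ := hu.2 p
    rw [← map_mul, show ((a, u x) : Multiplicative (ZMod 2) × (upperPS F).range) * (a, u x) = 1 from
      Prod.ext (zmod2_sq a)
        (by rw [Prod.snd_mul, ← humul, CharTwo.add_self_eq_zero, hu0]; rfl), map_one]
  -- a generator and its lift
  obtain ⟨g0, hg0⟩ := IsCyclic.exists_monoid_generator (α := Fˣ)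
  obtain ⟨τ, hτ⟩ := exists_torus (g0 : F) g0.ne_zero
  have hτN : ∀ p ∈ (upperPS F).range, τ * p * τ⁻¹ ∈ (upperPS F).range := by
    rintro _ ⟨c, rfl⟩
    exact ⟨_, (hτ (Multiplicative.toAdd c)).symm⟩
  obtain ⟨c, hct, hc⟩ := Fr.normalise τ hτN
  have hpow : ∀ (i : ℕ) (a : Multiplicative (ZMod 2)) (x : F),
      c ^ i * j (a, u x) * (c ^ i)⁻¹ = j (a, u ((g0 : F) ^ i * x)) := by
    intro i
    induction i with
    | zero => intro a x; simp
    | succ i ih =>
      intro a x
      calc c ^ (i + 1) * j (a, u x) * (c ^ (i + 1))⁻¹ = c * (c ^ i * j (a, u x) * (c ^ i)⁻¹) * c⁻¹ := by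
            rw [pow_succ']; group
        _ = j (a, u ((g0 : F) ^ (i + 1) * x)) := by
          rw [ih, hc]
          congr 2
          refine Subtype.ext ((hτ _).trans ?_)
          rw [← mul_assoc, ← pow_succ']
  set b := (orderOf c).factorization 2 with hb
  set l := c ^ 2 ^ b with hl
  have hlodd : Odd (orderOf l) := by
    rw [hl, orderOf_pow' c (by positivity), Nat.gcd_eq_right (Nat.ordProj_dvd _ 2),
      ← Nat.not_even_iff_odd, even_iff_two_dvd]
    exact Nat.not_dvd_ordCompl Nat.prime_two (orderOf_pos c).ne'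
  have hgenb : ∀ m : Fˣ, ∃ i : ℕ, (g0 ^ 2 ^ b) ^ i = m := by
    intro m
    have hco : (2 ^ b).Coprime (orderOf g0) := by
      refine Nat.Coprime.pow_left _ (Nat.prime_two.coprime_iff_not_dvd.mpr fun hd => ?_)
      have h1 := hd.trans (orderOf_dvd_natCard g0)
      rw [Nat.card_units, Nat.card_eq_fintype_card, hcard] at h1
      have : 2 ∣ 2 ^ n := dvd_pow_self 2 (by omega)
      have : 1 ≤ 2 ^ n := Nat.one_le_two_pow
      omega
    obtain ⟨k, hk⟩ := exists_pow_eq_self_of_coprime hco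
    obtain ⟨i, hi⟩ := Submonoid.mem_powers_iff _ _ |>.mp (hg0 m)
    exact ⟨k * i, by rw [pow_mul, hk, hi]⟩
  have hlpow : ∀ (i : ℕ) (a : Multiplicative (ZMod 2)) (x : F),
      l ^ i * j (a, u x) * (l ^ i)⁻¹ = j (a, u ((((g0 ^ 2 ^ b) ^ i : Fˣ) : F) * x)) := fun i a x => by
    rw [hl, ← pow_mul, hpow, ← pow_mul, Units.val_pow_eq_pow_val]
  have hl1 : ∀ (a : Multiplicative (ZMod 2)) (x : F),
      l * j (a, u x) * l⁻¹ = j (a, u (((g0 ^ 2 ^ b : Fˣ) : F) * x)) := fun a x => by
    simpa using hlpow 1 a x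
  have hmemW : ∀ w ∈ ι.range, ∃ x, w = j (1, u x) := by
    rintro _ ⟨p, rfl⟩
    obtain ⟨x, rfl⟩ := hu.2 p
    exact ⟨x, rfl⟩
  have act : Act t ι.range l :=
    { lC := by rw [hl]; exact (show Commute c t from hct).pow_left _
      lodd := hlodd
      lW := fun w hw => by
        obtain ⟨x, rfl⟩ := hmemW w hw
        rw [hl1]; exact ⟨_, rfl⟩
      reg := fun w hw hw1 w' hw' hw'1 => by
        obtain ⟨x, rfl⟩ := hmemW w hw
        obtain ⟨y, rfl⟩ := hmemW w' hw'
        have hx0 : x ≠ 0 := fun e => hw1 (by rw [e, hu0]; exact map_one j)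
        have hy0 : y ≠ 0 := fun e => hw'1 (by rw [e, hu0]; exact map_one j)
        obtain ⟨i, hi⟩ := hgenb (Units.mk0 (y / x) (div_ne_zero hy0 hx0))
        refine ⟨i, ?_⟩
        rw [hlpow, hi, Units.val_mk0, div_mul_cancel₀ y hx0] }
  have elem : Elem t j.range ι.range n :=
    { simple := hsim
      noncomm := hG
      tt := ht
      t1 := ht1
      tE := ⟨_, Fr.jz⟩
      WE := by rintro _ ⟨p, rfl⟩; exact ⟨_, rfl⟩
      tW := by
        rintro ⟨p, hp⟩
        have h := congrArg Prod.fst (Fr.inj (hp.trans Fr.jz.symm))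
        exact absurd h (show (1 : Multiplicative (ZMod 2)) ≠ zgen by decide)
      split := by
        rintro _ ⟨⟨a, p⟩, rfl⟩
        rcases hzz a with rfl | rfl
        · exact Or.inl ⟨p, rfl⟩
        · exact Or.inr ⟨p, by rw [hι, hjt, ← mul_assoc, ht, one_mul]⟩
      sq := by rintro _ ⟨p, rfl⟩; exact hjsq p
      cardW := by
        rw [← Nat.card_congr (MonoidHom.ofInjective hιinj).toEquiv,
          ← Nat.card_congr (Equiv.ofBijective u hu), Nat.card_eq_fintype_card, hcard]
      two_le := hn2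
      syl := fun R hR hRC => by
        obtain ⟨c', hc', h'⟩ := Fr.syl R hR hRC
        exact ⟨c', hc', h'⟩
      act := ⟨l, act⟩ }
  refine ⟨j.range, ι.range, n, l, elem, act, ?_, ?_⟩
  · let φ₀ : F ≃ ι.range := (Equiv.ofBijective u hu).trans (MonoidHom.ofInjective hιinj).toEquiv
    refine ⟨φ₀.symm, ((g0 ^ 2 ^ b : Fˣ) : F), fun x y => ?_, fun w hw => ?_⟩
    · apply φ₀.injective
      rw [φ₀.apply_symm_apply]
      apply Subtype.ext
      show _ = ι (u (φ₀.symm x + φ₀.symm y))
      rw [humul, map_mul]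
      show x.1 * y.1 = _
      rw [show ι (u (φ₀.symm x)) = x.1 from congrArg Subtype.val (φ₀.apply_symm_apply x),
        show ι (u (φ₀.symm y)) = y.1 from congrArg Subtype.val (φ₀.apply_symm_apply y)]
    · apply φ₀.injective
      rw [φ₀.apply_symm_apply]
      apply Subtype.ext
      show l * w.1 * l⁻¹ = ι (u (_ * φ₀.symm w))
      rw [hι, ← hl1, show j (1, u (φ₀.symm w)) = w.1 from congrArg Subtype.val (φ₀.apply_symm_apply w)]
  · intro x hxt hxW
    have hx : ∀ p, ∃ p', x * j (1, p) * x⁻¹ = j (1, p') := fun p => by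
      obtain ⟨p', hp'⟩ := hxW (ι p) ⟨p, rfl⟩
      exact ⟨p', hp'.symm⟩
    choose f hf using hx
    have hfinj : Function.Injective f := fun p q hpq => by
      have h1 := hf p
      rw [hpq, ← hf q] at h1
      exact congrArg Prod.snd (Fr.inj (mul_left_cancel (mul_right_cancel h1)))
    have hfsurj := Finite.injective_iff_surjective.mp hfinj
    obtain ⟨τb, hτb⟩ := exists_torus (((g0 ^ 2 ^ b : Fˣ) : F)) (Units.ne_zero _)
    have hτbN : ∀ p ∈ (upperPS F).range, τb * p * τb⁻¹ ∈ (upperPS F).range := by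
      rintro _ ⟨c', rfl⟩
      exact ⟨_, (hτb (Multiplicative.toAdd c')).symm⟩
    obtain ⟨g', hg'⟩ := Fr.norm x hxt (fun p => ⟨f p, hf p⟩) τb hτbN
    obtain ⟨p₁, hp₁⟩ := hfsurj (u 1)
    obtain ⟨hq₁, -⟩ := hg' p₁ (u 1) (by rw [hf, hp₁])
    obtain ⟨m, hm0, hm⟩ := upper_mul_of_normalizes g' hq₁
    obtain ⟨k, hk⟩ := hgenb (Units.mk0 m hm0)
    refine ⟨k, fun w hw => ?_⟩
    obtain ⟨y, rfl⟩ := hmemW w hw
    obtain ⟨p, hp⟩ := hfsurj (u y)
    obtain ⟨x₀, rfl⟩ := hu.2 p
    have hxy : x * j (1, u x₀) * x⁻¹ = j (1, u y) := by rw [hf, hp]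
    obtain ⟨hq, hq'⟩ := hg' (u x₀) (u y) hxy
    rw [show x⁻¹ * j (1, u y) * x = j (1, u x₀) by rw [← hxy]; group, hl1, hlpow, hk, Units.val_mk0]
    refine Eq.trans ?_ (hq'.trans ?_)
    · congr 3
      exact Prod.ext rfl (Subtype.ext (hτb x₀).symm)
    · congr 2
      exact Subtype.ext (hm y)

end CfsgLib.JankoThompson
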