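import Cfsg.Agent.Lib.JankoThompson.Grow

/-!
A maximal generalised dihedral subgroup: the action of its normaliser on `W` by affine maps.
-/

set_option autoImplicit false

namespace CfsgLib.JankoThompson

open Subgroup

variable {G : Type*} [Group G] {t : G} {E W R Q : Subgroup G} {n m : ℕ} {l : G}

/-- The translation part. -/
def cval (t : G) (m : ℕ) (g : G) : G := disp t g ^ 2 ^ m

/-- The affine map of `W` belonging to `g`. -/
def tr (t : G) (m : ℕ) (g w : G) : G := cval t m g * (g * w * g⁻¹)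

/-- Standing data for a maximal structure. -/
structure Top (t : G) (E W R Q : Subgroup G) (n m : ℕ) (l : G) : Prop where
  str : Str t E W R Q l
  elem : Elem t E W n
  psi : ∀ x ∈ Q, x ^ 2 ^ m ∈ W
  surj : ∀ w ∈ W, ∃ x ∈ Q, x ^ 2 ^ m = w
  ker : ∀ x ∈ Q, (x ^ 2 ^ m = 1 ↔ ∃ y ∈ Q, y * y = x)
  triv : ∀ g ∈ normalizer (R : Set G) ⊓ centralizer (W : Set G), cval t m g = 1

theorem exists_top [Finite G] (h : Elem t E W n) (a : Act t W l) {P₀ : Subgroup G}
    (hP2 : IsPGroup 2 P₀) (hEP : E < P₀) (hPN : P₀ ≤ normalizer (E : Set G)) :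
    ∃ R Q : Subgroup G, ∃ m : ℕ, ∃ l₁ : G, Top t E W R Q n m l₁ ∧
      ∀ w ∈ W, l₁ * w * l₁⁻¹ = l * w * l⁻¹ := by
  classical
  let 𝒮 : Set (Subgroup G) :=
    {R | ∃ Q : Subgroup G, ∃ l₁ : G, Str t E W R Q l₁ ∧ ∀ w ∈ W, l₁ * w * l₁⁻¹ = l * w * l⁻¹}
  obtain ⟨R, ⟨Q, l₁, s, hl⟩, hmax⟩ := Set.exists_max_image 𝒮 (fun R : Subgroup G => Nat.card R)
    (Set.toFinite _) ⟨E, W, l, str_base h a hP2 hEP hPN, fun w _ => rfl⟩
  obtain ⟨m, hψ, hsurj, hm⟩ := s.exists_psi h
  refine ⟨R, Q, m, l₁, ⟨s, h, hψ, hsurj, hm, fun g hg => ?_⟩, hl⟩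
  by_contra hne
  obtain ⟨R₁, Q₁, l₂, s₁, hlt, hl₂⟩ := s.grow h hm hψ hg hne
  have h1 := hmax R₁ ⟨Q₁, l₂, s₁, fun w hw => (hl₂ w hw).trans (hl w hw)⟩
  exact hlt.ne (eq_of_le_of_card_ge hlt.le h1)

namespace Top

variable [Finite G] (T : Top t E W R Q n m l)
include T

omit [Finite G] in
theorem W_comm {a b : G} (ha : a ∈ W) (hb : b ∈ W) : a * b = b * a :=
  T.elem.E_comm (T.elem.WE ha) (T.elem.WE hb)

omit [Finite G] in
theorem W_sq {a : G} (ha : a ∈ W) : a * a = 1 := T.elem.sq a (T.elem.WE ha)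

theorem c_mem {g : G} (hg : g ∈ NW R W) : cval t m g ∈ W :=
  T.psi _ (T.str.disp_mem' T.elem hg.1 (NW_conj hg))

theorem tr_mem {g w : G} (hg : g ∈ NW R W) (hw : w ∈ W) : tr t m g w ∈ W :=
  mul_mem (T.c_mem hg) (NW_conj hg w hw)

omit [Finite G] in
theorem c_one : cval t m (1 : G) = 1 := by
  unfold cval disp
  rw [one_mul, inv_one, mul_one, T.elem.tt, one_pow]

theorem c_mul {g k : G} (hg : g ∈ NW R W) (hk : k ∈ NW R W) :
    cval t m (g * k) = cval t m g * (g * cval t m k * g⁻¹) := T.str.cocycle T.elem hg hk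

theorem tr_mul {g k w : G} (hg : g ∈ NW R W) (hk : k ∈ NW R W) :
    tr t m (g * k) w = tr t m g (tr t m k w) := by
  unfold tr
  rw [T.c_mul hg hk]
  group

omit [Finite G] in
theorem tr_one {w : G} : tr t m 1 w = w := by
  unfold tr
  rw [T.c_one]
  group

omit [Finite G] in
theorem c_of_comm {x : G} (hx : x * t = t * x) : cval t m x = 1 := by
  unfold cval disp
  rw [hx, mul_inv_cancel_right, T.elem.tt, one_pow]

/-- The affine action. -/
@[reducible] def action : MulAction (NW R W) W where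
  smul g w := ⟨tr t m g.1 w.1, T.tr_mem g.2 w.2⟩
  one_smul w := Subtype.ext T.tr_one
  mul_smul g k w := Subtype.ext (T.tr_mul g.2 k.2)

theorem c_eq_one_of_centralizer {g : G} (hg : g ∈ NW R W) (hgW : ∀ w ∈ W, g * w * g⁻¹ = w) :
    cval t m g = 1 :=
  T.triv g ⟨hg.1, mem_centralizer_iff.mpr fun w hw => (mul_inv_eq_iff_eq_mul.mp (hgW w hw)).symm⟩

theorem mem_R_of_centralizer {g : G} (hg : g ∈ NW R W) (hgW : ∀ w ∈ W, g * w * g⁻¹ = w)
    {P : Subgroup G} (hP : IsPGroup 2 P) (hRP : R ≤ P) (hgP : g ∈ P) : g ∈ R :=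
  T.str.mem_R_of_fix T.elem T.ker hg hP hRP hgP (T.c_eq_one_of_centralizer hg hgW)

/-- Either there are no translations or the action is transitive. -/
theorem dichotomy : (∀ g ∈ NW R W, cval t m g = 1) ∨ (∀ w ∈ W, ∃ g ∈ NW R W, cval t m g = w) := by
  by_cases hA : ∃ g ∈ NW R W, cval t m g ≠ 1
  · right
    obtain ⟨g, hg, hg1⟩ := hA
    intro w hw
    rcases eq_or_ne w 1 with rfl | hw1
    · exact ⟨1, one_mem _, T.c_one⟩
    refine T.str.act.all_of_one (S := fun v => ∃ x ∈ NW R W, cval t m x = v) ?_ (T.c_mem hg) hg1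
      ⟨g, hg, rfl⟩ w hw hw1
    rintro v hv ⟨x, hx, rfl⟩
    have hl := T.str.l_mem T.elem
    have hl1 : l⁻¹ ∈ NW R W := inv_mem hl
    refine ⟨l * x * l⁻¹, mul_mem (mul_mem hl hx) hl1, ?_⟩
    rw [T.c_mul (mul_mem hl hx) hl1, T.c_mul hl hx,
      T.c_of_comm (show l * t = t * l from T.str.act.lC),
      T.c_of_comm (show l⁻¹ * t = t * l⁻¹ from (show Commute l t from T.str.act.lC).inv_left)]
    group
  · left
    push Not at hA
    exact hA

theorem exists_fix_elt {g : G} (hg : g ∈ NW R W) (h0 : cval t m g = 1) :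
    ∃ x : G, x * t = t * x ∧ (∀ w ∈ W, x * w * x⁻¹ = g * w * g⁻¹) ∧ g⁻¹ * x ∈ R := by
  obtain ⟨q, hq, hc⟩ := T.str.exists_fix T.elem T.ker hg h0
  refine ⟨q * g, hc, fun w hw => ?_, ?_⟩
  · calc q * g * w * (q * g)⁻¹ = q * (g * w * g⁻¹) * q⁻¹ := by group
      _ = g * w * g⁻¹ := by
        rw [T.str.W_comm T.elem (T.str.QR hq) (NW_conj hg w hw), mul_inv_cancel_right]
  · rw [← mul_assoc]
    have := (mem_normalizer_iff.mp (inv_mem hg.1) q).mp (T.str.QR hq)
    simpa using this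

/-- The stabiliser of the origin acts on `W` with odd order. -/
theorem odd_stab {g : G} (hg : g ∈ NW R W) (h0 : cval t m g = 1) :
    ∃ d : ℕ, Odd d ∧ ∀ w ∈ W, g ^ d * w * (g ^ d)⁻¹ = w := by
  haveI : Fact (Nat.Prime 2) := ⟨Nat.prime_two⟩
  obtain ⟨x, hxt, hxW, -⟩ := T.exists_fix_elt hg h0
  have hxN : x ∈ normalizer (E : Set G) := mem_normalizer_fintype fun e he => by
    show x * e * x⁻¹ ∈ E
    rcases T.elem.split e he with hw | hw
    · rw [hxW e hw]
      exact T.elem.WE (NW_conj hg e hw)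
    · rw [show x * e * x⁻¹ = t * (x * (t * e) * x⁻¹) by
        calc x * e * x⁻¹ = x * (t * t * e) * x⁻¹ := by rw [T.elem.tt, one_mul]
          _ = (x * t) * (t * e) * x⁻¹ := by group
          _ = (t * x) * (t * e) * x⁻¹ := by rw [hxt]
          _ = t * (x * (t * e) * x⁻¹) := by group, hxW _ hw]
      exact mul_mem T.elem.tE (T.elem.WE (NW_conj hg _ hw))
  set b := (orderOf x).factorization 2 with hb
  set d := orderOf x / 2 ^ b with hd
  have hdodd : Odd d := by
    rw [← Nat.not_even_iff_odd, even_iff_two_dvd]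
    exact Nat.not_dvd_ordCompl Nat.prime_two (orderOf_pos x).ne'
  have hy2 : IsPGroup 2 (zpowers (x ^ d)) := by
    rintro ⟨y, k, rfl⟩
    refine ⟨b, Subtype.ext ?_⟩
    show ((x ^ d) ^ k) ^ 2 ^ b = 1
    rw [← zpow_natCast, ← zpow_mul, mul_comm, zpow_mul, zpow_natCast, ← pow_mul,
      hd, Nat.div_mul_cancel (Nat.ordProj_dvd _ 2), pow_orderOf_eq_one, one_zpow]
  have hsup : IsPGroup 2 ↥(zpowers (x ^ d) ⊔ E) :=
    hy2.to_sup_of_normal_right' T.elem.E_two (zpowers_le.mpr (pow_mem hxN d))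
  have heq := T.elem.eq_E hsup le_sup_right
    (sup_le (zpowers_le.mpr (pow_mem (mem_centralizer_singleton_iff.mpr hxt) d)) T.elem.EC)
  have hxd : x ^ d ∈ E := heq ▸ mem_sup_left (mem_zpowers _)
  refine ⟨d, hdodd, fun w hw => ?_⟩
  have key : ∀ (j : ℕ), ∀ v ∈ W, g ^ j * v * (g ^ j)⁻¹ = x ^ j * v * (x ^ j)⁻¹ := by
    intro j
    induction j with
    | zero => intro v _; simp
    | succ j ih =>
      intro v hv
      calc g ^ (j + 1) * v * (g ^ (j + 1))⁻¹ = g * (g ^ j * v * (g ^ j)⁻¹) * g⁻¹ := by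
            rw [pow_succ']; group
        _ = x * (g ^ j * v * (g ^ j)⁻¹) * x⁻¹ := (hxW _ (NW_conj (pow_mem hg j) v hv)).symm
        _ = x * (x ^ j * v * (x ^ j)⁻¹) * x⁻¹ := by rw [ih v hv]
        _ = x ^ (j + 1) * v * (x ^ (j + 1))⁻¹ := by rw [pow_succ']; group
  rw [key d w hw, T.elem.E_comm hxd (T.elem.WE hw), mul_inv_cancel_right]

/-- Without translations `R` is a Sylow subgroup, against the transfer. -/
theorem no_trivial {P₀ : Subgroup G} (hP2 : IsPGroup 2 P₀) (hEP : E < P₀)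
    (hPN : P₀ ≤ normalizer (E : Set G)) (hA : ∀ g ∈ NW R W, cval t m g = 1) : False := by
  haveI : Fact (Nat.Prime 2) := ⟨Nat.prime_two⟩
  have h := T.elem
  have s := T.str
  have hmax : ∀ P : Subgroup G, IsPGroup 2 P → R ≤ P → P ≤ NW R W → P ≤ R := fun P hP hRP hPN x hx =>
    s.mem_R_of_fix h T.ker (hPN hx) hP hRP hx (hA x (hPN hx))
  have hNW : ∀ g ∈ normalizer (R : Set G), ∀ w ∈ W, g * w * g⁻¹ ∈ W := by
    intro g hg
    by_cases hQ : ∃ x ∈ Q, x * x ≠ 1
    · obtain ⟨x, hx, hx2⟩ := hQ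
      intro w hw
      have hwR : g * w * g⁻¹ ∈ R := s.conj_R h hg (s.QR (s.WQ hw))
      rcases s.split _ hwR with h1 | h1
      · refine s.sq_one_mem_W h h1 ?_
        rw [show g * w * g⁻¹ * (g * w * g⁻¹) = g * (w * w) * g⁻¹ by group, T.W_sq hw]
        group
      · exfalso
        have hxR : g⁻¹ * x * g ∈ R := by
          have := s.conj_R h (inv_mem hg) (s.QR hx)
          simpa using this
        have hc : x * (g * w * g⁻¹) = g * w * g⁻¹ * x := by
          calc x * (g * w * g⁻¹) = g * ((g⁻¹ * x * g) * w) * g⁻¹ := by group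
            _ = g * (w * (g⁻¹ * x * g)) * g⁻¹ := by rw [s.W_comm h hxR hw]
            _ = g * w * g⁻¹ * x := by group
        set q := t * (g * w * g⁻¹) with hq
        have e : g * w * g⁻¹ = t * q := by rw [hq, ← mul_assoc t t, h.tt, one_mul]
        rw [e] at hc
        have h2 : t * x * t = x := by
          have h3 : x * t = t * x := by
            refine mul_right_cancel (b := q) ?_
            rw [mul_assoc, hc, mul_assoc, s.Q_comm h h1 hx, ← mul_assoc]
          rw [← h3, mul_assoc, h.tt, mul_one]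
        rw [s.conj_eq_inv h hx] at h2
        exact hx2 (by rw [inv_eq_iff_mul_eq_one] at h2; exact h2)
    · push Not at hQ
      have hRE : R = E := le_antisymm (fun x hx => by
        rcases s.split x hx with h1 | h1
        · exact h.WE (s.sq_one_mem_W h h1 (hQ x h1))
        · have := mul_mem h.tE (h.WE (s.sq_one_mem_W h h1 (hQ _ h1)))
          rwa [← mul_assoc, h.tt, one_mul] at this) s.ER
      rw [hRE] at hg
      exact ((h.orbit_eq hP2 hEP hPN).2 g hg).2
  -- so `R` is a Sylow subgroup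
  obtain ⟨S, hS⟩ := s.R2.exists_le_sylow
  have hSR : (S : Subgroup G) = R := by
    by_contra hne
    have hlt : R.subgroupOf (S : Subgroup G) < ⊤ := by
      refine lt_top_iff_ne_top.mpr fun e => hne (le_antisymm (fun x hx => ?_) hS)
      exact mem_subgroupOf.mp (show (⟨x, hx⟩ : (S : Subgroup G)) ∈ R.subgroupOf S from e ▸ mem_top _)
    haveI := S.2.isNilpotent
    have hN := normalizerCondition_of_isNilpotent _ hlt
    obtain ⟨x, hxN, hxR⟩ := SetLike.exists_of_lt hN
    have hxN' : (x : G) ∈ normalizer (R : Set G) := mem_normalizer_fintype fun r hr => by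
      exact mem_subgroupOf.mp ((mem_normalizer_iff.mp hxN ⟨r, hS hr⟩).mp hr)
    refine hxR (hmax ((S : Subgroup G) ⊓ NW R W) (S.2.to_le inf_le_left)
      (le_inf hS fun r hr => ⟨le_normalizer hr, mem_normalizer_fintype fun w hw => ?_⟩)
      inf_le_right ⟨x.2, hxN', mem_normalizer_fintype (hNW _ hxN')⟩)
    show r * w * r⁻¹ ∈ W
    rw [s.W_comm h hr hw, mul_inv_cancel_right]
    exact hw
  have hrel : Q.relIndex R = 2 := by
    have h1 := card_mul_index (Q.subgroupOf R)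
    rw [Nat.card_congr (subgroupOfEquivOfLe s.QR).toEquiv, s.cardR h, mul_comm 2] at h1
    exact Nat.eq_of_mul_eq_mul_left Nat.card_pos h1
  have hodd : Odd R.index := by
    rw [← hSR, ← Nat.not_even_iff_odd, even_iff_two_dvd]
    exact S.not_dvd_index
  obtain ⟨M, hMn, hMi, htM⟩ := CfsgLib.ThompsonTransfer.exists_normal_index_two R Q hodd hrel t
    (by rw [pow_two]; exact h.tt) fun g hg => by
      have h2 : g * t * g⁻¹ * (g * t * g⁻¹) = 1 := by
        rw [show g * t * g⁻¹ * (g * t * g⁻¹) = g * (t * t) * g⁻¹ by group, h.tt]; group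
      refine h.not_conj_W hP2 hEP hPN (s.sq_one_mem_W h hg h2) ?_ (isConj_iff.mpr ⟨g, rfl⟩)
      simpa [mul_inv_eq_one] using h.t1
  haveI := h.simple
  rcases hMn.eq_bot_or_eq_top with rfl | rfl
  · rw [index_bot] at hMi
    haveI : IsCyclic G := isCyclic_of_prime_card hMi
    exact h.noncomm IsCyclic.isMulCommutative
  · exact htM (mem_top t)

theorem fpf (hB : ∀ w ∈ W, ∃ g ∈ NW R W, cval t m g = w) {P : Subgroup G} (hP : IsPGroup 2 P)
    (hRP : R ≤ P) {g : G} (hgP : g ∈ P) (hg : g ∈ NW R W) {w : G} (hw : w ∈ W)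
    (hfix : tr t m g w = w) : g ∈ R := by
  obtain ⟨k, hk, hkw⟩ := hB w hw
  have htk : tr t m k 1 = w := by unfold tr; rw [hkw]; group
  have hg' : k⁻¹ * g * k ∈ NW R W := mul_mem (mul_mem (inv_mem hk) hg) hk
  have h0 : cval t m (k⁻¹ * g * k) = 1 := by
    have h1 : tr t m (k⁻¹ * g * k) 1 = 1 := by
      rw [T.tr_mul (mul_mem (inv_mem hk) hg) hk, htk, T.tr_mul (inv_mem hk) hg, hfix, ← htk,
        ← T.tr_mul (inv_mem hk) hk, inv_mul_cancel, T.tr_one]
    unfold tr at h1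
    rwa [mul_one, mul_inv_cancel, mul_one] at h1
  have hR : R ≤ P.map (MulAut.conj k⁻¹).toMonoidHom := fun r hr =>
    ⟨k * r * k⁻¹, hRP ((mem_normalizer_iff.mp hk.1 r).mp hr), by simp [mul_assoc]⟩
  have h2 := T.str.mem_R_of_fix T.elem T.ker hg' (hP.map _) hR ⟨g, hgP, by simp⟩ h0
  have h3 := (mem_normalizer_iff.mp hk.1 _).mp h2
  simpa [mul_assoc] using h3

theorem eq_of_linear {g g' : G} (hg : g ∈ NW R W) (hg' : g' ∈ NW R W)
    (hL : ∀ w ∈ W, g * w * g⁻¹ = g' * w * g'⁻¹) : cval t m g = cval t m g' := by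
  have h1 : ∀ w ∈ W, g'⁻¹ * g * w * (g'⁻¹ * g)⁻¹ = w := fun w hw => by
    calc g'⁻¹ * g * w * (g'⁻¹ * g)⁻¹ = g'⁻¹ * (g * w * g⁻¹) * g' := by group
      _ = g'⁻¹ * (g' * w * g'⁻¹) * g' := by rw [hL w hw]
      _ = w := by group
  have h2 := T.c_eq_one_of_centralizer (mul_mem (inv_mem hg') hg) h1
  have h3 := T.c_mul hg' (mul_mem (inv_mem hg') hg)
  rw [mul_inv_cancel_left, h2] at h3
  rw [h3]; group

theorem eq_of_linear' {g g' : G} (hg : g ∈ NW R W) (hg' : g' ∈ NW R W)
    (hL : ∀ w ∈ W, g * w * g⁻¹ = g' * w * g'⁻¹) : ∀ w ∈ W, tr t m g w = tr t m g' w := by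
  intro w hw
  unfold tr
  rw [T.eq_of_linear hg hg' hL, hL w hw]

/-- `|W| = 4` is impossible. -/
theorem no_two (hn : n = 2) (hB : ∀ w ∈ W, ∃ g ∈ NW R W, cval t m g = w) : False := by
  classical
  have h := T.elem
  have s := T.str
  letI : MulAction (NW R W) W := T.action
  set I := (MulAction.toPermHom (NW R W) W).range with hI
  have hcW : Nat.card W = 4 := by rw [h.cardW, hn]; norm_num
  have hmemI : ∀ g (hg : g ∈ NW R W), MulAction.toPermHom (NW R W) W ⟨g, hg⟩ ∈ I := fun g hg => ⟨_, rfl⟩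
  -- at least twelve
  have hge : 12 ≤ Nat.card I := by
    have h1 := Nat.card_congr (MulAction.orbitProdStabilizerEquivGroup I (1 : W))
    rw [Nat.card_prod] at h1
    have horb : Nat.card (MulAction.orbit I (1 : W)) = 4 := by
      rw [← hcW]
      refine Nat.card_congr (Equiv.subtypeUnivEquiv fun w => ?_)
      obtain ⟨g, hg, hgw⟩ := hB w.1 w.2
      refine ⟨⟨_, hmemI g hg⟩, Subtype.ext ?_⟩
      show tr t m g 1 = w
      unfold tr
      rw [hgw]; group
    set St := MulAction.stabilizer I (1 : W) with hSt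
    have h3 : 3 ≤ Nat.card St := by
      obtain ⟨w₀, hw₀⟩ : ∃ w : W, w ≠ 1 := by
        by_contra hno
        push Not at hno
        haveI : Subsingleton W := ⟨fun a b => (hno a).trans (hno b).symm⟩
        rw [Nat.card_of_subsingleton (1 : W)] at hcW
        omega
      have hlj : ∀ j : ℕ, l ^ j ∈ NW R W := fun j => pow_mem (s.l_mem h) j
      have hfix : ∀ j : ℕ, (⟨_, hmemI _ (hlj j)⟩ : I) • (1 : W) = 1 := fun j => Subtype.ext (by
        show tr t m (l ^ j) 1 = 1
        unfold tr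
        rw [T.c_of_comm (s.act.pow_comm j)]; group)
      have h4 : Nat.card {w : W // w ≠ 1} ≤ Nat.card St := by
        refine Nat.card_le_card_of_surjective (fun i : St => (⟨i.1 • w₀, fun e => hw₀ ?_⟩ : {w : W // w ≠ 1})) ?_
        · have : i.1 • w₀ = i.1 • (1 : W) := e.trans (MulAction.mem_stabilizer_iff.mp i.2).symm
          exact MulAction.injective i.1 this
        · intro w
          obtain ⟨j, hj⟩ := s.act.reg w₀.1 w₀.2 (fun e => hw₀ (Subtype.ext e)) w.1.1 w.1.2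
            (fun e => w.2 (Subtype.ext e))
          refine ⟨⟨⟨_, hmemI _ (hlj j)⟩, MulAction.mem_stabilizer_iff.mpr (hfix j)⟩,
            Subtype.ext (Subtype.ext ?_)⟩
          show tr t m (l ^ j) w₀.1 = w.1.1
          unfold tr
          rw [T.c_of_comm (s.act.pow_comm j), one_mul, hj]
      have h5 : Nat.card {w : W // w ≠ 1} = 3 := by
        haveI := Fintype.ofFinite W
        rw [Nat.card_eq_fintype_card, Fintype.card_subtype_compl, Fintype.card_subtype_eq,
          ← Nat.card_eq_fintype_card, hcW]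
      omega
    rw [horb] at h1
    omega
  -- at most six
  have hle : Nat.card I ≤ Nat.card (Equiv.Perm {w : W // w ≠ 1}) := by
    rw [Nat.card_congr (Equiv.Perm.subtypeEquivSubtypePerm (fun w : W => w ≠ 1))]
    refine Nat.card_le_card_of_injective (fun i : I =>
      ⟨Equiv.mulLeft (i.1 1)⁻¹ * i.1, fun a ha => ?_⟩) ?_
    · obtain rfl : a = 1 := not_not.mp ha
      show (i.1 1)⁻¹ * i.1 1 = 1
      exact inv_mul_cancel _
    · intro i j hij
      obtain ⟨⟨g, hg⟩, hgi⟩ := i.2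
      obtain ⟨⟨g', hg'⟩, hgj⟩ := j.2
      have h1 : ∀ w : W, (i.1 1)⁻¹ * i.1 w = (j.1 1)⁻¹ * j.1 w := fun w =>
        DFunLike.congr_fun (congrArg Subtype.val hij) w
      have hL : ∀ w ∈ W, g * w * g⁻¹ = g' * w * g'⁻¹ := by
        intro w hw
        have h2 := congrArg Subtype.val (h1 ⟨w, hw⟩)
        rw [← hgi, ← hgj] at h2
        change (tr t m g 1)⁻¹ * tr t m g w = (tr t m g' 1)⁻¹ * tr t m g' w at h2
        unfold tr at h2
        rw [show g * 1 * g⁻¹ = 1 by group, show g' * 1 * g'⁻¹ = 1 by group, mul_one, mul_one,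
          inv_mul_cancel_left, inv_mul_cancel_left] at h2
        exact h2
      refine Subtype.ext (Equiv.ext fun w => ?_)
      rw [← hgi, ← hgj]
      exact Subtype.ext (T.eq_of_linear' hg hg' hL w.1 w.2)
  rw [Nat.card_perm] at hle
  have h5 : Nat.card {w : W // w ≠ 1} = 3 := by
    haveI := Fintype.ofFinite W
    rw [Nat.card_eq_fintype_card, Fintype.card_subtype_compl, Fintype.card_subtype_eq,
      ← Nat.card_eq_fintype_card, hcW]
  rw [h5] at hle
  norm_num [Nat.factorial] at hle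
  omega

end Top

end CfsgLib.JankoThompson
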