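import Cfsg.Agent.Lib.JankoThompson.Lift
import Cfsg.Agent.Lib.Components.Subnormal
import Cfsg.Prelude.Def_CaseTheorems

/-!
A Sylow 2-subgroup of `C(t)` when `C(t)/O(C(t))` has `Z₂ × P` under its 2-elements.
-/

set_option autoImplicit false

namespace CfsgLib.JankoThompson

open Subgroup

variable {G : Type*} [Group G] [Finite G] {PS : Type*} [Group PS]

/-- The generator of `Z₂`. -/
abbrev zgen : Multiplicative (ZMod 2) := Multiplicative.ofAdd 1

theorem eq_zgen : ∀ z : Multiplicative (ZMod 2), z ≠ 1 → z = zgen := by decide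

/-- A copy of `Z₂ × P` in `C(t)`. -/
structure Frame (t : G) (P : Subgroup PS) (j : Multiplicative (ZMod 2) × P →* G) : Prop where
  inj : Function.Injective j
  jz : j (zgen, 1) = t
  jC : ∀ p, j p * t = t * j p
  syl : ∀ R : Subgroup G, IsPGroup 2 R → R ≤ centralizer ({t} : Set G) →
    ∃ c ∈ centralizer ({t} : Set G), ∀ x ∈ R, c * x * c⁻¹ ∈ j.range
  normalise : ∀ (g : PS) (hg : ∀ p ∈ P, g * p * g⁻¹ ∈ P), ∃ c : G, c * t = t * c ∧
    ∀ (a : Multiplicative (ZMod 2)) (p : P), c * j (a, p) * c⁻¹ = j (a, ⟨g * p * g⁻¹, hg p.1 p.2⟩)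
  conj : ∀ (p q : P), (∃ g : PS, g * p * g⁻¹ = q) → ∀ a : Multiplicative (ZMod 2),
    ∃ c : G, c * t = t * c ∧ c * j (a, p) * c⁻¹ = j (a, q)
  norm : ∀ x : G, x * t = t * x → (∀ p : P, ∃ p' : P, x * j (1, p) * x⁻¹ = j (1, p')) →
    ∀ (g : PS) (hg : ∀ p ∈ P, g * p * g⁻¹ ∈ P), ∃ g' : PS, ∀ (p p' : P),
      x * j (1, p) * x⁻¹ = j (1, p') → ∃ hq : g' * p' * g'⁻¹ ∈ P,
        x * j (1, ⟨g * p * g⁻¹, hg p.1 p.2⟩) * x⁻¹ = j (1, ⟨g' * p' * g'⁻¹, hq⟩)

theorem exists_frame [Finite PS] (hZ : ∀ z : PS, (∀ y, z * y = y * z) → z = 1) {t : G}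
    (ht : t * t = 1) (ht1 : t ≠ 1)
    (e : ↥(Subgroup.closure {x : (↥(Subgroup.centralizer ({t} : Set G)) ⧸
        Cfsg.oddCore ↥(Subgroup.centralizer ({t} : Set G))) | ∃ k : ℕ, orderOf x = 2 ^ k}) ≃*
      (Multiplicative (ZMod 2) × PS))
    (P : Sylow 2 PS) :
    ∃ j : Multiplicative (ZMod 2) × (P : Subgroup PS) →* G, Frame t (P : Subgroup PS) j := by
  classical
  haveI : Fact (Nat.Prime 2) := ⟨Nat.prime_two⟩
  set C : Subgroup G := centralizer ({t} : Set G) with hC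
  set N : Subgroup C := Cfsg.oddCore C with hNdef
  set L : Subgroup (C ⧸ N) := Subgroup.closure {x : C ⧸ N | ∃ k : ℕ, orderOf x = 2 ^ k} with hL
  have hN : Odd (Nat.card N) := by
    rw [← Nat.not_even_iff_odd, even_iff_two_dvd]
    intro hd
    have h := Components.coprime_card_pPrimeCore (G := C) 2
    exact Nat.prime_two.coprime_iff_not_dvd.mp h.symm hd
  let π : C →* C ⧸ N := QuotientGroup.mk' N
  have hLmem : ∀ y : C ⧸ N, (∃ k, y ^ 2 ^ k = 1) → y ∈ L := by
    rintro y ⟨k, hk⟩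
    obtain ⟨i, -, hi⟩ := (Nat.dvd_prime_pow Nat.prime_two).mp (orderOf_dvd_of_pow_eq_one hk)
    exact subset_closure ⟨i, hi⟩
  have htC : t ∈ C := mem_centralizer_singleton_iff.mpr rfl
  set tC : C := ⟨t, htC⟩ with htCdef
  have htC2 : tC * tC = 1 := Subtype.ext ht
  have htL : π tC ∈ L := hLmem _ ⟨1, by rw [pow_one, pow_two, ← map_mul, htC2, map_one]⟩
  have htcent : ∀ y : C ⧸ N, π tC * y = y * π tC := fun y => by
    obtain ⟨y, rfl⟩ := QuotientGroup.mk'_surjective N y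
    rw [← map_mul, ← map_mul]
    exact congrArg π (Subtype.ext (show t * y.1 = y.1 * t from (mem_centralizer_singleton_iff.mp y.2).symm))
  have hzpow : IsPGroup 2 (zpowers tC) := by
    rintro ⟨_, i, rfl⟩
    refine ⟨1, Subtype.ext ?_⟩
    show (tC ^ i) ^ 2 ^ 1 = 1
    rw [pow_one, ← zpow_natCast, ← zpow_mul, mul_comm, zpow_mul, zpow_natCast, pow_two, htC2, one_zpow]
  have hπt : π tC ≠ 1 := fun h => ht1 (congrArg Subtype.val
    (eq_one_of_two hN hzpow (mem_zpowers tC) h))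
  have het : e ⟨π tC, htL⟩ = (zgen, 1) := by
    have h2 : (e ⟨π tC, htL⟩).2 = 1 := hZ _ fun y => by
      obtain ⟨w, hw⟩ := e.surjective (1, y)
      have := congrArg e (show (⟨π tC, htL⟩ : L) * w = w * ⟨π tC, htL⟩ from Subtype.ext (htcent w.1))
      rw [map_mul, map_mul, hw] at this
      exact congrArg Prod.snd this
    refine Prod.ext ?_ h2
    have h1 : (e ⟨π tC, htL⟩).1 ≠ 1 := fun h1 => hπt (congrArg Subtype.val
      (e.injective ((Prod.ext h1 h2).trans (map_one e).symm) : (⟨π tC, htL⟩ : L) = 1))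
    exact eq_zgen _ h1
  -- the image and a Sylow subgroup above it
  let inc : Multiplicative (ZMod 2) × (P : Subgroup PS) →* C ⧸ N :=
    L.subtype.comp (e.symm.toMonoidHom.comp ((MonoidHom.id _).prodMap (P : Subgroup PS).subtype))
  have hinc : ∀ a p, inc (a, p) = (e.symm (a, (p : PS)) : C ⧸ N) := fun _ _ => rfl
  have hincinj : Function.Injective inc := fun p q h => by
    have h' := e.symm.injective (Subtype.ext h : e.symm (p.1, (p.2 : PS)) = e.symm (q.1, (q.2 : PS)))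
    exact Prod.ext (congrArg Prod.fst h' :) (Subtype.ext (congrArg Prod.snd h' :))
  have hP2 : IsPGroup 2 (Multiplicative (ZMod 2) × (P : Subgroup PS)) := by
    obtain ⟨k, hk⟩ := IsPGroup.iff_card.mp P.2
    exact IsPGroup.of_card (n := 1 + k) (by
      rw [Nat.card_prod, hk, pow_add, pow_one, Nat.card_congr Multiplicative.toAdd, Nat.card_zmod])
  have hR2 : IsPGroup 2 inc.range := hP2.of_surjective inc.rangeRestrict inc.rangeRestrict_surjective
  obtain ⟨T, hT2, hTmap⟩ := exists_sylow_over inc.range hR2 hN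
  let πT : T →* inc.range := (π.comp T.subtype).codRestrict inc.range
    fun x => hTmap ▸ mem_map_of_mem _ x.2
  have hπTb : Function.Bijective πT := by
    refine ⟨fun x y h => Subtype.ext (injOn_two hN hT2 x.2 y.2 (congrArg Subtype.val h)), ?_⟩
    rintro ⟨y, hy⟩
    obtain ⟨x, hx, rfl⟩ : y ∈ T.map π := hTmap.symm ▸ hy
    exact ⟨⟨x, hx⟩, rfl⟩
  let jC : Multiplicative (ZMod 2) × (P : Subgroup PS) →* C :=
    T.subtype.comp ((MulEquiv.ofBijective πT hπTb).symm.toMonoidHom.comp inc.rangeRestrict)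
  have hπj : ∀ p, π (jC p) = inc p := fun p =>
    congrArg Subtype.val ((MulEquiv.ofBijective πT hπTb).apply_symm_apply (inc.rangeRestrict p))
  have hjT : ∀ p, jC p ∈ T := fun p => (((MulEquiv.ofBijective πT hπTb).symm (inc.rangeRestrict p))).2
  have hjinj : Function.Injective jC := fun p q h => hincinj (by rw [← hπj, ← hπj, h])
  have hTj : ∀ x ∈ T, ∃ p, jC p = x := by
    intro x hx
    obtain ⟨p, hp⟩ : π x ∈ inc.range := hTmap ▸ mem_map_of_mem _ hx
    exact ⟨p, injOn_two hN hT2 (hjT p) hx ((hπj p).trans hp)⟩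
  have hpow : ∀ p, ∃ k, jC p ^ 2 ^ k = 1 := fun p => by
    obtain ⟨k, hk⟩ := hT2 ⟨jC p, hjT p⟩
    exact ⟨k, congrArg Subtype.val hk⟩
  have hjz : jC (zgen, 1) = tC := by
    obtain ⟨k, hk⟩ := hpow (zgen, 1)
    have hπ : (QuotientGroup.mk' N) (1 * jC (zgen, 1) * 1⁻¹) = (QuotientGroup.mk' N) tC := by
      rw [inv_one, one_mul, mul_one]
      refine (hπj _).trans ?_
      rw [hinc, OneMemClass.coe_one, ← het, e.symm_apply_apply]
    obtain ⟨k', -, hk'⟩ := lift_conj hN ⟨k, hk⟩ ⟨1, by rw [pow_one, pow_two, htC2]⟩ hπ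
    -- `t` is central
    have hk'' : k' * jC (zgen, 1) * k'⁻¹ = tC := by simpa using hk'
    rw [show jC (zgen, 1) = k'⁻¹ * tC * k' by rw [← hk'']; group]
    exact Subtype.ext (show (k'.1)⁻¹ * t * k'.1 = t by
      rw [mul_assoc, ← mem_centralizer_singleton_iff.mp k'.2, inv_mul_cancel_left])
  -- conjugates of elements of `L`
  have hLconj : ∀ (c : C ⧸ N), ∀ y ∈ L, c * y * c⁻¹ ∈ L := by
    intro c y hy
    have hle : L ≤ L.comap (MulAut.conj c).toMonoidHom := by
      rw [hL, closure_le]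
      rintro w ⟨i, hi⟩
      refine subset_closure ⟨i, ?_⟩
      rw [← hi]
      exact orderOf_injective (MulAut.conj c).toMonoidHom (MulAut.conj c).injective w
    exact hle hy
  have hsub : ∀ (g : PS) (y : Multiplicative (ZMod 2) × PS),
      (e.symm (1, g) : C ⧸ N) * e.symm y * (e.symm (1, g) : C ⧸ N)⁻¹ =
        (e.symm (y.1, g * y.2 * g⁻¹) : C ⧸ N) := by
    intro g y
    have : e.symm (1, g) * e.symm y * (e.symm (1, g))⁻¹ = e.symm (y.1, g * y.2 * g⁻¹) := by
      rw [← map_inv, ← map_mul, ← map_mul]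
      congr 1
      exact Prod.ext (by simp) rfl
    exact congrArg Subtype.val this
  let j : Multiplicative (ZMod 2) × (P : Subgroup PS) →* G := C.subtype.comp jC
  refine ⟨j, ⟨Subtype.val_injective.comp hjinj, congrArg Subtype.val hjz,
    fun p => mem_centralizer_singleton_iff.mp (jC p).2, ?_, ?_, ?_, ?_⟩⟩
  · intro R hR hRC
    -- `T` is a Sylow subgroup of `C`
    obtain ⟨S, hS⟩ := hT2.exists_le_sylow
    have hST : (S : Subgroup C) = T := by
      refine (eq_of_le_of_card_ge hS ?_).symm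
      have hSL : (S : Subgroup C).map π ≤ L := by
        rintro _ ⟨x, hx, rfl⟩
        obtain ⟨k, hk⟩ := S.2 ⟨x, hx⟩
        exact hLmem _ ⟨k, by rw [← map_pow, show x ^ 2 ^ k = 1 from congrArg Subtype.val hk, map_one]⟩
      let SL : Subgroup (Multiplicative (ZMod 2) × PS) := (((S : Subgroup C).map π).subgroupOf L).map e.toMonoidHom
      have hSL2 : IsPGroup 2 SL := ((S.2.map π).comap_subtype (K := L)).map _
      have hcard : Nat.card SL = Nat.card (S : Subgroup C) := by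
        rw [card_map_of_injective e.injective, Nat.card_congr (subgroupOfEquivOfLe hSL).toEquiv]
        exact card_map_two hN S.2
      have hle : Nat.card SL ≤ 2 * Nat.card (P : Subgroup PS) := by
        obtain ⟨Q, hQ⟩ := (hSL2.map (MonoidHom.snd (Multiplicative (ZMod 2)) PS)).exists_le_sylow
        have h1 : Nat.card SL ≤ Nat.card (Multiplicative (ZMod 2) × (Q : Subgroup PS)) :=
          Nat.card_le_card_of_injective (fun y => (y.1.1, ⟨y.1.2, hQ ⟨y.1, y.2, rfl⟩⟩))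
            fun y y' hyy => Subtype.ext (Prod.ext (congrArg Prod.fst hyy :)
              (congrArg (fun w : Multiplicative (ZMod 2) × (Q : Subgroup PS) => (w.2 : PS)) hyy :))
        rwa [Nat.card_prod, Nat.card_congr Multiplicative.toAdd, Nat.card_zmod, Q.card_eq_multiplicity,
          ← P.card_eq_multiplicity] at h1
      have h2 : Nat.card T = 2 * Nat.card (P : Subgroup PS) := by
        rw [← card_map_two hN hT2, hTmap,
          ← Nat.card_congr (MonoidHom.ofInjective hincinj).toEquiv, Nat.card_prod,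
          Nat.card_congr Multiplicative.toAdd, Nat.card_zmod]
      omega
    obtain ⟨Q, hQ⟩ := IsPGroup.exists_le_sylow (hR.comap_subtype (K := C))
    obtain ⟨g, hg⟩ := MulAction.exists_smul_eq C Q S
    refine ⟨g.1, g.2, fun x hx => ?_⟩
    have hmem : g * (⟨x, hRC hx⟩ : C) * g⁻¹ ∈ (((g • Q : Sylow 2 C)) : Subgroup C) := by
      rw [Sylow.coe_subgroup_smul]
      exact ⟨⟨x, hRC hx⟩, hQ hx, rfl⟩
    rw [hg, hST] at hmem
    obtain ⟨p, hp⟩ := hTj _ hmem
    exact ⟨p, congrArg Subtype.val hp⟩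
  · intro g hg
    obtain ⟨c₀, hc₀⟩ := QuotientGroup.mk'_surjective N (e.symm (1, g) : C ⧸ N)
    have hπc : ∀ p, π (c₀ * jC p * c₀⁻¹) = inc (p.1, ⟨g * p.2 * g⁻¹, hg p.2.1 p.2.2⟩) := fun p => by
      rw [map_mul, map_mul, map_inv, hπj, show π c₀ = _ from hc₀]
      exact hsub g (p.1, p.2.1)
    obtain ⟨k, hk, hkA⟩ := lift_normalizer hN hT2 (c := c₀) fun x hx => by
      obtain ⟨p, rfl⟩ := hTj x hx
      rw [show (QuotientGroup.mk' N) (c₀ * jC p * c₀⁻¹) = _ from hπc p, ← hπj]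
      exact mem_map_of_mem _ (hjT _)
    refine ⟨(k * c₀).1, mem_centralizer_singleton_iff.mp (k * c₀).2, fun a p => ?_⟩
    refine congrArg Subtype.val (injOn_two hN hT2 (hkA _ (hjT (a, p))) (hjT _) ?_ :
      k * c₀ * jC (a, p) * (k * c₀)⁻¹ = jC (a, ⟨g * p * g⁻¹, hg p.1 p.2⟩))
    rw [show k * c₀ * jC (a, p) * (k * c₀)⁻¹ = k * (c₀ * jC (a, p) * c₀⁻¹) * k⁻¹ by group,
      map_mul, map_mul, map_inv, show (QuotientGroup.mk' N) k = 1 from (QuotientGroup.eq_one_iff k).mpr hk,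
      one_mul, inv_one, mul_one]
    exact (hπc (a, p)).trans (hπj _).symm
  · rintro p q ⟨g, hg⟩ a
    obtain ⟨c₀, hc₀⟩ := QuotientGroup.mk'_surjective N (e.symm (1, g) : C ⧸ N)
    have hπ : (QuotientGroup.mk' N) (c₀ * jC (a, p) * c₀⁻¹) = (QuotientGroup.mk' N) (jC (a, q)) := by
      rw [map_mul, map_mul, map_inv, show (QuotientGroup.mk' N) (jC (a, p)) = _ from hπj _, hc₀,
        show (QuotientGroup.mk' N) (jC (a, q)) = _ from hπj _, hinc, hinc, hsub, hg]
    obtain ⟨k, -, hk⟩ := lift_conj hN (hpow _) (hpow _) hπ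
    exact ⟨(k * c₀).1, mem_centralizer_singleton_iff.mp (k * c₀).2, congrArg Subtype.val hk⟩
  · intro x hxt hxP g hg
    set xC : C := ⟨x, mem_centralizer_singleton_iff.mpr hxt⟩
    set τ' : L := ⟨π xC * e.symm (1, g) * (π xC)⁻¹, hLconj _ _ (e.symm (1, g)).2⟩ with hτ'
    refine ⟨(e τ').2, fun p p' hpp => ?_⟩
    obtain ⟨p'', hp''⟩ := hxP ⟨g * p * g⁻¹, hg p.1 p.2⟩
    have hC1 : ∀ (u v : (P : Subgroup PS)), x * j (1, u) * x⁻¹ = j (1, v) →
        π xC * (e.symm (1, (u : PS)) : C ⧸ N) * (π xC)⁻¹ = (e.symm (1, (v : PS)) : C ⧸ N) := fun u v huv => by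
      rw [← hinc, ← hinc, ← hπj, ← hπj, ← map_inv, ← map_mul, ← map_mul]
      exact congrArg π (Subtype.ext huv)
    have hb := hC1 _ _ hp''
    have he : (e τ').2 * p' * (e τ').2⁻¹ = p'' := by
      have h1 : τ' * e.symm (1, (p' : PS)) * τ'⁻¹ = e.symm (1, (p'' : PS)) := by
        refine Subtype.ext ?_
        show (π xC * e.symm (1, g) * (π xC)⁻¹ : C ⧸ N) * e.symm (1, (p' : PS)) *
          (π xC * e.symm (1, g) * (π xC)⁻¹ : C ⧸ N)⁻¹ = e.symm (1, (p'' : PS))
        rw [← hC1 p p' hpp, ← hb, ← hsub g (1, (p : PS))]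
        group
      have h2 := congrArg e h1
      rw [map_mul, map_mul, map_inv, e.apply_symm_apply, e.apply_symm_apply] at h2
      exact congrArg Prod.snd h2
    refine ⟨he ▸ p''.2, hp''.trans ?_⟩
    congr 2
    exact Subtype.ext he.symm

end CfsgLib.JankoThompson
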