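import Cfsg.Agent.Lib.JankoThompson.Str

/-!
A generalised dihedral subgroup with nontrivial translations grows; a maximal one exists.
-/

set_option autoImplicit false

namespace CfsgLib.JankoThompson

open Subgroup

variable {G : Type*} [Group G] {t : G} {E W R Q : Subgroup G} {n : ℕ} {l : G}

theorem Act.normalizes_E (h : Elem t E W n) (a : Act t W l) : ∀ e ∈ E, l * e * l⁻¹ ∈ E := by
  intro e he
  rcases h.split e he with hw | hw
  · exact h.WE (a.lW e hw)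
  · rw [show l * e * l⁻¹ = t * (l * (t * e) * l⁻¹) by
      calc l * e * l⁻¹ = l * (t * t * e) * l⁻¹ := by rw [h.tt, one_mul]
        _ = (l * t) * (t * e) * l⁻¹ := by group
        _ = (t * l) * (t * e) * l⁻¹ := by rw [a.lC]
        _ = t * (l * (t * e) * l⁻¹) := by group]
    exact mul_mem h.tE (h.WE (a.lW _ hw))

/-- The starting point. -/
theorem str_base [Finite G] (h : Elem t E W n) (a : Act t W l) {P₀ : Subgroup G}
    (hP2 : IsPGroup 2 P₀) (hEP : E < P₀) (hPN : P₀ ≤ normalizer (E : Set G)) : Str t E W E W l where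
  R2 := h.E_two
  ER := le_rfl
  QR := h.WE
  WQ := le_rfl
  tQ := h.tW
  split := h.split
  inv q hq := h.sq _ (mul_mem h.tE (h.WE hq))
  conjt q hq := by
    obtain ⟨g, -, hg⟩ := (h.orbit_eq hP2 hEP hPN).1 q hq
    exact isConj_iff.mpr ⟨g, hg⟩
  RW x hx := mem_centralizer_iff.mpr fun w hw => h.E_comm (h.WE hw) hx
  act := a
  lR := a.normalizes_E h
  lQ := a.lW

namespace Elem

variable [Finite G] (h : Elem t E W n)
include h

theorem cardC : ∃ d, Odd d ∧ Nat.card ↥(centralizer ({t} : Set G)) = 2 ^ (n + 1) * d := by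
  haveI : Fact (Nat.Prime 2) := ⟨Nat.prime_two⟩
  obtain ⟨S⟩ : Nonempty (Sylow 2 ↥(centralizer ({t} : Set G))) := inferInstance
  obtain ⟨S', hS'⟩ := IsPGroup.exists_le_sylow
    (h.E_two.comap_subtype (K := centralizer ({t} : Set G)))
  have h1 : 2 ^ (n + 1) ≤ Nat.card S' := by
    have := Subgroup.card_le_of_le hS'
    rwa [show Nat.card ↥(E.comap (centralizer ({t} : Set G)).subtype) = Nat.card E from
      Nat.card_congr (subgroupOfEquivOfLe h.EC).toEquiv, h.cardE] at this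
  have h2 := (h.card_le (P := (S' : Subgroup _).map (centralizer ({t} : Set G)).subtype)
    (S'.2.map _) (map_subtype_le _)).1
  rw [card_map_of_injective (Subgroup.subtype_injective _)] at h2
  have h3 := card_mul_index (S' : Subgroup ↥(centralizer ({t} : Set G)))
  rw [le_antisymm h2 h1] at h3
  refine ⟨_, ?_, h3.symm⟩
  rw [← Nat.not_even_iff_odd, even_iff_two_dvd]
  exact S'.not_dvd_index

end Elem

namespace Str

variable [Finite G] (h : Elem t E W n) (s : Str t E W R Q l)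
include h s

theorem grow {m : ℕ} (hm : ∀ x ∈ Q, (x ^ 2 ^ m = 1 ↔ ∃ y ∈ Q, y * y = x))
    (hψ : ∀ x ∈ Q, x ^ 2 ^ m ∈ W) {g₀ : G} (hg₀ : g₀ ∈ normalizer (R : Set G) ⊓ centralizer (W : Set G))
    (hg₀1 : disp t g₀ ^ 2 ^ m ≠ 1) :
    ∃ R₁ Q₁ : Subgroup G, ∃ l₁ : G, Str t E W R₁ Q₁ l₁ ∧ R < R₁ ∧
      ∀ w ∈ W, l₁ * w * l₁⁻¹ = l * w * l⁻¹ := by
  classical
  haveI : Fact (Nat.Prime 2) := ⟨Nat.prime_two⟩
  set U : Subgroup G := normalizer (R : Set G) ⊓ centralizer (W : Set G) with hU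
  have hCW : ∀ {x : G}, x ∈ centralizer (W : Set G) → ∀ {w : G}, w ∈ W → x * w * x⁻¹ = w :=
    fun {x} hx {w} hw => by rw [← mem_centralizer_iff.mp hx w hw, mul_inv_cancel_right]
  have hUN : ∀ {x : G}, x ∈ U → x ∈ NW R W := fun {x} hx =>
    ⟨hx.1, mem_normalizer_fintype fun w hw => by
      show x * w * x⁻¹ ∈ W
      rw [hCW hx.2 hw]; exact hw⟩
  -- translations
  have hcmem : ∀ {x : G}, x ∈ NW R W → disp t x ^ 2 ^ m ∈ W := fun {x} hx =>
    hψ _ (s.disp_mem' h hx.1 (NW_conj hx))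
  let c : U →* W :=
    { toFun := fun x => ⟨disp t x.1 ^ 2 ^ m, hcmem (hUN x.2)⟩
      map_one' := Subtype.ext (by
        show disp t (1 : G) ^ 2 ^ m = 1
        rw [show disp t (1 : G) = 1 by unfold disp; rw [one_mul, inv_one, mul_one, h.tt], one_pow])
      map_mul' := fun x y => Subtype.ext (by
        show disp t (x.1 * y.1) ^ 2 ^ m = disp t x.1 ^ 2 ^ m * disp t y.1 ^ 2 ^ m
        rw [s.cocycle h (hUN x.2) (hUN y.2), hCW x.2.2 (hcmem (hUN y.2))]) }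
  have hlU : ∀ x ∈ U, l * x * l⁻¹ ∈ U := by
    intro x hx
    have hlR : l ∈ normalizer (R : Set G) := (s.l_mem h).1
    have hx1 : l * x * l⁻¹ ∈ normalizer (R : Set G) := mul_mem (mul_mem hlR hx.1) (inv_mem hlR)
    refine ⟨hx1, mem_centralizer_iff.mpr fun w hw => ?_⟩
    have hsurj : Function.Surjective (fun y : W => (⟨l * y * l⁻¹, s.act.lW y y.2⟩ : W)) :=
      Finite.injective_iff_surjective.mp fun a b hab =>
        Subtype.ext (by simpa using congrArg Subtype.val hab)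
    obtain ⟨v, hv⟩ := hsurj ⟨w, hw⟩
    have hv' : l * (v : G) * l⁻¹ = w := congrArg Subtype.val hv
    rw [← hv']
    calc l * (v : G) * l⁻¹ * (l * x * l⁻¹) = l * ((v : G) * x) * l⁻¹ := by group
      _ = l * (x * (v : G)) * l⁻¹ := by rw [mem_centralizer_iff.mp hx.2 v.1 v.2]
      _ = l * x * l⁻¹ * (l * (v : G) * l⁻¹) := by group
  have hdispl : ∀ x : G, disp t (l * x * l⁻¹) = l * disp t x * l⁻¹ := by
    intro x
    have hc : l⁻¹ * t = t * l⁻¹ := (show Commute l t from s.act.lC).inv_left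
    unfold disp
    calc t * (l * x * l⁻¹ * t * (l * x * l⁻¹)⁻¹) = t * (l * x * (l⁻¹ * t) * l * x⁻¹ * l⁻¹) := by group
      _ = t * (l * x * (t * l⁻¹) * l * x⁻¹ * l⁻¹) := by rw [hc]
      _ = (t * l) * (x * t * x⁻¹) * l⁻¹ := by group
      _ = (l * t) * (x * t * x⁻¹) * l⁻¹ := by rw [s.act.lC]
      _ = l * (t * (x * t * x⁻¹)) * l⁻¹ := by group
  have hc_surj : Function.Surjective c := by
    intro w
    rcases eq_or_ne w 1 with rfl | hw1
    · exact ⟨1, map_one c⟩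
    refine s.act.all_of_one (S := fun v => ∀ hv : v ∈ W, ∃ x : U, c x = ⟨v, hv⟩) ?_
      (hcmem (hUN hg₀)) hg₀1 (fun hv => ⟨⟨g₀, hg₀⟩, rfl⟩) w.1 w.2 (fun e => hw1 (Subtype.ext e)) w.2
    intro v hv hS hv'
    obtain ⟨x, hx⟩ := hS hv
    refine ⟨⟨_, hlU x.1 x.2⟩, Subtype.ext ?_⟩
    show disp t (l * x.1 * l⁻¹) ^ 2 ^ m = l * v * l⁻¹
    rw [hdispl, conj_pow, show disp t x.1 ^ 2 ^ m = v from congrArg Subtype.val hx]
  -- a Sylow subgroup of `U` over `R`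
  have hRU : R ≤ U := le_inf le_normalizer s.RW
  obtain ⟨Sy, hSy⟩ := IsPGroup.exists_le_sylow (s.R2.comap_subtype (K := U))
  set R₁ : Subgroup G := (Sy : Subgroup U).map U.subtype with hR₁
  have hR₁U : R₁ ≤ U := map_subtype_le _
  have hR₁2 : IsPGroup 2 R₁ := Sy.2.map _
  have hRR₁ : R ≤ R₁ := fun x hx => ⟨⟨x, hRU hx⟩, hSy hx, rfl⟩
  have hSyc : ∀ w : W, ∃ x ∈ (Sy : Subgroup U), c x = w := by
    intro w
    have htop : ((Sy.mapSurjective (f := c) hc_surj : Sylow 2 W) : Subgroup W) = ⊤ :=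
      ((Sy.mapSurjective (f := c) hc_surj).is_maximal'
        ((pGroup_of_sq fun e he => h.sq e (h.WE he)).of_equiv Subgroup.topEquiv.symm) le_top).symm
    have hw : w ∈ ((Sy.mapSurjective (f := c) hc_surj : Sylow 2 W) : Subgroup W) := htop ▸ mem_top w
    obtain ⟨x, hx, hxw⟩ := hw
    exact ⟨x, hx, hxw⟩
  -- an element of `C(t)` normalising it, acting on `W` like `l`
  let φl : U →* U :=
    { toFun := fun x => ⟨l * x * l⁻¹, hlU x.1 x.2⟩
      map_one' := Subtype.ext (by simp)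
      map_mul' := fun x y => Subtype.ext (show l * (x.1 * y.1) * l⁻¹ = l * x.1 * l⁻¹ * (l * y.1 * l⁻¹) by group) }
  have hφinj : Function.Injective φl := fun x y hxy =>
    Subtype.ext (by simpa [φl] using congrArg Subtype.val hxy)
  obtain ⟨v, hv⟩ := MulAction.exists_smul_eq U
    (Sy.mapSurjective (f := φl) (Finite.injective_iff_surjective.mp hφinj)) Sy
  have hvl : ∀ x ∈ R₁, (v : G) * (l * x * l⁻¹) * (v : G)⁻¹ ∈ R₁ := by
    rintro _ ⟨x, hx, rfl⟩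
    refine ⟨v * φl x * v⁻¹, ?_, rfl⟩
    have hmem : v * φl x * v⁻¹ ∈ ((v • Sy.mapSurjective (f := φl)
        (Finite.injective_iff_surjective.mp hφinj) : Sylow 2 U) : Subgroup U) := by
      rw [Sylow.coe_subgroup_smul]
      exact Subgroup.smul_mem_pointwise_smul _ (MulAut.conj v) _ (mem_map_of_mem φl hx)
    rwa [hv] at hmem
  obtain ⟨r, hr, hrv⟩ := hSyc (c v)⁻¹
  set g : G := (r : G) * v * l with hg
  have hrvU : ((r : G) * v) ∈ U := mul_mem r.2 v.2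
  have hgN : g ∈ NW R W := mul_mem (hUN hrvU) (s.l_mem h)
  have hg0 : disp t g ^ 2 ^ m = 1 := by
    rw [hg, s.cocycle h (hUN hrvU) (s.l_mem h), s.disp_l h, one_pow, mul_one, mul_inv_cancel, mul_one]
    exact congrArg Subtype.val (show c (⟨_, hrvU⟩ : U) = 1 by
      rw [show (⟨(r : G) * v, hrvU⟩ : U) = r * v from rfl, map_mul, hrv, inv_mul_cancel])
  obtain ⟨q, hq, hqc⟩ := s.exists_fix h hm hgN hg0
  have hqgW : ∀ w ∈ W, q * g * w * (q * g)⁻¹ = l * w * l⁻¹ := by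
    intro w hw
    have hlw := s.act.lW w hw
    calc q * g * w * (q * g)⁻¹ = q * ((r : G) * v * (l * w * l⁻¹) * ((r : G) * v)⁻¹) * q⁻¹ := by
          rw [hg]; group
      _ = q * (l * w * l⁻¹) * q⁻¹ := by rw [hCW hrvU.2 hlw]
      _ = l * w * l⁻¹ := hCW (s.RW (s.QR hq)) hlw
  have hqgR₁ : ∀ x ∈ R₁, q * g * x * (q * g)⁻¹ ∈ R₁ := by
    intro x hx
    have hq₁ : q ∈ R₁ := hRR₁ (s.QR hq)
    have hr₁ : (r : G) ∈ R₁ := ⟨r, hr, rfl⟩
    rw [show q * g * x * (q * g)⁻¹ = (q * r) * ((v : G) * (l * x * l⁻¹) * (v : G)⁻¹) * (q * r)⁻¹ by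
      rw [hg]; group]
    exact mul_mem (mul_mem (mul_mem hq₁ hr₁) (hvl x hx)) (inv_mem (mul_mem hq₁ hr₁))
  -- its odd part
  set a := (orderOf (q * g)).factorization 2 with ha
  set o := orderOf l with ho
  have hco : Nat.Coprime (2 ^ a) o := Nat.Coprime.pow_left _
    (Nat.prime_two.coprime_iff_not_dvd.mpr fun hd => Nat.not_even_iff_odd.mpr s.act.lodd (even_iff_two_dvd.mpr hd))
  obtain ⟨k, hk⟩ : ∃ k, 2 ^ a * k ≡ 1 [MOD o] := by
    rcases Nat.lt_or_ge 1 o with h1 | h1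
    · obtain ⟨k, hk⟩ := Nat.exists_mul_mod_eq_one_of_coprime hco h1
      exact ⟨k, by rw [Nat.ModEq, hk.2, Nat.mod_eq_of_lt h1]⟩
    · refine ⟨0, ?_⟩
      have : o = 1 := le_antisymm h1 (orderOf_pos l)
      rw [this]
      exact Nat.modEq_one
  set l₂ : G := (q * g) ^ (2 ^ a * k) with hl₂
  have hact : ∀ j : ℕ, ∀ w ∈ W, (q * g) ^ j * w * ((q * g) ^ j)⁻¹ = l ^ j * w * (l ^ j)⁻¹ := by
    intro j
    induction j with
    | zero => intro w _; simp
    | succ j ih =>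
      intro w hw
      calc (q * g) ^ (j + 1) * w * ((q * g) ^ (j + 1))⁻¹
          = q * g * ((q * g) ^ j * w * ((q * g) ^ j)⁻¹) * (q * g)⁻¹ := by
            rw [pow_succ']; generalize q * g = y; group
        _ = l * (l ^ j * w * (l ^ j)⁻¹) * l⁻¹ := by rw [ih w hw]; exact hqgW _ (s.act.pow_W j w hw)
        _ = l ^ (j + 1) * w * (l ^ (j + 1))⁻¹ := by rw [pow_succ']; group
  have hact₂ : ∀ j : ℕ, ∀ w ∈ W, l₂ ^ j * w * (l₂ ^ j)⁻¹ = l ^ j * w * (l ^ j)⁻¹ := by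
    intro j w hw
    rw [hl₂, ← pow_mul, hact _ w hw, pow_mul, show l ^ (2 ^ a * k) = l ^ 1 from pow_eq_pow_iff_modEq.mpr hk,
      pow_one]
  have hl₂W : ∀ w ∈ W, l₂ * w * l₂⁻¹ = l * w * l⁻¹ := fun w hw => by
    simpa using hact₂ 1 w hw
  have hl₂R : ∀ x ∈ R₁, l₂ * x * l₂⁻¹ ∈ R₁ := by
    have hN : q * g ∈ normalizer (R₁ : Set G) := mem_normalizer_fintype hqgR₁
    intro x hx
    exact (mem_normalizer_iff.mp (pow_mem hN (2 ^ a * k)) x).mp hx
  have hact' : Act t W l₂ :=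
    { lC := (show Commute (q * g) t from hqc).pow_left _
      lodd := by
        rw [← Nat.not_even_iff_odd, even_iff_two_dvd]
        intro hd
        have h1 : orderOf l₂ ∣ orderOf (q * g) / 2 ^ a := by
          refine orderOf_dvd_of_pow_eq_one ?_
          rw [hl₂, ← pow_mul, show 2 ^ a * k * (orderOf (q * g) / 2 ^ a) = orderOf (q * g) * k by
            rw [mul_comm (2 ^ a) k, mul_assoc, Nat.mul_div_cancel' (Nat.ordProj_dvd _ 2), mul_comm]]
          rw [pow_mul, pow_orderOf_eq_one, one_pow]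
        exact Nat.not_dvd_ordCompl Nat.prime_two (orderOf_pos (q * g)).ne' (hd.trans h1)
      lW := fun w hw => (hl₂W w hw) ▸ s.act.lW w hw
      reg := fun w hw hw1 w' hw' hw'1 => by
        obtain ⟨j, hj⟩ := s.act.reg w hw hw1 w' hw' hw'1
        exact ⟨j, (hact₂ j w hw).trans hj⟩ }
  have hqgQ : ∀ x ∈ Q, q * g * x * (q * g)⁻¹ ∈ Q := by
    have hN : q * g ∈ NW R W := mul_mem ⟨le_normalizer (s.QR hq), mem_normalizer_fintype fun w hw => by
      show q * w * q⁻¹ ∈ W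
      rw [hCW (s.RW (s.QR hq)) hw]; exact hw⟩ hgN
    exact s.normalizes_Q h hN.1 (NW_conj hN)
  have hl₂Q : ∀ x ∈ Q, l₂ * x * l₂⁻¹ ∈ Q := by
    have hN : q * g ∈ normalizer (Q : Set G) := mem_normalizer_fintype hqgQ
    intro x hx
    exact (mem_normalizer_iff.mp (pow_mem hN (2 ^ a * k)) x).mp hx
  have hl₂Qpow : ∀ j : ℕ, ∀ x ∈ Q, l₂ ^ j * x * (l₂ ^ j)⁻¹ ∈ Q := by
    have hN : l₂ ∈ normalizer (Q : Set G) := mem_normalizer_fintype hl₂Q
    intro j x hx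
    exact (mem_normalizer_iff.mp (pow_mem hN j) x).mp hx
  -- `R₁ / Q` is elementary abelian
  have hR₁NW : ∀ {x : G}, x ∈ R₁ → x ∈ NW R W := fun {x} hx => hUN (hR₁U hx)
  have hsq : ∀ x ∈ R₁, x * x ∈ Q := by
    intro x hx
    by_cases hxR : x ∈ R
    · rcases s.split x hxR with h1 | h1
      · exact mul_mem h1 h1
      · have := s.inv _ h1
        rw [← mul_assoc t t x, h.tt, one_mul] at this
        rw [this]; exact one_mem Q
    have hx2R : x * x ∈ R := s.mem_R_of_fix h hm (hUN (mul_mem (hR₁U hx) (hR₁U hx)))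
      hR₁2 hRR₁ (mul_mem hx hx) (by
        rw [s.cocycle h (hR₁NW hx) (hR₁NW hx), hCW (hR₁U hx).2 (hcmem (hR₁NW hx))]
        exact h.sq _ (h.WE (hcmem (hR₁NW hx))))
    refine (s.split _ hx2R).resolve_right fun h1 => hxR ?_
    refine s.mem_R_of_fix h hm (hR₁NW hx) hR₁2 hRR₁ hx ?_
    have hd : disp t x * (x * (t * (x * x)) * x⁻¹) = t * (x * x) := by
      unfold disp
      calc t * (x * t * x⁻¹) * (x * (t * (x * x)) * x⁻¹) = t * x * (t * t) * (x * x) * x⁻¹ := by group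
        _ = t * (x * x) := by rw [h.tt]; group
    have h3 := congrArg (fun y => y ^ 2 ^ m) hd
    rw [(show Commute _ _ from s.Q_comm h (s.disp_mem' h (hR₁NW hx).1 (NW_conj (hR₁NW hx)))
      (s.normalizes_Q h (hR₁NW hx).1 (NW_conj (hR₁NW hx)) _ h1)).mul_pow, conj_pow,
      hCW (hR₁U hx).2 (hψ _ h1)] at h3
    exact mul_eq_right.mp h3
  haveI hQn : (Q.subgroupOf R₁).Normal := ⟨fun y hy x => by
    simp only [mem_subgroupOf, Subgroup.coe_mul, Subgroup.coe_inv] at hy ⊢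
    exact s.normalizes_Q h (hR₁NW x.2).1 (NW_conj (hR₁NW x.2)) _ hy⟩
  let mkA : R₁ →* R₁ ⧸ Q.subgroupOf R₁ := QuotientGroup.mk' _
  have hA2 : ∀ y : R₁ ⧸ Q.subgroupOf R₁, y * y = 1 := fun y => QuotientGroup.induction_on y fun x =>
    (QuotientGroup.eq_one_iff _).mpr (hsq x.1 x.2)
  letI : CommGroup (R₁ ⧸ Q.subgroupOf R₁) :=
    { (inferInstance : Group (R₁ ⧸ Q.subgroupOf R₁)) with
      mul_comm := fun y z => by
        calc y * z = y⁻¹ * z⁻¹ := by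
              rw [inv_eq_of_mul_eq_one_right (hA2 y), inv_eq_of_mul_eq_one_right (hA2 z)]
          _ = (z * y)⁻¹ := (mul_inv_rev z y).symm
          _ = z * y := inv_eq_of_mul_eq_one_right (hA2 _) }
  have hl₂pow : ∀ j : ℕ, ∀ x ∈ R₁, l₂ ^ j * x * (l₂ ^ j)⁻¹ ∈ R₁ := by
    intro j
    induction j with
    | zero => intro x hx; simpa using hx
    | succ j ih =>
      intro x hx
      have := hl₂R _ (ih x hx)
      rw [pow_succ']
      simpa [mul_assoc] using this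
  let φ : ℕ → (R₁ →* R₁) := fun j =>
    { toFun := fun x => ⟨l₂ ^ j * x * (l₂ ^ j)⁻¹, hl₂pow j x.1 x.2⟩
      map_one' := Subtype.ext (by simp)
      map_mul' := fun x y => Subtype.ext (show l₂ ^ j * (x.1 * y.1) * (l₂ ^ j)⁻¹ =
        l₂ ^ j * x.1 * (l₂ ^ j)⁻¹ * (l₂ ^ j * y.1 * (l₂ ^ j)⁻¹) by group) }
  set o₂ := orderOf l₂ with ho₂
  let N : R₁ →* R₁ ⧸ Q.subgroupOf R₁ := ∏ j ∈ Finset.range o₂, mkA.comp (φ j)
  have hN : ∀ x, N x = ∏ j ∈ Finset.range o₂, mkA (φ j x) := fun x => by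
    simp [N, MonoidHom.finsetProd_apply]
  have hφo : ∀ x, φ o₂ x = φ 0 x := fun x => Subtype.ext (by
    show l₂ ^ o₂ * x.1 * (l₂ ^ o₂)⁻¹ = l₂ ^ 0 * x.1 * (l₂ ^ 0)⁻¹
    rw [ho₂, pow_orderOf_eq_one, pow_zero])
  have hshift : ∀ x, N (φ 1 x) = N x := by
    intro x
    rw [hN, hN]
    have h1 : ∀ j, mkA (φ j (φ 1 x)) = mkA (φ (j + 1) x) := fun j => congrArg mkA (Subtype.ext (by
      show l₂ ^ j * (l₂ ^ 1 * x.1 * (l₂ ^ 1)⁻¹) * (l₂ ^ j)⁻¹ = l₂ ^ (j + 1) * x.1 * (l₂ ^ (j + 1))⁻¹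
      rw [pow_one, pow_succ]; generalize l₂ ^ j = y; group))
    simp only [h1]
    have h2 := Finset.prod_range_succ' (fun j => mkA (φ j x)) o₂
    rw [Finset.prod_range_succ, hφo] at h2
    exact (mul_right_cancel h2).symm
  let cc : R₁ →* W := c.comp (Subgroup.inclusion hR₁U)
  have hccQ : Q.subgroupOf R₁ ≤ cc.ker := fun x hx => by
    refine MonoidHom.mem_ker.mpr (Subtype.ext ?_)
    have hd : disp t x.1 = (x.1⁻¹) * x.1⁻¹ := by
      unfold disp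
      rw [show t * (x.1 * t * x.1⁻¹) = t * x.1 * t * x.1⁻¹ by group, s.conj_eq_inv h (show x.1 ∈ Q from hx)]
    show disp t x.1 ^ 2 ^ m = 1
    rw [hd]
    exact (hm _ (mul_mem (inv_mem hx) (inv_mem hx))).mpr ⟨_, inv_mem hx, rfl⟩
  let cA : R₁ ⧸ Q.subgroupOf R₁ →* W := QuotientGroup.lift _ cc hccQ
  have hNc : ∀ x, cA (N x) = 1 := by
    intro x
    by_contra hne
    have hfix : l₂ * (cA (N x) : G) * l₂⁻¹ = cA (N x) := by
      have key : ∀ y : R₁, (cc (φ 1 y) : G) = l₂ * (cc y : G) * l₂⁻¹ := by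
        intro y
        show disp t (l₂ ^ 1 * y.1 * (l₂ ^ 1)⁻¹) ^ 2 ^ m = l₂ * (disp t y.1 ^ 2 ^ m) * l₂⁻¹
        rw [pow_one, ← conj_pow]
        congr 1
        have hc : l₂⁻¹ * t = t * l₂⁻¹ := (show Commute l₂ t from hact'.lC).inv_left
        unfold disp
        calc t * (l₂ * y.1 * l₂⁻¹ * t * (l₂ * y.1 * l₂⁻¹)⁻¹)
            = t * (l₂ * y.1 * (l₂⁻¹ * t) * l₂ * y.1⁻¹ * l₂⁻¹) := by group
          _ = (t * l₂) * (y.1 * t * y.1⁻¹) * l₂⁻¹ := by rw [hc]; group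
          _ = (l₂ * t) * (y.1 * t * y.1⁻¹) * l₂⁻¹ := by rw [hact'.lC]
          _ = l₂ * (t * (y.1 * t * y.1⁻¹)) * l₂⁻¹ := by group
      let ψ : R₁ ⧸ Q.subgroupOf R₁ →* R₁ ⧸ Q.subgroupOf R₁ :=
        QuotientGroup.map _ _ (φ 1) (fun z hz => hl₂Qpow 1 z.1 hz)
      obtain ⟨y, hy⟩ := QuotientGroup.mk'_surjective _ (N x)
      have e1 : mkA (φ 1 y) = N x := by
        calc mkA (φ 1 y) = ψ (mkA y) := rfl
          _ = ψ (N x) := by rw [show mkA y = N x from hy]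
          _ = ∏ j ∈ Finset.range o₂, ψ (mkA (φ j x)) := by rw [hN, map_prod]
          _ = N (φ 1 x) := by
            rw [hN]
            refine Finset.prod_congr rfl fun j _ => congrArg mkA (Subtype.ext ?_)
            show l₂ ^ 1 * (l₂ ^ j * x.1 * (l₂ ^ j)⁻¹) * (l₂ ^ 1)⁻¹ =
              l₂ ^ j * (l₂ ^ 1 * x.1 * (l₂ ^ 1)⁻¹) * (l₂ ^ j)⁻¹
            group
          _ = N x := hshift x
      rw [show cA (N x) = cc y by rw [← hy]; rfl, ← key y]
      exact congrArg Subtype.val (show cA (mkA (φ 1 y)) = cA (mkA y) from congrArg cA (e1.trans hy.symm))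
    have hall := hact'.fix_all (j := 1) (cA (N x)).2 (fun e => hne (Subtype.ext e)) (by rw [pow_one]; exact hfix)
    have hfixpow : ∀ j : ℕ, ∀ w ∈ W, l₂ ^ j * w * (l₂ ^ j)⁻¹ = w := by
      intro j
      induction j with
      | zero => intro w _; simp
      | succ j ih =>
        intro w hw
        calc l₂ ^ (j + 1) * w * (l₂ ^ (j + 1))⁻¹ = l₂ * (l₂ ^ j * w * (l₂ ^ j)⁻¹) * l₂⁻¹ := by
              rw [pow_succ']; group
          _ = l₂ * w * l₂⁻¹ := by rw [ih w hw]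
          _ = w := by simpa using hall w hw
    have hW2 : Nat.card W ≤ 2 := by
      have := Nat.card_le_card_of_injective (fun w : W => decide ((w : G) = 1)) (fun w w' hww => by
        simp only [decide_eq_decide] at hww
        by_cases h1 : (w : G) = 1
        · exact Subtype.ext (h1.trans (hww.mp h1).symm)
        · obtain ⟨j, hj⟩ := hact'.reg w w.2 h1 w' w'.2 (fun e => h1 (hww.mpr e))
          exact Subtype.ext ((hfixpow j w w.2).symm.trans hj))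
      simpa using this
    rw [h.cardW] at hW2
    have : 2 ^ 2 ≤ 2 ^ n := Nat.pow_le_pow_right two_pos h.two_le
    omega
  have hcR : ∀ x : R₁, cc x = 1 → x.1 ∈ R := fun x hx =>
    s.mem_R_of_fix h hm (hR₁NW x.2) hR₁2 hRR₁ x.2 (congrArg Subtype.val hx)
  have htR₁ : t ∈ R₁ := hRR₁ (s.tR h)
  have hNt : N ⟨t, htR₁⟩ = mkA ⟨t, htR₁⟩ := by
    rw [hN, Finset.prod_congr rfl (g := fun _ => mkA ⟨t, htR₁⟩) (fun j _ => congrArg mkA (Subtype.ext (by
      show l₂ ^ j * t * (l₂ ^ j)⁻¹ = t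
      rw [hact'.pow_comm j, mul_inv_cancel_right]))), Finset.prod_const, Finset.card_range]
    obtain ⟨i, hi⟩ := hact'.lodd
    rw [ho₂, hi, pow_succ, pow_mul, pow_two, hA2, one_pow, one_mul]
  have hmkt : mkA ⟨t, htR₁⟩ ≠ 1 := fun e => s.tQ (show (⟨t, htR₁⟩ : R₁) ∈ Q.subgroupOf R₁ from
    (QuotientGroup.eq_one_iff _).mp e)
  have hNval : ∀ x, N x = 1 ∨ N x = mkA ⟨t, htR₁⟩ := by
    intro x
    obtain ⟨y, hy⟩ := QuotientGroup.mk'_surjective _ (N x)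
    have hyR : y.1 ∈ R := hcR y (by
      have := hNc x
      rwa [← hy] at this)
    rcases s.split _ hyR with h1 | h1
    · left; rw [← hy]; exact (QuotientGroup.eq_one_iff _).mpr h1
    · right
      rw [← hy]
      refine (QuotientGroup.eq.mpr ?_).symm
      show (⟨t, htR₁⟩ : R₁)⁻¹ * y ∈ Q.subgroupOf R₁
      simpa [mem_subgroupOf, inv_eq_of_mul_eq_one_right h.tt] using h1
  set Q₁ : Subgroup G := N.ker.map R₁.subtype with hQ₁
  have hmemQ₁ : ∀ {x : G} (hx : x ∈ R₁), x ∈ Q₁ ↔ N ⟨x, hx⟩ = 1 := fun {x} hx =>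
    ⟨fun ⟨y, hy, hyx⟩ => by rw [show (⟨x, hx⟩ : R₁) = y from Subtype.ext hyx.symm]; exact hy,
      fun h1 => ⟨⟨x, hx⟩, h1, rfl⟩⟩
  have hQ₁R : Q₁ ≤ R₁ := map_subtype_le _
  have hQQ₁ : Q ≤ Q₁ := by
    intro x hx
    refine (hmemQ₁ (hRR₁ (s.QR hx))).mpr ?_
    rw [hN]
    exact Finset.prod_eq_one fun j _ => (QuotientGroup.eq_one_iff _).mpr (hl₂Qpow j x hx)
  have htQ₁ : t ∉ Q₁ := fun e => hmkt (hNt ▸ (hmemQ₁ htR₁).mp e)
  have hsplit₁ : ∀ x ∈ R₁, x ∈ Q₁ ∨ t * x ∈ Q₁ := by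
    intro x hx
    rcases hNval ⟨x, hx⟩ with h1 | h1
    · exact Or.inl ((hmemQ₁ hx).mpr h1)
    · refine Or.inr ((hmemQ₁ (mul_mem htR₁ hx)).mpr ?_)
      rw [show (⟨t * x, mul_mem htR₁ hx⟩ : R₁) = ⟨t, htR₁⟩ * ⟨x, hx⟩ from rfl, map_mul, hNt, h1, hA2]
  have hQ₁l : ∀ x ∈ Q₁, l₂ * x * l₂⁻¹ ∈ Q₁ := by
    intro x hx
    refine (hmemQ₁ (hl₂R x (hQ₁R hx))).mpr ?_
    rw [show (⟨l₂ * x * l₂⁻¹, hl₂R x (hQ₁R hx)⟩ : R₁) = φ 1 ⟨x, hQ₁R hx⟩ from Subtype.ext (by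
      show _ = l₂ ^ 1 * x * (l₂ ^ 1)⁻¹
      rw [pow_one]), hshift]
    exact (hmemQ₁ (hQ₁R hx)).mp hx
  have hRQ₁ : ∀ {x : G}, x ∈ R → x ∈ Q₁ → x ∈ Q := fun {x} hx hx1 =>
    (s.split x hx).resolve_right fun h1 => htQ₁ (by
      have := mul_mem (hQQ₁ h1) (inv_mem hx1)
      rwa [mul_inv_cancel_right] at this)
  -- `|R₁| = 2ⁿ |R|`
  have hcardR₁ : Nat.card R₁ = 2 ^ (n + 1) * Nat.card Q := by
    have hker : cc.ker = R.subgroupOf R₁ := by
      ext x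
      refine ⟨fun hx => hcR x (MonoidHom.mem_ker.mp hx), fun hx => ?_⟩
      rcases s.split x.1 hx with h1 | h1
      · exact hccQ h1
      · have hx' : cc x = cc ⟨t, htR₁⟩ * cc ⟨t * x.1, mul_mem htR₁ x.2⟩ := by
          rw [← map_mul]; congr 1; exact Subtype.ext (by simp [← mul_assoc, h.tt])
        have ht0 : cc ⟨t, htR₁⟩ = 1 := Subtype.ext (by
          show disp t t ^ 2 ^ m = 1
          rw [show disp t t = 1 by unfold disp; rw [mul_inv_cancel_right, h.tt], one_pow])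
        refine MonoidHom.mem_ker.mpr ?_
        rw [hx', ht0, one_mul]
        exact hccQ h1
    have hsur : Function.Surjective cc := fun w => by
      obtain ⟨y, hy, hyw⟩ := hSyc w
      exact ⟨⟨y, ⟨y, hy, rfl⟩⟩, hyw⟩
    have h1 := card_mul_index cc.ker
    rw [index_ker, MonoidHom.range_eq_top.mpr hsur, card_top, h.cardW, hker,
      Nat.card_congr (subgroupOfEquivOfLe hRR₁).toEquiv, s.cardR h] at h1
    rw [← h1, pow_succ]; ring
  have hRlt : R < R₁ := lt_of_le_of_ne hRR₁ fun e => by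
    have h1 := hcardR₁
    rw [← e, s.cardR h, pow_succ, mul_comm _ 2, mul_assoc] at h1
    have := Nat.eq_of_mul_eq_mul_left two_pos h1
    have h2 : 2 ≤ 2 ^ n := Nat.le_self_pow (by have := h.two_le; omega) 2
    have h3 := Nat.card_pos (α := Q)
    nlinarith
  -- some further conjugate of `t`
  have hex : ∃ x ∈ Q₁, x ∉ Q ∧ IsConj t (t * x) := by
    by_contra hno
    push Not at hno
    obtain ⟨d, hd, hC⟩ := h.cardC
    have hrel : Q₁.relIndex R₁ = 2 := by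
      show (Q₁.subgroupOf R₁).index = 2
      rw [Subgroup.index_eq_two_iff']
      refine ⟨⟨t, htR₁⟩, fun e => ?_⟩
      simp only [mem_subgroupOf, Subgroup.coe_mul]
      rcases hsplit₁ e.1 e.2 with he | he
      · refine Or.inr ⟨he, fun hc => htQ₁ ?_⟩
        have := mul_mem hc (inv_mem he)
        simpa [mul_assoc] using this
      · refine Or.inl ⟨he, fun hc => htQ₁ ?_⟩
        have := mul_mem he (inv_mem hc)
        simpa [mul_assoc] using this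
    haveI := h.simple
    refine transfer_odd h.noncomm hQ₁R hrel h.tt hd ?_
    have hM : Nat.card {u : G // u ∈ R₁ ∧ u ∉ Q₁ ∧ IsConj t u} = Nat.card Q := by
      refine Nat.card_congr
        { toFun := fun u => ⟨t * u.1, by
            by_contra hq'
            exact hno _ ((hsplit₁ u.1 u.2.1).resolve_left u.2.2.1) hq'
              (by rw [← mul_assoc, h.tt, one_mul]; exact u.2.2.2)⟩
          invFun := fun x => ⟨t * x.1, mul_mem htR₁ (hRR₁ (s.QR x.2)), fun h1 => htQ₁ (by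
            have := mul_mem h1 (inv_mem (hQQ₁ x.2))
            rwa [mul_inv_cancel_right] at this), s.conjt x.1 x.2⟩
          left_inv := fun u => Subtype.ext (by simp [← mul_assoc, h.tt])
          right_inv := fun x => Subtype.ext (by simp [← mul_assoc, h.tt]) }
    rw [hM, hC, hcardR₁]; ring
  obtain ⟨x₀, hx₀, hx₀Q, hx₀c⟩ := hex
  have hall : ∀ x ∈ Q₁, IsConj t (t * x) := by
    intro x hx
    by_cases hxR : x ∈ R
    · exact s.conjt x (hRQ₁ hxR hx)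
    have hne₀ : cc ⟨x₀, hQ₁R hx₀⟩ ≠ 1 := fun e => hx₀Q (hRQ₁ (hcR _ e) hx₀)
    have hne : cc ⟨x, hQ₁R hx⟩ ≠ 1 := fun e => hxR (hcR _ e)
    obtain ⟨j, hj⟩ := hact'.reg _ (cc ⟨x₀, hQ₁R hx₀⟩).2 (fun e => hne₀ (Subtype.ext e)) _
      (cc ⟨x, hQ₁R hx⟩).2 (fun e => hne (Subtype.ext e))
    set x₁ := l₂ ^ j * x₀ * (l₂ ^ j)⁻¹ with hx₁
    have hx₁Q : x₁ ∈ Q₁ := by
      have hN' : l₂ ∈ normalizer (Q₁ : Set G) := mem_normalizer_fintype hQ₁l
      exact (mem_normalizer_iff.mp (pow_mem hN' j) x₀).mp hx₀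
    have hconj : IsConj t (t * x₁) := hx₀c.trans (isConj_iff.mpr ⟨l₂ ^ j, by
      rw [hx₁, ← mul_assoc, hact'.pow_comm j]; group⟩)
    have hcc₁ : (cc ⟨x₁, hQ₁R hx₁Q⟩ : G) = cc ⟨x, hQ₁R hx⟩ := by
      refine Eq.trans ?_ hj
      show disp t x₁ ^ 2 ^ m = l₂ ^ j * (disp t x₀ ^ 2 ^ m) * (l₂ ^ j)⁻¹
      rw [← conj_pow]
      congr 1
      have hc : (l₂ ^ j)⁻¹ * t = t * (l₂ ^ j)⁻¹ := (show Commute (l₂ ^ j) t from hact'.pow_comm j).inv_left
      unfold disp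
      calc t * (x₁ * t * x₁⁻¹) = t * (l₂ ^ j * x₀ * ((l₂ ^ j)⁻¹ * t) * (l₂ ^ j) * x₀⁻¹ * (l₂ ^ j)⁻¹) := by
            rw [hx₁]; group
        _ = (t * l₂ ^ j) * (x₀ * t * x₀⁻¹) * (l₂ ^ j)⁻¹ := by rw [hc]; group
        _ = (l₂ ^ j * t) * (x₀ * t * x₀⁻¹) * (l₂ ^ j)⁻¹ := by rw [hact'.pow_comm j]
        _ = _ := by group
    have hq' : x₁⁻¹ * x ∈ Q := by
      refine hRQ₁ (hcR ⟨_, hQ₁R (mul_mem (inv_mem hx₁Q) hx)⟩ ?_) (mul_mem (inv_mem hx₁Q) hx)
      rw [show (⟨x₁⁻¹ * x, hQ₁R (mul_mem (inv_mem hx₁Q) hx)⟩ : R₁) = ⟨x₁, hQ₁R hx₁Q⟩⁻¹ * ⟨x, hQ₁R hx⟩ from rfl,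
        map_mul, map_inv, show cc ⟨x₁, hQ₁R hx₁Q⟩ = cc ⟨x, hQ₁R hx⟩ from Subtype.ext hcc₁, inv_mul_cancel]
    -- the class of `t x₁` in `R₁` is the whole coset
    set u := t * x₁ with hu
    have huR₁ : u ∈ R₁ := mul_mem htR₁ (hQ₁R hx₁Q)
    let f : MulAction.orbit (ConjAct R₁) (⟨u, huR₁⟩ : R₁) → Q := fun y => ⟨u⁻¹ * y.1.1, by
      obtain ⟨z, hz⟩ := y.2
      have hval : (y.1 : R₁) = ConjAct.ofConjAct z * ⟨u, huR₁⟩ * (ConjAct.ofConjAct z)⁻¹ := by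
        rw [← hz]; rfl
      have h1 : mkA (y.1 : R₁) = mkA ⟨u, huR₁⟩ := by
        rw [hval, map_mul, map_mul, map_inv, mul_comm (mkA _) (mkA ⟨u, huR₁⟩), mul_inv_cancel_right]
      exact (QuotientGroup.eq.mp (show ((⟨u, huR₁⟩ : R₁) : R₁ ⧸ Q.subgroupOf R₁) = (y.1 : R₁) from h1.symm) :
        (⟨u, huR₁⟩ : R₁)⁻¹ * y.1 ∈ Q.subgroupOf R₁)⟩
    have hfinj : Function.Injective f := fun y z hyz =>
      Subtype.ext (Subtype.ext (mul_left_cancel (congrArg Subtype.val hyz)))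
    have hcard : Nat.card Q ≤ Nat.card (MulAction.orbit (ConjAct R₁) (⟨u, huR₁⟩ : R₁)) := by
      have h1 := Nat.card_congr (MulAction.orbitProdStabilizerEquivGroup (ConjAct R₁) (⟨u, huR₁⟩ : R₁))
      rw [Nat.card_prod, show Nat.card (ConjAct R₁) = Nat.card R₁ from rfl, hcardR₁] at h1
      have h2 : Nat.card (MulAction.stabilizer (ConjAct R₁) (⟨u, huR₁⟩ : R₁)) ≤ 2 ^ (n + 1) := by
        let P : Subgroup G := R₁ ⊓ centralizer ({u} : Set G)
        refine le_trans ?_ (h.conj_card_le (P := P) hconj (hR₁2.to_le inf_le_left)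
          (fun z hz => mem_centralizer_singleton_iff.mp hz.2)).1
        refine Nat.card_le_card_of_injective (fun z => (⟨(ConjAct.ofConjAct z.1 : R₁).1,
          (ConjAct.ofConjAct z.1 : R₁).2, mem_centralizer_singleton_iff.mpr ?_⟩ : P))
          (fun z z' hzz => Subtype.ext (ConjAct.ofConjAct.injective
            (Subtype.ext (congrArg (fun p : P => (p : G)) hzz))))
        have h3 : (ConjAct.ofConjAct z.1 : R₁) * ⟨u, huR₁⟩ * (ConjAct.ofConjAct z.1 : R₁)⁻¹ = ⟨u, huR₁⟩ :=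
          MulAction.mem_stabilizer_iff.mp z.2
        exact mul_inv_eq_iff_eq_mul.mp (congrArg Subtype.val h3)
      refine Nat.le_of_mul_le_mul_left ?_ (pow_pos two_pos (n + 1))
      rw [← h1, mul_comm (2 ^ (n + 1))]
      exact Nat.mul_le_mul_left _ h2
    obtain ⟨y, hy⟩ := ((Nat.bijective_iff_injective_and_card f).mpr
      ⟨hfinj, le_antisymm (Nat.card_le_card_of_injective f hfinj) hcard⟩).2 ⟨_, hq'⟩
    have hy' : y.1.1 = t * x := by
      have h1 : u⁻¹ * y.1.1 = x₁⁻¹ * x := congrArg Subtype.val hy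
      calc y.1.1 = u * (u⁻¹ * y.1.1) := by group
        _ = t * x := by rw [h1, hu]; group
    obtain ⟨z, hz⟩ := y.2
    rw [← hy']
    exact hconj.trans (isConj_iff.mpr ⟨(ConjAct.ofConjAct z : R₁).1, by rw [← hz]; rfl⟩)
  exact ⟨R₁, Q₁, l₂,
    { R2 := hR₁2
      ER := s.ER.trans hRR₁
      QR := hQ₁R
      WQ := s.WQ.trans hQQ₁
      tQ := htQ₁
      split := hsplit₁
      inv := fun x hx => by
        obtain ⟨g', hg'⟩ := isConj_iff.mp (hall x hx)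
        rw [← hg', show g' * t * g'⁻¹ * (g' * t * g'⁻¹) = g' * (t * t) * g'⁻¹ by group, h.tt]
        group
      conjt := hall
      RW := fun x hx => (hR₁U hx).2
      act := hact'
      lR := hl₂R
      lQ := hQ₁l }, hRlt, hl₂W⟩

end Str

end CfsgLib.JankoThompson
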