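import Mathlib

/-!
2-subgroups and their images modulo a normal subgroup of odd order.
-/

set_option autoImplicit false

namespace CfsgLib.JankoThompson

open Subgroup
open scoped Pointwise

variable {C : Type*} [Group C] [Finite C] {N : Subgroup C} [N.Normal] (hN : Odd (Nat.card N))
include hN

theorem eq_one_of_two {A : Subgroup C} (hA : IsPGroup 2 A) {x : C} (hx : x ∈ A)
    (h : (QuotientGroup.mk' N) x = 1) : x = 1 := by
  haveI : Fact (Nat.Prime 2) := ⟨Nat.prime_two⟩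
  obtain ⟨k, hk⟩ := hA ⟨x, hx⟩
  have hk' : x ^ 2 ^ k = 1 := congrArg Subtype.val hk
  have hxN : x ∈ N := (QuotientGroup.eq_one_iff x).mp h
  have h1 : orderOf x ∣ 2 ^ k := orderOf_dvd_of_pow_eq_one hk'
  have h2 : orderOf x ∣ Nat.card N := Subgroup.orderOf_dvd_natCard N hxN
  have h3 : Nat.Coprime (2 ^ k) (Nat.card N) := Nat.Coprime.pow_left _
    (Nat.prime_two.coprime_iff_not_dvd.mpr fun hd => Nat.not_even_iff_odd.mpr hN (even_iff_two_dvd.mpr hd))
  exact orderOf_eq_one_iff.mp (Nat.dvd_one.mp (h3 ▸ Nat.dvd_gcd h1 h2))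

theorem injOn_two {A : Subgroup C} (hA : IsPGroup 2 A) {x y : C} (hx : x ∈ A) (hy : y ∈ A)
    (h : (QuotientGroup.mk' N) x = (QuotientGroup.mk' N) y) : x = y :=
  inv_mul_eq_one.mp (eq_one_of_two hN hA (mul_mem (inv_mem hx) hy)
    (by rw [map_mul, map_inv, h, inv_mul_cancel]))

theorem card_map_two {A : Subgroup C} (hA : IsPGroup 2 A) :
    Nat.card (A.map (QuotientGroup.mk' N)) = Nat.card A := by
  refine Nat.card_congr (Equiv.ofBijective (fun x : A => (⟨_, mem_map_of_mem _ x.2⟩ : A.map (QuotientGroup.mk' N)))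
    ⟨fun x y hxy => Subtype.ext (injOn_two hN hA x.2 y.2 (congrArg Subtype.val hxy)), ?_⟩).symm
  rintro ⟨_, x, hx, rfl⟩
  exact ⟨⟨x, hx⟩, rfl⟩

omit hN in
theorem card_comap (B : Subgroup (C ⧸ N)) :
    Nat.card (B.comap (QuotientGroup.mk' N)) = Nat.card N * Nat.card B := by
  have h1 := card_mul_index (B.comap (QuotientGroup.mk' N))
  rw [index_comap_of_surjective B (QuotientGroup.mk'_surjective N),
    Subgroup.card_eq_card_quotient_mul_card_subgroup N, ← card_mul_index B,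
    mul_comm (Nat.card B * B.index), ← mul_assoc] at h1
  exact Nat.eq_of_mul_eq_mul_right (Nat.pos_of_ne_zero Subgroup.index_ne_zero_of_finite) h1

/-- A 2-subgroup with image `B` is a Sylow subgroup of the preimage of `B`. -/
theorem not_dvd_index_comap {A : Subgroup C} (hA : IsPGroup 2 A) {B : Subgroup (C ⧸ N)}
    (hAB : A.map (QuotientGroup.mk' N) = B) :
    ¬ 2 ∣ (A.subgroupOf (B.comap (QuotientGroup.mk' N))).index := by
  subst hAB
  have hle : A ≤ (A.map (QuotientGroup.mk' N)).comap (QuotientGroup.mk' N) := fun x hx => mem_map_of_mem _ hx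
  have h1 := card_mul_index (A.subgroupOf ((A.map (QuotientGroup.mk' N)).comap (QuotientGroup.mk' N)))
  rw [Nat.card_congr (subgroupOfEquivOfLe hle).toEquiv, card_comap, card_map_two hN hA,
    mul_comm (Nat.card N)] at h1
  rw [Nat.eq_of_mul_eq_mul_left Nat.card_pos h1]
  exact fun hd => Nat.not_even_iff_odd.mpr hN (even_iff_two_dvd.mpr hd)

/-- Two 2-subgroups with the same image are conjugate under `N`. -/
theorem conj_into {A B : Subgroup C} (hA : IsPGroup 2 A) (hB : IsPGroup 2 B)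
    (h : A.map (QuotientGroup.mk' N) = B.map (QuotientGroup.mk' N)) :
    ∃ k ∈ N, ∀ x ∈ A, k * x * k⁻¹ ∈ B := by
  haveI : Fact (Nat.Prime 2) := ⟨Nat.prime_two⟩
  set H := (A.map (QuotientGroup.mk' N)).comap (QuotientGroup.mk' N) with hH
  let PA : Sylow 2 H := (hA.comap_subtype (K := H)).toSylow (not_dvd_index_comap hN hA rfl)
  let PB : Sylow 2 H := (hB.comap_subtype (K := H)).toSylow (not_dvd_index_comap hN hB h.symm)
  obtain ⟨g, hg⟩ := MulAction.exists_smul_eq H PA PB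
  obtain ⟨a, ha, hag⟩ := g.2
  refine ⟨g.1 * a⁻¹, ?_, fun x hx => ?_⟩
  · refine (QuotientGroup.eq_one_iff (g.1 * a⁻¹)).mp ?_
    show (QuotientGroup.mk' N) (g.1 * a⁻¹) = 1
    rw [map_mul, map_inv, hag, mul_inv_cancel]
  · have hx' : a⁻¹ * x * a ∈ A := mul_mem (mul_mem (inv_mem ha) hx) ha
    have hxH : a⁻¹ * x * a ∈ H := mem_map_of_mem _ hx'
    have hmem : g * ⟨a⁻¹ * x * a, hxH⟩ * g⁻¹ ∈ (((g • PA : Sylow 2 H)) : Subgroup H) := by
      rw [Sylow.coe_subgroup_smul]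
      exact Subgroup.smul_mem_pointwise_smul _ (MulAut.conj g) _ hx'
    rw [hg] at hmem
    have h2 : g.1 * (a⁻¹ * x * a) * g.1⁻¹ ∈ B := hmem
    rwa [show g.1 * a⁻¹ * x * (g.1 * a⁻¹)⁻¹ = g.1 * (a⁻¹ * x * a) * g.1⁻¹ by group]

omit hN in
theorem exists_sylow_over (B : Subgroup (C ⧸ N)) (hB : IsPGroup 2 B) (hN : Odd (Nat.card N)) :
    ∃ T : Subgroup C, IsPGroup 2 T ∧ T.map (QuotientGroup.mk' N) = B := by
  haveI : Fact (Nat.Prime 2) := ⟨Nat.prime_two⟩
  set H := B.comap (QuotientGroup.mk' N) with hH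
  obtain ⟨S⟩ : Nonempty (Sylow 2 H) := inferInstance
  refine ⟨(S : Subgroup H).map H.subtype, S.2.map _, ?_⟩
  have hsur : Function.Surjective ((QuotientGroup.mk' N).subgroupComap B) :=
    MonoidHom.subgroupComap_surjective_of_surjective _ B (QuotientGroup.mk'_surjective N)
  have htop : ((S.mapSurjective (f := (QuotientGroup.mk' N).subgroupComap B) hsur : Sylow 2 B) : Subgroup B) = ⊤ :=
    ((S.mapSurjective (f := (QuotientGroup.mk' N).subgroupComap B) hsur).is_maximal'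
      (hB.of_equiv Subgroup.topEquiv.symm) le_top).symm
  refine le_antisymm ?_ fun y hy => ?_
  · rintro _ ⟨_, ⟨x, -, rfl⟩, rfl⟩
    exact x.2
  · have hy' : (⟨y, hy⟩ : B) ∈
        ((S.mapSurjective (f := (QuotientGroup.mk' N).subgroupComap B) hsur : Sylow 2 B) : Subgroup B) :=
      htop ▸ mem_top _
    obtain ⟨x, hx, hxy⟩ := hy'
    exact ⟨x.1, ⟨x, hx, rfl⟩, congrArg Subtype.val hxy⟩

/-- An element normalising the image can be corrected to normalise the 2-subgroup. -/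
theorem lift_normalizer {A : Subgroup C} (hA : IsPGroup 2 A) {c : C}
    (hc : ∀ x ∈ A, (QuotientGroup.mk' N) (c * x * c⁻¹) ∈ A.map (QuotientGroup.mk' N)) :
    ∃ k ∈ N, ∀ x ∈ A, k * c * x * (k * c)⁻¹ ∈ A := by
  have hA' : IsPGroup 2 (A.map (MulAut.conj c).toMonoidHom) := hA.map _
  have hle : (A.map (MulAut.conj c).toMonoidHom).map (QuotientGroup.mk' N) ≤
      A.map (QuotientGroup.mk' N) := by
    rintro _ ⟨_, ⟨x, hx, rfl⟩, rfl⟩
    exact hc x hx
  have heq := eq_of_le_of_card_ge hle (by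
    rw [card_map_two hN hA', card_map_two hN hA, card_map_of_injective (MulAut.conj c).injective])
  obtain ⟨k, hk, hkA⟩ := conj_into hN hA' hA heq
  refine ⟨k, hk, fun x hx => ?_⟩
  rw [show k * c * x * (k * c)⁻¹ = k * (c * x * c⁻¹) * k⁻¹ by group]
  exact hkA _ (mem_map_of_mem _ hx)

/-- Conjugacy of 2-elements lifts. -/
theorem lift_conj {x y c : C} (hx : ∃ k, x ^ 2 ^ k = 1) (hy : ∃ k, y ^ 2 ^ k = 1)
    (h : (QuotientGroup.mk' N) (c * x * c⁻¹) = (QuotientGroup.mk' N) y) :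
    ∃ k ∈ N, k * c * x * (k * c)⁻¹ = y := by
  have hz : ∀ z : C, (∃ k, z ^ 2 ^ k = 1) → IsPGroup 2 (zpowers z) := by
    rintro z ⟨k, hk⟩ ⟨_, i, rfl⟩
    refine ⟨k, Subtype.ext ?_⟩
    show (z ^ i) ^ 2 ^ k = 1
    rw [← zpow_natCast, ← zpow_mul, mul_comm, zpow_mul, zpow_natCast, hk, one_zpow]
  have hx' : ∃ k, (c * x * c⁻¹) ^ 2 ^ k = 1 := by
    obtain ⟨k, hk⟩ := hx
    exact ⟨k, by rw [conj_pow, hk]; group⟩
  obtain ⟨k, hk, hkA⟩ := conj_into hN (hz _ hx') (hz _ hy)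
    (by rw [MonoidHom.map_zpowers, MonoidHom.map_zpowers, h])
  refine ⟨k, hk, ?_⟩
  have hk1 : (QuotientGroup.mk' N) k = 1 := (QuotientGroup.eq_one_iff k).mpr hk
  rw [show k * c * x * (k * c)⁻¹ = k * (c * x * c⁻¹) * k⁻¹ by group]
  refine injOn_two hN (hz _ hy) (hkA _ (mem_zpowers _)) (mem_zpowers _) ?_
  rw [map_mul, map_mul, map_inv, hk1, h]
  group

end CfsgLib.JankoThompson
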