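import Cfsg.Agent.Lib.JankoThompson.Frame
import Cfsg.Agent.Lib.JankoThompson.Main
import Cfsg.Agent.Lib.JankoThompson.Dihedral
import Cfsg.Agent.S5317
import Cfsg.Agent.Lib.PSL2Sub.Klein

/-!
The odd case: `Z₂ × PSL₂(q)`, `q` odd.
-/

set_option autoImplicit false

namespace CfsgLib.JankoThompson

open Subgroup

theorem one_ne_zgen : (1 : Multiplicative (ZMod 2)) ≠ zgen := by decide

theorem zmod2_cases (a : Multiplicative (ZMod 2)) : a = 1 ∨ a = zgen := by
  rcases eq_or_ne a 1 with h | h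
  · exact Or.inl h
  · exact Or.inr (eq_zgen a h)

variable {G : Type*} [Group G] [Finite G] {t : G}

/-- A Klein four-group whose involutions fuse. -/
theorem klein_elem {PS : Type*} [Group PS] [Finite PS] (hsim : IsSimpleGroup G)
    (hG : ¬ IsMulCommutative G) (ht : t * t = 1) (ht1 : t ≠ 1) (S : Sylow 2 PS)
    (hK : IsKleinFour (S : Subgroup PS))
    (hconj : ∀ a b : PS, orderOf a = 2 → orderOf b = 2 → ∃ g, g * a * g⁻¹ = b)
    {j : Multiplicative (ZMod 2) × (S : Subgroup PS) →* G} (Fr : Frame t (S : Subgroup PS) j) :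
    ∃ (E W : Subgroup G) (l : G), Elem t E W 2 ∧ Act t W l := by
  classical
  haveI : Fact (Nat.Prime 2) := ⟨Nat.prime_two⟩
  have hsqS : ∀ p : (S : Subgroup PS), p * p = 1 := fun p =>
    Subtype.ext (PSL2Sub.klein_mul_self hK p.2)
  let ι : (S : Subgroup PS) →* G := j.comp (MonoidHom.inr _ _)
  have hι : ∀ p, ι p = j (1, p) := fun _ => rfl
  have hιinj : Function.Injective ι := fun p q h => congrArg Prod.snd (Fr.inj h)
  have hjt : ∀ p, j (zgen, p) = t * j (1, p) := fun p => by rw [← Fr.jz, ← map_mul]; simp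
  have hjsq : ∀ p, j p * j p = 1 := fun p => by
    rw [← map_mul, show p * p = 1 from Prod.ext
      (by rcases zmod2_cases p.1 with h | h <;> rw [Prod.fst_mul, h] <;> rfl) (hsqS p.2), map_one]
  have hcardW : Nat.card ι.range = 4 := by
    rw [← Nat.card_congr (MonoidHom.ofInjective hιinj).toEquiv]; exact hK.card_four
  have hEcomm : ∀ {x y}, x ∈ j.range → y ∈ j.range → x * y = y * x := fun {x y} hx hy =>
    comm_of_sq (H := j.range) (by rintro _ ⟨p, rfl⟩; exact hjsq p) hx hy
  -- two involutions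
  obtain ⟨pa, hpa⟩ : ∃ p : (S : Subgroup PS), p ≠ 1 := by
    by_contra hno
    push Not at hno
    haveI : Subsingleton (S : Subgroup PS) := ⟨fun a b => (hno a).trans (hno b).symm⟩
    have h4 := hK.card_four
    rw [Nat.card_of_subsingleton (1 : (S : Subgroup PS))] at h4
    omega
  obtain ⟨pb, hpb, hpab⟩ : ∃ p : (S : Subgroup PS), p ≠ 1 ∧ p ≠ pa := by
    by_contra hno
    push Not at hno
    have := Nat.card_le_card_of_injective (fun p : (S : Subgroup PS) => decide (p = 1)) fun p q hpq => by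
      simp only [decide_eq_decide] at hpq
      by_cases h : p = 1
      · exact h.trans (hpq.mp h).symm
      · exact (hno p h).trans (hno q (fun e => h (hpq.mpr e))).symm
    rw [hK.card_four] at this
    simp at this
  -- fusion in the normaliser
  have hord : ∀ p : (S : Subgroup PS), p ≠ 1 → orderOf (p : PS) = 2 := fun p hp =>
    orderOf_eq_prime (by rw [pow_two]; exact congrArg Subtype.val (hsqS p)) fun e => hp (Subtype.ext e)
  obtain ⟨g, hg⟩ := hconj _ _ (hord pa hpa) (hord pb hpb)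
  have hcent : ∀ p : (S : Subgroup PS), (p : PS) ∈ centralizer ((S : Subgroup PS) : Set PS) := fun p =>
    mem_centralizer_iff.mpr fun y hy => PSL2Sub.klein_comm hK hy p.2
  obtain ⟨m, hm, hmab⟩ := Sylow.conj_eq_normalizer_conj_of_mem_centralizer S (pa : PS) g⁻¹ (hcent pa)
    (by rw [inv_inv, hg]; exact hcent pb)
  rw [inv_inv, hg] at hmab
  have hmN : ∀ p ∈ (S : Subgroup PS), m⁻¹ * p * m⁻¹⁻¹ ∈ (S : Subgroup PS) := fun p hp =>
    (mem_normalizer_iff.mp (inv_mem hm) p).mp hp
  obtain ⟨c, hct, hc⟩ := Fr.normalise m⁻¹ hmN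
  have hcE : c ∈ normalizer (j.range : Set G) := mem_normalizer_fintype fun e he => by
    obtain ⟨⟨a, p⟩, rfl⟩ := he
    exact ⟨_, (hc a p).symm⟩
  set o := orderOf c with ho
  set b := o.factorization 2 with hb
  set d := o / 2 ^ b with hd
  have hdo : Odd d := by
    rw [← Nat.not_even_iff_odd, even_iff_two_dvd]
    exact Nat.not_dvd_ordCompl Nat.prime_two (orderOf_pos c).ne'
  have hd2 : IsPGroup 2 (zpowers (c ^ d)) := by
    rintro ⟨y, i, rfl⟩
    refine ⟨b, Subtype.ext ?_⟩
    show ((c ^ d) ^ i) ^ 2 ^ b = 1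
    rw [← zpow_natCast, ← zpow_mul, mul_comm, zpow_mul, zpow_natCast, ← pow_mul,
      hd, Nat.div_mul_cancel (Nat.ordProj_dvd _ 2), ho, pow_orderOf_eq_one, one_zpow]
  have hE2 : IsPGroup 2 j.range := by
    refine pGroup_of_sq ?_
    rintro _ ⟨p, rfl⟩
    exact hjsq p
  have hsup : IsPGroup 2 ↥(zpowers (c ^ d) ⊔ j.range) :=
    hd2.to_sup_of_normal_right' hE2 (zpowers_le.mpr (pow_mem hcE d))
  obtain ⟨c', -, hc'⟩ := Fr.syl _ hsup (sup_le
    (zpowers_le.mpr (pow_mem (mem_centralizer_singleton_iff.mpr hct) d))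
    (by rintro _ ⟨p, rfl⟩; exact mem_centralizer_singleton_iff.mpr (Fr.jC p)))
  have hle : Nat.card ↥(zpowers (c ^ d) ⊔ j.range) ≤ Nat.card j.range :=
    Nat.card_le_card_of_injective (fun x => (⟨c' * x.1 * c'⁻¹, hc' x.1 x.2⟩ : j.range))
      fun x y hxy => Subtype.ext (by simpa using congrArg Subtype.val hxy)
  have hcd : c ^ d ∈ j.range :=
    (eq_of_le_of_card_ge le_sup_right hle).symm ▸ mem_sup_left (mem_zpowers _)
  have hfix : ∀ e ∈ j.range, c ^ d * e * (c ^ d)⁻¹ = e := fun e he => by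
    rw [hEcomm hcd he, mul_inv_cancel_right]
  set l := c ^ 2 ^ b with hl
  have hlodd : Odd (orderOf l) := by
    rw [hl, orderOf_pow' c (by positivity), Nat.gcd_eq_right (Nat.ordProj_dvd _ 2)]
    exact hdo
  have hlW : ∀ w ∈ ι.range, l * w * l⁻¹ ∈ ι.range := by
    have hcW : c ∈ normalizer (ι.range : Set G) := mem_normalizer_fintype fun w hw => by
      obtain ⟨p, rfl⟩ := hw
      exact ⟨_, (hc 1 p).symm⟩
    exact fun w hw => (mem_normalizer_iff.mp (pow_mem hcW (2 ^ b)) w).mp hw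
  have hmove : ι pa ≠ l * ι pa * l⁻¹ := by
    intro hfl
    obtain ⟨i, hi⟩ : ∃ i, 2 ^ b * i % d = 1 % d := by
      rcases Nat.lt_or_ge 1 d with h | h
      · obtain ⟨i, hi⟩ := Nat.exists_mul_mod_eq_one_of_coprime (Nat.Coprime.pow_left b
          (Nat.prime_two.coprime_iff_not_dvd.mpr fun h' =>
            Nat.not_even_iff_odd.mpr hdo (even_iff_two_dvd.mpr h'))) h
        exact ⟨i, by rw [hi.2, Nat.mod_eq_of_lt h]⟩
      · obtain ⟨r, hr⟩ := hdo
        have hd1 : d = 1 := by omega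
        exact ⟨0, by rw [hd1, Nat.mod_one, Nat.mod_one]⟩
    -- `c` is a power of `l` times a power of `c ^ d`
    have hfl' : l ∈ centralizer ({ι pa} : Set G) :=
      mem_centralizer_singleton_iff.mpr (mul_inv_eq_iff_eq_mul.mp hfl.symm)
    have hfd : c ^ d ∈ centralizer ({ι pa} : Set G) :=
      mem_centralizer_singleton_iff.mpr (hEcomm hcd ⟨_, rfl⟩)
    have hcm : c ∈ centralizer ({ι pa} : Set G) := by
      obtain ⟨r, hr⟩ : ∃ r : ℤ, (1 : ℤ) = (2 ^ b * i : ℕ) + (d : ℕ) * r := by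
        have h1 : ((2 ^ b * i : ℕ) : ℤ) % d = (1 : ℤ) % d := by exact_mod_cast hi
        obtain ⟨r, hr⟩ := Int.modEq_iff_dvd.mp h1
        exact ⟨r, by linarith⟩
      have e : c = l ^ i * (c ^ d) ^ r := by
        rw [hl, ← pow_mul, ← zpow_natCast c d, ← zpow_mul, ← zpow_natCast, ← zpow_add, ← hr, zpow_one]
      rw [e]
      exact mul_mem (pow_mem hfl' i) (zpow_mem hfd r)
    have h1 := hc 1 pa
    rw [show c * j (1, pa) * c⁻¹ = j (1, pa) from
      mul_inv_eq_iff_eq_mul.mpr (mem_centralizer_singleton_iff.mp hcm)] at h1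
    have h2 : (pa : PS) = m⁻¹ * pa * m⁻¹⁻¹ := congrArg Subtype.val (congrArg Prod.snd (Fr.inj h1) :)
    rw [inv_inv, ← hmab] at h2
    exact hpab (Subtype.ext h2.symm)
  have hreg : ∀ w ∈ ι.range, w ≠ 1 → ∀ w' ∈ ι.range, w' ≠ 1 → ∃ i : ℕ, l ^ i * w * (l ^ i)⁻¹ = w' := by
    set a := ι pa with ha
    have haW : a ∈ ι.range := ⟨pa, rfl⟩
    have ha1 : a ≠ 1 := fun e => hpa (hιinj (e.trans (map_one ι).symm))
    set a₁ := l * a * l⁻¹ with ha₁
    set a₂ := l * a₁ * l⁻¹ with ha₂
    have ha₁W : a₁ ∈ ι.range := hlW a haW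
    have hne1 : a₁ ≠ 1 := fun e => ha1 (by simpa [ha₁, mul_inv_eq_one] using e)
    have hne2 : a₂ ≠ 1 := fun e => hne1 (by simpa [ha₂, mul_inv_eq_one] using e)
    have h02 : a₂ ≠ a := by
      intro e
      obtain ⟨r, hr⟩ := hlodd
      have h2 : l ^ 2 ∈ centralizer ({a} : Set G) := mem_centralizer_singleton_iff.mpr
        (mul_inv_eq_iff_eq_mul.mp (by
          conv_rhs => rw [← e, ha₂, ha₁]
          rw [pow_two]; group))
      have h3 : l ∈ centralizer ({a} : Set G) := by
        have h4 : l = (l ^ 2) ^ (r + 1) := by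
          rw [← pow_mul, show 2 * (r + 1) = orderOf l + 1 by omega, pow_succ, pow_orderOf_eq_one, one_mul]
        rw [h4]; exact pow_mem h2 _
      exact hmove (by rw [ha₁, mem_centralizer_singleton_iff.mp h3, mul_inv_cancel_right])
    have h12 : a₂ ≠ a₁ := fun e => hmove (mul_left_cancel (mul_right_cancel (e : l * a₁ * l⁻¹ = l * a * l⁻¹))).symm
    have hall : ∀ w ∈ ι.range, w ≠ 1 → w = a ∨ w = a₁ ∨ w = a₂ := by
      intro w hw hw1
      let f : Fin 4 → ι.range := ![1, ⟨a, haW⟩, ⟨a₁, ha₁W⟩, ⟨a₂, hlW a₁ ha₁W⟩]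
      have hf : Function.Injective f := by
        intro x y hxy
        have h' := congrArg Subtype.val hxy
        fin_cases x <;> fin_cases y <;>
          simp [f, ha1, ha1.symm, hne1, hne1.symm, hne2, hne2.symm, h02, h02.symm, h12, h12.symm,
            hmove, hmove.symm] at h' ⊢
      obtain ⟨x, hx⟩ := ((Nat.bijective_iff_injective_and_card f).mpr ⟨hf, by rw [Nat.card_fin, hcardW]⟩).2 ⟨w, hw⟩
      have hx' := congrArg Subtype.val hx
      fin_cases x
      · exact absurd hx'.symm hw1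
      · exact Or.inl hx'.symm
      · exact Or.inr (Or.inl hx'.symm)
      · exact Or.inr (Or.inr hx'.symm)
    have hp : ∀ w ∈ ι.range, w ≠ 1 → ∃ i : ℕ, l ^ i * a * (l ^ i)⁻¹ = w := by
      intro w hw hw1
      rcases hall w hw hw1 with rfl | rfl | rfl
      · exact ⟨0, by simp⟩
      · exact ⟨1, by rw [pow_one]⟩
      · exact ⟨2, by rw [ha₂, ha₁, pow_two]; group⟩
    intro w hw hw1 w' hw' hw'1
    obtain ⟨i, rfl⟩ := hp w hw hw1
    obtain ⟨i', rfl⟩ := hp w' hw' hw'1
    have ho' := pow_orderOf_eq_one l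
    refine ⟨i' + (orderOf l - 1) * i, ?_⟩
    have e : l ^ (i' + (orderOf l - 1) * i) * l ^ i = l ^ i' := by
      rw [← pow_add, add_assoc, ← Nat.succ_mul,
        show (orderOf l - 1).succ = orderOf l by have := orderOf_pos l; omega,
        pow_add, pow_mul, ho', one_pow, mul_one]
    calc l ^ (i' + (orderOf l - 1) * i) * (l ^ i * a * (l ^ i)⁻¹) * (l ^ (i' + (orderOf l - 1) * i))⁻¹
        = (l ^ (i' + (orderOf l - 1) * i) * l ^ i) * a *
          (l ^ (i' + (orderOf l - 1) * i) * l ^ i)⁻¹ := by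
          generalize l ^ (i' + (orderOf l - 1) * i) = A; generalize l ^ i = B; group
      _ = _ := by rw [e]
  have act : Act t ι.range l :=
    ⟨by rw [hl]; exact (show Commute c t from hct).pow_left _, hlodd, hlW, hreg⟩
  exact ⟨j.range, ι.range, l,
    { simple := hsim
      noncomm := hG
      tt := ht
      t1 := ht1
      tE := ⟨_, Fr.jz⟩
      WE := by rintro _ ⟨p, rfl⟩; exact ⟨_, rfl⟩
      tW := by
        rintro ⟨p, hp⟩
        have h := congrArg Prod.fst (Fr.inj (hp.trans Fr.jz.symm))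
        exact absurd h one_ne_zgen
      split := by
        rintro _ ⟨⟨a, p⟩, rfl⟩
        rcases zmod2_cases a with rfl | rfl
        · exact Or.inl ⟨p, rfl⟩
        · exact Or.inr ⟨p, by rw [hι, hjt, ← mul_assoc, ht, one_mul]⟩
      sq := by rintro _ ⟨p, rfl⟩; exact hjsq p
      cardW := hcardW
      two_le := le_rfl
      syl := Fr.syl
      act := ⟨l, act⟩ }, act⟩

/-- Doubling in `ZMod (2 ^ k)`. -/
theorem double_eq_zero {k : ℕ} (hk : 1 ≤ k) (i : ZMod (2 ^ k)) (h : i + i = 0) :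
    i = 0 ∨ i = ((2 ^ (k - 1) : ℕ) : ZMod (2 ^ k)) := by
  haveI : NeZero (2 ^ k) := ⟨by positivity⟩
  have h1 : (2 ^ k) ∣ i.val + i.val := by
    rw [← ZMod.natCast_eq_zero_iff, Nat.cast_add, ZMod.natCast_val, ZMod.cast_id', id]
    exact h
  have h2 : 2 ^ k = 2 * 2 ^ (k - 1) := by rw [← pow_succ', Nat.sub_add_cancel hk]
  rw [← two_mul] at h1
  obtain ⟨r, hr⟩ := Nat.dvd_of_mul_dvd_mul_left two_pos ((dvd_of_eq h2.symm).trans h1)
  have hlt := ZMod.val_lt i
  have hr2 : r < 2 := by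
    by_contra hge
    push Not at hge
    have : 2 ^ (k - 1) * 2 ≤ 2 ^ (k - 1) * r := Nat.mul_le_mul_left _ hge
    omega
  have hi : (i.val : ZMod (2 ^ k)) = i := by rw [ZMod.natCast_val, ZMod.cast_id', id]
  interval_cases r
  · left; rw [← hi, hr, mul_zero, Nat.cast_zero]
  · right; rw [← hi, hr, mul_one]

/-- A dihedral group of order at least eight gives the data of `Dih`. -/
theorem dihedral_data {PS : Type*} [Group PS] [Finite PS] (hsim : IsSimpleGroup G)
    (hG : ¬ IsMulCommutative G) (ht : t * t = 1) (ht1 : t ≠ 1) (S : Sylow 2 PS) {k : ℕ} (hk : 2 ≤ k)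
    (e : (S : Subgroup PS) ≃* DihedralGroup (2 ^ k))
    (hconj : ∀ a b : PS, orderOf a = 2 → orderOf b = 2 → ∃ g, g * a * g⁻¹ = b)
    {j : Multiplicative (ZMod 2) × (S : Subgroup PS) →* G} (Fr : Frame t (S : Subgroup PS) j) :
    ∃ (d : G) (T D : Subgroup G), Dih t d T D := by
  classical
  haveI : Fact (Nat.Prime 2) := ⟨Nat.prime_two⟩
  haveI : NeZero (2 ^ k) := ⟨by positivity⟩
  set h : ZMod (2 ^ k) := ((2 ^ (k - 1) : ℕ) : ZMod (2 ^ k)) with hh
  have hh2 : h + h = 0 := by
    rw [hh, ← Nat.cast_add, ← two_mul, ← pow_succ', Nat.sub_add_cancel (by omega), ZMod.natCast_self]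
  have hh0 : h ≠ 0 := by
    rw [hh, Ne, ZMod.natCast_eq_zero_iff]
    intro hd
    have := Nat.le_of_dvd (by positivity) hd
    have : 2 ^ (k - 1) < 2 ^ k := Nat.pow_lt_pow_right (by norm_num) (by omega)
    omega
  have htwo : ((2 : ℕ) : ZMod (2 ^ k)) ≠ 0 := by
    rw [Ne, ZMod.natCast_eq_zero_iff]
    intro hd
    have := Nat.le_of_dvd two_pos hd
    have : 2 ^ 2 ≤ 2 ^ k := Nat.pow_le_pow_right two_pos hk
    omega
  let f : DihedralGroup (2 ^ k) →* G := j.comp ((MonoidHom.inr _ _).comp e.symm.toMonoidHom)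
  have hf : ∀ x, f x = j (1, e.symm x) := fun _ => rfl
  have hfinj : Function.Injective f := fun x y hxy =>
    e.symm.injective (congrArg Prod.snd (Fr.inj hxy))
  have hjt : ∀ p, j (zgen, p) = t * j (1, p) := fun p => by rw [← Fr.jz, ← map_mul]; simp
  have hsqcases : ∀ x : DihedralGroup (2 ^ k), x * x = 1 →
      (∃ i, x = DihedralGroup.sr i) ∨ x = 1 ∨ x = DihedralGroup.r h := by
    rintro (i | i) hx
    · rw [DihedralGroup.r_mul_r, DihedralGroup.one_def] at hx
      rcases double_eq_zero (by omega) i (DihedralGroup.r.inj hx) with rfl | rfl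
      · exact Or.inr (Or.inl DihedralGroup.one_def.symm)
      · exact Or.inr (Or.inr rfl)
    · exact Or.inl ⟨i, rfl⟩
  have hdd : DihedralGroup.r h * DihedralGroup.r h = 1 := by
    rw [DihedralGroup.r_mul_r, hh2, DihedralGroup.one_def]
  have hd1 : DihedralGroup.r h ≠ 1 := fun e1 => hh0 (DihedralGroup.r.inj (e1.trans DihedralGroup.one_def))
  refine ⟨f (DihedralGroup.r h), j.range, f.range, ?_⟩
  have hfj : f.range ≤ j.range := by rintro _ ⟨x, rfl⟩; exact ⟨_, rfl⟩
  refine
    { simple := hsim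
      noncomm := hG
      tt := ht
      t1 := ht1
      tT := ⟨_, Fr.jz⟩
      DT := hfj
      tD := ?_
      split := ?_
      TC := ?_
      T2 := ?_
      dD := ⟨_, rfl⟩
      d1 := fun e1 => hd1 (hfinj (e1.trans (map_one f).symm))
      dd := by rw [← map_mul, hdd, map_one]
      dcent := ?_
      dsq := ?_
      center := ?_
      refl := ?_
      noncentral := ?_
      gen := ?_
      conjD := ?_
      count := ?_
      syl := Fr.syl }
  · rintro ⟨x, hx⟩
    have := congrArg Prod.fst (Fr.inj ((hf x).symm.trans (hx.trans Fr.jz.symm)))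
    exact absurd this one_ne_zgen
  · rintro _ ⟨⟨a, p⟩, rfl⟩
    rcases zmod2_cases a with rfl | rfl
    · exact Or.inl ⟨e p, by rw [hf, e.symm_apply_apply]⟩
    · exact Or.inr ⟨e p, by rw [hf, e.symm_apply_apply, hjt, ← mul_assoc, ht, one_mul]⟩
  · rintro _ ⟨p, rfl⟩
    exact mem_centralizer_singleton_iff.mpr (Fr.jC p)
  · have hP2 : IsPGroup 2 (Multiplicative (ZMod 2) × (S : Subgroup PS)) := by
      obtain ⟨r, hr⟩ := IsPGroup.iff_card.mp S.2
      exact IsPGroup.of_card (n := 1 + r) (by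
        rw [Nat.card_prod, hr, pow_add, pow_one, Nat.card_congr Multiplicative.toAdd, Nat.card_zmod])
    exact hP2.of_surjective j.rangeRestrict j.rangeRestrict_surjective
  · rintro _ ⟨x, rfl⟩
    rw [← map_mul, ← map_mul]
    congr 1
    rcases x with i | i
    · rw [DihedralGroup.r_mul_r, DihedralGroup.r_mul_r, add_comm]
    · rw [DihedralGroup.r_mul_sr, DihedralGroup.sr_mul_r]
      congr 1
      linear_combination (-1 : ZMod (2 ^ k)) * hh2
  · refine ⟨f (DihedralGroup.r ((2 ^ (k - 2) : ℕ) : ZMod (2 ^ k))), ⟨_, rfl⟩, ?_⟩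
    rw [← map_mul, DihedralGroup.r_mul_r, ← Nat.cast_add, ← two_mul, ← pow_succ',
      show k - 2 + 1 = k - 1 by omega]
  · rintro _ ⟨x, rfl⟩ hc
    have hc' : ∀ y, x * y = y * x := fun y => hfinj (by rw [map_mul, map_mul]; exact hc _ ⟨y, rfl⟩)
    rcases x with i | i
    · have h0 := hc' (DihedralGroup.sr 0)
      rw [DihedralGroup.r_mul_sr, DihedralGroup.sr_mul_r, DihedralGroup.sr.injEq] at h0
      rcases double_eq_zero (by omega) i (by linear_combination -h0) with rfl | rfl
      · exact Or.inl (by rw [← DihedralGroup.one_def, map_one])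
      · exact Or.inr rfl
    · exfalso
      have h0 := hc' (DihedralGroup.r 1)
      rw [DihedralGroup.r_mul_sr, DihedralGroup.sr_mul_r, DihedralGroup.sr.injEq] at h0
      exact htwo (by push_cast; linear_combination h0)
  · rintro _ ⟨z, rfl⟩ hz _ ⟨s, rfl⟩ hs hs1 hsd
    rw [← map_mul] at hz hs
    have hz' := hfinj hz
    have hs' : s * s = 1 := hfinj (hs.trans (map_one f).symm)
    rw [← map_mul, ← map_mul, ← map_one f]
    congr 1
    rcases z with i | i
    · rcases hsqcases s hs' with ⟨r, rfl⟩ | rfl | rfl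
      · rw [DihedralGroup.r_mul_sr, DihedralGroup.sr_mul_self]
      · exact absurd (map_one f) hs1
      · exact absurd rfl hsd
    · rw [DihedralGroup.sr_mul_self] at hz'
      exact absurd hz'.symm hd1
  · refine ⟨f (DihedralGroup.sr 0), ⟨_, rfl⟩, by rw [← map_mul, DihedralGroup.sr_mul_self, map_one],
      fun e1 => ?_, fun e1 => ?_⟩
    · have := hfinj (e1.trans (map_one f).symm)
      rw [DihedralGroup.one_def] at this
      cases this
    · cases hfinj e1
  · rintro _ ⟨x, rfl⟩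
    have hmem : ∀ i, f (DihedralGroup.sr i) ∈ closure {y | y ∈ f.range ∧ y * y = 1} := fun i =>
      subset_closure ⟨⟨_, rfl⟩, by rw [← map_mul, DihedralGroup.sr_mul_self, map_one]⟩
    rcases x with i | i
    · rw [show DihedralGroup.r i = DihedralGroup.sr 0 * DihedralGroup.sr i by
        rw [DihedralGroup.sr_mul_sr, sub_zero], map_mul]
      exact mul_mem (hmem 0) (hmem i)
    · exact hmem i
  · rintro _ ⟨x, rfl⟩ hx hx1
    rw [← map_mul] at hx
    have hx' : x * x = 1 := hfinj (hx.trans (map_one f).symm)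
    have hord : ∀ y : DihedralGroup (2 ^ k), y * y = 1 → y ≠ 1 → orderOf ((e.symm y : PS)) = 2 := by
      intro y hy hy1
      refine orderOf_eq_prime ?_ fun e1 => hy1 (e.symm.injective ((Subtype.ext e1).trans (map_one e.symm).symm))
      rw [pow_two, ← Subgroup.coe_mul, ← map_mul, hy, map_one]
      rfl
    obtain ⟨c, hct, hc⟩ := Fr.conj (e.symm (DihedralGroup.r h)) (e.symm x)
      (hconj _ _ (hord _ hdd hd1) (hord x hx' fun e1 => hx1 (by rw [e1, map_one]))) 1
    exact ⟨c, mem_centralizer_singleton_iff.mpr hct, hc⟩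
  · have e1 : {x : G // x ∈ f.range ∧ x * x = 1} ≃ (ZMod (2 ^ k) ⊕ Bool) := by
      let g : ZMod (2 ^ k) ⊕ Bool → {x : G // x ∈ f.range ∧ x * x = 1} :=
        Sum.elim (fun i => ⟨f (DihedralGroup.sr i), ⟨_, rfl⟩, by
            rw [← map_mul, DihedralGroup.sr_mul_self, map_one]⟩)
          (fun b => ⟨f (if b then DihedralGroup.r h else 1), ⟨_, rfl⟩, by
            rw [← map_mul]; cases b <;> simp [hdd]⟩)
      refine (Equiv.ofBijective g ⟨?_, ?_⟩).symm
      · intro x y hxy
        have h1 := hfinj (a₁ := Sum.elim DihedralGroup.sr (fun b => if b then DihedralGroup.r h else 1) x)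
          (a₂ := Sum.elim DihedralGroup.sr (fun b => if b then DihedralGroup.r h else 1) y) (by
            have := congrArg Subtype.val hxy
            rcases x with x | x <;> rcases y with y | y <;> exact this)
        rcases x with x | x <;> rcases y with y | y <;> simp only [Sum.elim_inl, Sum.elim_inr] at h1
        · rw [DihedralGroup.sr.injEq] at h1; rw [h1]
        · cases y <;> simp only [if_true, if_false, Bool.false_eq_true, DihedralGroup.one_def] at h1 <;> cases h1
        · cases x <;> simp only [if_true, if_false, Bool.false_eq_true, DihedralGroup.one_def] at h1 <;> cases h1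
        · cases x <;> cases y <;> simp [hd1, hd1.symm] at h1 ⊢
      · rintro ⟨_, ⟨x, rfl⟩, hx⟩
        rw [← map_mul] at hx
        rcases hsqcases x (hfinj (hx.trans (map_one f).symm)) with ⟨i, rfl⟩ | rfl | rfl
        · exact ⟨Sum.inl i, rfl⟩
        · exact ⟨Sum.inr false, rfl⟩
        · exact ⟨Sum.inr true, rfl⟩
    rw [Nat.card_congr e1, Nat.card_sum, Nat.card_zmod]
    simp only [Nat.card_eq_fintype_card, Fintype.card_bool]
    obtain ⟨r, rfl⟩ := Nat.exists_eq_add_of_le hk
    rw [pow_add]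
    omega

end CfsgLib.JankoThompson
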