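import Cfsg.Agent.Lib.JankoThompson.Elem
import Cfsg.Agent.Lib.Fusion.ThompsonTransfer

/-!
Generalised dihedral 2-subgroups `R = Q⟨t⟩` of `C(W)` with all of `tQ` conjugate to `t`.
-/

set_option autoImplicit false

namespace CfsgLib.JankoThompson

open Subgroup

variable {G : Type*} [Group G]

/-- The invariant. -/
structure Str (t : G) (E W R Q : Subgroup G) (l : G) : Prop where
  R2 : IsPGroup 2 R
  ER : E ≤ R
  QR : Q ≤ R
  WQ : W ≤ Q
  tQ : t ∉ Q
  split : ∀ x ∈ R, x ∈ Q ∨ t * x ∈ Q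
  inv : ∀ q ∈ Q, t * q * (t * q) = 1
  conjt : ∀ q ∈ Q, IsConj t (t * q)
  RW : R ≤ centralizer (W : Set G)
  act : Act t W l
  lR : ∀ x ∈ R, l * x * l⁻¹ ∈ R
  lQ : ∀ x ∈ Q, l * x * l⁻¹ ∈ Q

/-- The displacement of `t`. -/
def disp (t g : G) : G := t * (g * t * g⁻¹)

variable {t : G} {E W R Q : Subgroup G} {n : ℕ} {l : G}

namespace Str

variable (h : Elem t E W n) (s : Str t E W R Q l)
include h s

theorem tR : t ∈ R := s.ER h.tE

theorem conj_eq_inv {q : G} (hq : q ∈ Q) : t * q * t = q⁻¹ :=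
  eq_inv_of_mul_eq_one_left (by rw [mul_assoc]; exact s.inv q hq)

theorem Q_comm {a b : G} (ha : a ∈ Q) (hb : b ∈ Q) : a * b = b * a := by
  have h1 := s.conj_eq_inv h (mul_mem ha hb)
  rw [show t * (a * b) * t = (t * a * t) * (t * b * t) by
    calc t * (a * b) * t = t * a * (1 : G) * b * t := by group
      _ = t * a * (t * t) * b * t := by rw [h.tt]
      _ = _ := by group, s.conj_eq_inv h ha, s.conj_eq_inv h hb, ← mul_inv_rev, inv_inj] at h1
  exact h1.symm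

theorem W_comm {x w : G} (hx : x ∈ R) (hw : w ∈ W) : x * w = w * x :=
  (mem_centralizer_iff.mp (s.RW hx) w hw).symm

variable [Finite G]

theorem mem_E {x : G} (hx : x ∈ R) (hxt : x * t = t * x) : x ∈ E := by
  have hP : R ⊓ centralizer ({t} : Set G) = E :=
    h.eq_E (s.R2.to_le inf_le_left) (le_inf s.ER h.EC) inf_le_right
  rw [← hP]
  exact ⟨hx, mem_centralizer_singleton_iff.mpr hxt⟩

theorem sq_one_mem_W {q : G} (hq : q ∈ Q) (hq2 : q * q = 1) : q ∈ W := by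
  have h1 := s.conj_eq_inv h hq
  rw [inv_eq_of_mul_eq_one_right hq2] at h1
  have hc : q * t = t * q := by
    calc q * t = (t * q * t) * t := by rw [h1]
      _ = t * q := by rw [mul_assoc, h.tt, mul_one]
  rcases h.split q (s.mem_E h (s.QR hq) hc) with h2 | h2
  · exact h2
  · exact absurd (by
      have := mul_mem (s.WQ h2) (inv_mem hq)
      rwa [mul_inv_cancel_right] at this) s.tQ

theorem cardR : Nat.card R = 2 * Nat.card Q := by
  have hi : (Q.subgroupOf R).index = 2 := by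
    rw [Subgroup.index_eq_two_iff']
    refine ⟨⟨t, s.tR h⟩, fun e => ?_⟩
    simp only [mem_subgroupOf, Subgroup.coe_mul]
    rcases s.split e.1 e.2 with he | he
    · refine Or.inr ⟨he, fun hc => s.tQ ?_⟩
      have := mul_mem hc (inv_mem he)
      simpa [mul_assoc] using this
    · refine Or.inl ⟨he, fun hc => s.tQ ?_⟩
      have := mul_mem he (inv_mem hc)
      simpa [mul_assoc] using this
  have h1 := card_mul_index (Q.subgroupOf R)
  rw [hi, Nat.card_congr (subgroupOfEquivOfLe s.QR).toEquiv] at h1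
  rw [← h1, mul_comm]

/-- The power map onto `W`. -/
theorem exists_psi : ∃ m : ℕ, (∀ x ∈ Q, x ^ 2 ^ m ∈ W) ∧ (∀ w ∈ W, ∃ x ∈ Q, x ^ 2 ^ m = w) ∧
    ∀ x ∈ Q, (x ^ 2 ^ m = 1 ↔ ∃ y ∈ Q, y * y = x) := by
  classical
  haveI : Fact (Nat.Prime 2) := ⟨Nat.prime_two⟩
  have hQ2 : IsPGroup 2 Q := s.R2.to_le s.QR
  have hex : ∃ k : ℕ, ∀ x ∈ Q, x ^ 2 ^ k = 1 := by
    obtain ⟨k, hk⟩ := IsPGroup.iff_card.mp hQ2
    exact ⟨k, fun x hx => congrArg Subtype.val (show (⟨x, hx⟩ : Q) ^ 2 ^ k = 1 by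
      rw [← hk]; exact pow_card_eq_one')⟩
  set k := Nat.find hex with hk
  obtain ⟨w₀, hw₀, hw₀1⟩ : ∃ w ∈ W, w ≠ 1 := by
    refine (Subgroup.ne_bot_iff_exists_ne_one.mp fun e => ?_).elim fun w hw =>
      ⟨w.1, w.2, fun e => hw (Subtype.ext e)⟩
    have := h.cardW
    rw [e, card_bot] at this
    have : 2 ≤ 2 ^ n := Nat.le_self_pow (by have := h.two_le; omega) 2
    omega
  have hk0 : k ≠ 0 := fun e => by
    have := Nat.find_spec hex w₀ (s.WQ hw₀)
    rw [← hk, e, pow_zero, pow_one] at this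
    exact hw₀1 this
  obtain ⟨m, hm⟩ := Nat.exists_eq_succ_of_ne_zero hk0
  have hspec : ∀ x ∈ Q, (x ^ 2 ^ m) * (x ^ 2 ^ m) = 1 := fun x hx => by
    rw [← pow_two, ← pow_mul, ← pow_succ, ← show k = m + 1 from hm]
    exact Nat.find_spec hex x hx
  have hW : ∀ x ∈ Q, x ^ 2 ^ m ∈ W := fun x hx => s.sq_one_mem_W h (pow_mem hx _) (hspec x hx)
  have hne : ∃ x ∈ Q, x ^ 2 ^ m ≠ 1 := by
    by_contra hno
    push Not at hno
    have := Nat.find_min' hex hno
    omega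
  obtain ⟨x₀, hx₀, hx₀1⟩ := hne
  have hsurj : ∀ w ∈ W, ∃ x ∈ Q, x ^ 2 ^ m = w := by
    intro w hw
    rcases eq_or_ne w 1 with rfl | hw1
    · exact ⟨1, one_mem _, one_pow _⟩
    refine s.act.all_of_one (S := fun w => ∃ x ∈ Q, x ^ 2 ^ m = w) ?_ (hW x₀ hx₀) hx₀1 ⟨x₀, hx₀, rfl⟩ w hw hw1
    rintro _ _ ⟨x, hx, rfl⟩
    exact ⟨_, s.lQ x hx, conj_pow⟩
  refine ⟨m, hW, hsurj, fun x hx => ⟨fun hx1 => ?_, ?_⟩⟩
  · let ψ : Q →* W :=
      { toFun := fun y => ⟨y.1 ^ 2 ^ m, hW y.1 y.2⟩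
        map_one' := Subtype.ext (one_pow _)
        map_mul' := fun y z => Subtype.ext ((show Commute y.1 z.1 from s.Q_comm h y.2 z.2).mul_pow _) }
    let σ : Q →* Q :=
      { toFun := fun y => y * y
        map_one' := one_mul 1
        map_mul' := fun y z => Subtype.ext (by
          have hc : Commute y.1 z.1 := s.Q_comm h y.2 z.2
          show y.1 * z.1 * (y.1 * z.1) = y.1 * y.1 * (z.1 * z.1)
          exact hc.symm.mul_mul_mul_comm y.1 z.1) }
    have hle : σ.range ≤ ψ.ker := by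
      rintro _ ⟨y, rfl⟩
      refine MonoidHom.mem_ker.mpr (Subtype.ext ?_)
      show (y.1 * y.1) ^ 2 ^ m = 1
      rw [(Commute.refl y.1).mul_pow]
      exact hspec y.1 y.2
    have hψ : Function.Surjective ψ := fun w => by
      obtain ⟨y, hy, hyw⟩ := hsurj w.1 w.2
      exact ⟨⟨y, hy⟩, Subtype.ext hyw⟩
    have hσ : Nat.card σ.ker ≤ Nat.card W := Nat.card_le_card_of_injective
      (fun y => ⟨y.1.1, s.sq_one_mem_W h y.1.2 (congrArg Subtype.val (MonoidHom.mem_ker.mp y.2))⟩)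
      (fun y z hyz => Subtype.ext (Subtype.ext (congrArg (Subtype.val (p := (· ∈ W))) hyz)))
    have h1 := card_mul_index ψ.ker
    rw [index_ker, MonoidHom.range_eq_top.mpr hψ, card_top] at h1
    have h2 := card_mul_index σ.ker
    rw [index_ker] at h2
    have hcard : Nat.card ψ.ker ≤ Nat.card σ.range := by
      refine Nat.le_of_mul_le_mul_left ?_ (Nat.card_pos (α := W))
      rw [mul_comm, h1, ← h2]
      exact Nat.mul_le_mul_right _ hσ
    have heq := eq_of_le_of_card_ge hle hcard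
    obtain ⟨y, hy⟩ : (⟨x, hx⟩ : Q) ∈ σ.range := heq ▸ MonoidHom.mem_ker.mpr (Subtype.ext hx1)
    exact ⟨y, y.2, congrArg Subtype.val hy⟩
  · rintro ⟨y, hy, rfl⟩
    rw [(Commute.refl y).mul_pow]
    exact hspec y hy

omit [Finite G] in
theorem disp_mem {g : G} (hgR : ∀ x ∈ R, g * x * g⁻¹ ∈ R) (hgQ : ∀ x, g * x * g⁻¹ ∈ Q → x ∈ Q) :
    disp t g ∈ Q :=
  (s.split _ (hgR t (s.tR h))).resolve_left fun hh => s.tQ (hgQ t hh)

omit [Finite G] in
theorem conj_Q_comm {q x : G} (hq : q ∈ Q) (hx : x ∈ Q) : q * x * q⁻¹ = x := by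
  rw [s.Q_comm h hq hx, mul_inv_cancel_right]

theorem conj_R {g : G} (hg : g ∈ normalizer (R : Set G)) {x : G} (hx : x ∈ R) : g * x * g⁻¹ ∈ R :=
  (mem_normalizer_iff.mp hg x).mp hx

omit h [Finite G] in
theorem conj_t_exponent {x : G} (hx : x ∈ R) (hx2 : x * x ≠ 1) : x ∈ Q := by
  rcases s.split x hx with h1 | h1
  · exact h1
  · exfalso
    have h2 := s.inv _ h1
    have h3 : t * (t * x) * (t * (t * x)) = x * x := by
      have htt : t * t = 1 := by simpa using s.inv 1 (one_mem _)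
      rw [← mul_assoc t t x, htt, one_mul]
    exact hx2 (h3 ▸ h2)

/-- An element normalising `R` and `W` normalises `Q`. -/
theorem normalizes_Q {g : G} (hg : g ∈ normalizer (R : Set G)) (hgW : ∀ w ∈ W, g * w * g⁻¹ ∈ W) :
    ∀ x ∈ Q, g * x * g⁻¹ ∈ Q := by
  intro x hx
  by_cases hxW : x ∈ W
  · exact s.WQ (hgW x hxW)
  · refine s.conj_t_exponent (s.conj_R h hg (s.QR hx)) fun h1 => hxW (s.sq_one_mem_W h hx ?_)
    have h2 : g * (x * x) * g⁻¹ = 1 := by rw [← h1]; group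
    simpa [mul_inv_eq_one] using h2

theorem normalizes_Q' {g : G} (hg : g ∈ normalizer (R : Set G)) (hgW : ∀ w ∈ W, g * w * g⁻¹ ∈ W) :
    ∀ x, g * x * g⁻¹ ∈ Q → x ∈ Q := by
  intro x hx
  have hsurj : Function.Surjective (fun y : Q => (⟨g * y * g⁻¹, s.normalizes_Q h hg hgW y y.2⟩ : Q)) :=
    Finite.injective_iff_surjective.mp fun a b hab => Subtype.ext (by simpa using congrArg Subtype.val hab)
  obtain ⟨y, hy⟩ := hsurj ⟨_, hx⟩
  have : (y : G) = x := by simpa using congrArg Subtype.val hy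
  exact this ▸ y.2

theorem disp_mem' {g : G} (hg : g ∈ normalizer (R : Set G)) (hgW : ∀ w ∈ W, g * w * g⁻¹ ∈ W) :
    disp t g ∈ Q :=
  s.disp_mem h (fun _ => s.conj_R h hg) (s.normalizes_Q' h hg hgW)

end Str

/-- The subgroup normalising `R` and `W`. -/
def NW (R W : Subgroup G) : Subgroup G := normalizer (R : Set G) ⊓ normalizer (W : Set G)

theorem NW_conj {g : G} (hg : g ∈ NW R W) : ∀ w ∈ W, g * w * g⁻¹ ∈ W :=
  fun w hw => (mem_normalizer_iff.mp hg.2 w).mp hw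

theorem disp_mul (tt : t * t = 1) (g k : G) : disp t (g * k) = disp t g * (g * disp t k * g⁻¹) := by
  unfold disp
  calc t * (g * k * t * (g * k)⁻¹) = t * g * (1 : G) * (k * t * k⁻¹) * g⁻¹ := by group
    _ = t * g * (t * t) * (k * t * k⁻¹) * g⁻¹ := by rw [tt]
    _ = _ := by group

namespace Str

variable [Finite G] (h : Elem t E W n) (s : Str t E W R Q l)
include h s

theorem l_mem : l ∈ NW R W :=
  ⟨mem_normalizer_fintype s.lR, mem_normalizer_fintype s.act.lW⟩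

omit [Finite G] in
theorem disp_l : disp t l = 1 := by
  unfold disp
  rw [s.act.lC, mul_inv_cancel_right, h.tt]

variable {m : ℕ} (hm : ∀ x ∈ Q, (x ^ 2 ^ m = 1 ↔ ∃ y ∈ Q, y * y = x))

theorem cocycle {g k : G} (hg : g ∈ NW R W) (hk : k ∈ NW R W) :
    disp t (g * k) ^ 2 ^ m = disp t g ^ 2 ^ m * (g * disp t k ^ 2 ^ m * g⁻¹) := by
  rw [disp_mul h.tt, (show Commute _ _ from s.Q_comm h (s.disp_mem' h hg.1 (NW_conj hg))
    (s.normalizes_Q h hg.1 (NW_conj hg) _ (s.disp_mem' h hk.1 (NW_conj hk)))).mul_pow, conj_pow]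

include hm

/-- An element of the stabiliser differs by an element of `Q` from one centralising `t`. -/
theorem exists_fix {g : G} (hg : g ∈ NW R W) (h0 : disp t g ^ 2 ^ m = 1) :
    ∃ q ∈ Q, q * g * t = t * (q * g) := by
  obtain ⟨y, hy, hyd⟩ := (hm _ (s.disp_mem' h hg.1 (NW_conj hg))).mp h0
  refine ⟨y, hy, ?_⟩
  have h1 : g * t * g⁻¹ = t * (y * y) := by
    rw [hyd]; unfold disp; rw [← mul_assoc t t, h.tt, one_mul]
  have h2 : y * t = t * y⁻¹ := by
    rw [← s.conj_eq_inv h hy]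
    calc y * t = (1 : G) * (y * t) := (one_mul _).symm
      _ = t * t * (y * t) := by rw [h.tt]
      _ = t * (t * y * t) := by group
  calc y * g * t = y * (g * t * g⁻¹) * g := by group
    _ = (y * t) * (y * y) * g := by rw [h1]; group
    _ = t * y⁻¹ * (y * y) * g := by rw [h2]
    _ = t * (y * g) := by group

/-- The kernel of the translations. -/
theorem mem_R_of_fix {g : G} (hg : g ∈ NW R W)
    {P : Subgroup G} (hP : IsPGroup 2 P) (hRP : R ≤ P) (hgP : g ∈ P) (h0 : disp t g ^ 2 ^ m = 1) :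
    g ∈ R := by
  obtain ⟨q, hq, hc⟩ := s.exists_fix h hm hg h0
  have hEP : P ⊓ centralizer ({t} : Set G) = E :=
    h.eq_E (hP.to_le inf_le_left) (le_inf (s.ER.trans hRP) h.EC) inf_le_right
  have : q * g ∈ E := hEP ▸ ⟨mul_mem (hRP (s.QR hq)) hgP, mem_centralizer_singleton_iff.mpr hc⟩
  have := mul_mem (inv_mem (s.QR hq)) (s.ER this)
  rwa [inv_mul_cancel_left] at this

end Str

end CfsgLib.JankoThompson
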