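import Cfsg.Agent.Lib.JankoThompson.Transfer
import Mathlib

/-!
A criterion by transfer into an abelian group.
-/

set_option autoImplicit false

namespace CfsgLib.JankoThompson

open Subgroup MulAction

variable {G : Type*} [Group G] [Finite G]

/-- If all conjugates of `t` in `H` have one nontrivial image of order two in an abelian group and the
count is odd, `G` is not simple. -/
theorem transfer_hom [IsSimpleGroup G] (hG : ¬ IsMulCommutative G) {H : Subgroup G} {A : Type*}
    [CommGroup A] (φ : H →* A) {t : G} (ht : t * t = 1) {a : A} (ha : a ≠ 1) (ha2 : a * a = 1)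
    (hconst : ∀ u (hu : u ∈ H), IsConj t u → φ ⟨u, hu⟩ = a) {d : ℕ} (hd : Odd d)
    (hcount : Nat.card ↥(centralizer ({t} : Set G)) *
      Nat.card {u : G // u ∈ H ∧ IsConj t u} = Nat.card H * d) : False := by
  classical
  let f : G →* A := MonoidHom.transfer φ
  have hidx : Odd H.index := by
    have h1 := card_fixed_mul H t
    have h2 : Nat.card {g : G // g⁻¹ * t * g ∈ H} =
        Nat.card ↥(centralizer ({t} : Set G)) * Nat.card {u : G // u ∈ H ∧ IsConj t u} :=
      card_preimage_conj t (H : Set G)
    rw [h2, hcount, mul_comm (Nat.card H)] at h1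
    have h3 := Nat.eq_of_mul_eq_mul_right Nat.card_pos h1
    have h4 := fixed_even H ht
    have hle : Nat.card {x : G ⧸ H // t • x = x} ≤ Nat.card (G ⧸ H) :=
      Nat.card_le_card_of_injective _ Subtype.val_injective
    rw [h3] at h4 hle
    rw [Subgroup.index, Nat.odd_iff]
    have := Nat.odd_iff.mp hd
    omega
  have hft : f t = a := by
    let := H.fintypeQuotientOfFiniteIndex
    show MonoidHom.transfer φ t = a
    rw [MonoidHom.transfer_eq_prod_quotient_orbitRel_zpowers_quot]
    have hterm : ∀ q : Quotient (orbitRel (zpowers t) (G ⧸ H)),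
        φ ⟨q.out.out⁻¹ * t ^ Function.minimalPeriod (t • ·) q.out * q.out.out,
            QuotientGroup.out_conj_pow_minimalPeriod_mem H t q.out⟩ =
          a ^ Function.minimalPeriod (t • ·) q.out := by
      intro q
      have hper : Function.IsPeriodicPt (t • ·) 2 q.out := by
        show (t • ·)^[2] q.out = q.out
        rw [smul_iterate]
        show (t ^ 2) • q.out = q.out
        rw [pow_two, ht, one_smul]
      rcases (Nat.dvd_prime Nat.prime_two).1 hper.minimalPeriod_dvd with h | h
      · refine Eq.trans (hconst _ _ ?_) (by rw [h, pow_one])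
        rw [h, pow_one]
        exact isConj_iff.mpr ⟨q.out.out⁻¹, by rw [inv_inv]⟩
      · refine Eq.trans ((congrArg φ (Subtype.ext ?_)).trans (map_one φ)) (by rw [h, pow_two, ha2])
        show q.out.out⁻¹ * t ^ Function.minimalPeriod (t • ·) q.out * q.out.out = 1
        rw [h, pow_two, ht, mul_one, inv_mul_cancel]
    rw [Finset.prod_congr rfl (fun q _ => hterm q), Finset.prod_pow_eq_pow_sum,
      ← index_eq_sum_minimalPeriod H t]
    obtain ⟨i, hi⟩ := hidx
    rw [hi, pow_succ, pow_mul, pow_two, ha2, one_pow, one_mul]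
  rcases IsSimpleGroup.eq_bot_or_eq_top_of_normal f.ker inferInstance with h | h
  · exact hG ⟨⟨fun x y => (MonoidHom.ker_eq_bot_iff _).mp h (by rw [map_mul, map_mul, mul_comm])⟩⟩
  · exact ha (hft ▸ MonoidHom.mem_ker.mp (h ▸ mem_top t))

end CfsgLib.JankoThompson
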